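import Groth.Agent.Lib.Chev24.AffPart
import Groth.Agent.Lib.UnipFix19.GalStable
import Groth.Agent.Lib.AlbTors16.Main
import Groth.Agent.Lib.EtSite.FpqcDescent

/-!
# Chevalley's theorem over perfect fields
-/

set_option autoImplicit false
set_option linter.all false
set_option backward.isDefEq.respectTransparency false
set_option maxHeartbeats 1000000
set_option synthInstance.maxHeartbeats 200000

universe u

open CategoryTheory CategoryTheory.Limits MonoidalCategory CartesianMonoidalCategory MonObj GrpObj
open AlgebraicGeometry VecGrp Topology TopologicalSpace GrothLib.UnipFix19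

noncomputable section

namespace GrothLib.Chev24

section BC

variable {S S' : Scheme.{u}} (f : S' ⟶ S)

/-- Base change preserves normal subgroups. -/
theorem isNormalHom_bc {G N : Over S} [GrpObj G] [GrpObj N] (i : N ⟶ G) (hN : AlgGrp.IsNormalHom i) :
    AlgGrp.IsNormalHom ((Over.pullback f).map i) := by
  intro T g x
  obtain ⟨n', hn'⟩ := hN (G ⊗ N) (fst G N) (snd G N)
  let t := lift g x ≫ Functor.LaxMonoidal.μ (Over.pullback f) G N
  refine ⟨t ≫ (Over.pullback f).map n', ?_⟩
  rw [Category.assoc, ← Functor.map_comp, ← hn']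
  simp only [Functor.map_mul, Functor.map_inv', Functor.map_comp, MonObj.comp_mul, GrpObj.comp_inv, t, Category.assoc,
    Functor.Monoidal.μ_fst, Functor.Monoidal.μ_snd_assoc, lift_fst, lift_snd_assoc]

/-- Base change preserves kernels. -/
theorem isKernel_bc {G N Q : Over S} [GrpObj Q] (i : N ⟶ G) (q : G ⟶ Q) (h : AlgGrp.IsKernel i q) :
    AlgGrp.IsKernel ((Over.pullback f).map i) ((Over.pullback f).map q) := by
  haveI : PreservesLimit (cospan q η[Q]) (Over.pullback f) :=
    ((Over.mapPullbackAdj f).rightAdjoint_preservesLimits.preservesLimitsOfShape).preservesLimit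
  have sq := IsPullback.map (Over.pullback f) h
  refine sq.of_iso (Iso.refl _) (Iso.refl _) (Functor.Monoidal.εIso (Over.pullback f)).symm (Iso.refl _) ?_ ?_ ?_ ?_
  · simp
  · simp only [Iso.refl_hom, Category.id_comp]
    exact toUnit_unique _ _
  · simp
  · simp only [Iso.refl_hom, Category.comp_id, Iso.symm_hom, Functor.Monoidal.εIso_inv]
    show _ = Functor.OplaxMonoidal.η _ ≫ Functor.LaxMonoidal.ε (Over.pullback f) ≫ (Over.pullback f).map η[Q]
    simp

end BC

variable {k K : Type u} [Field k] [Field K] (f : Spec (CommRingCat.of K) ⟶ Spec (CommRingCat.of k))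
variable [IsAlgClosed K] [PerfectField k] [IsIntegralHom f]

/-- A twist stable reduced closed subgroup over the algebraic closure of a perfect field descends. -/
theorem exists_descend' {G : Over (Spec (CommRingCat.of k))} [GrpObj G] [Smooth G.hom]
    {P : Over (Spec (CommRingCat.of K))} [GrpObj P] [Smooth P.hom] [ConnectedSpace P.left]
    (p : P ⟶ Red.bc f G) [IsMonHom p] [IsClosedImmersion p.left] (hp : TwistStable f p)
    (hn : AlgGrp.IsNormalHom p) :
    ∃ (N : Over (Spec (CommRingCat.of k))) (_ : GrpObj N) (n : N ⟶ G), IsMonHom n ∧ IsClosedImmersion n.left ∧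
      Smooth N.hom ∧ ConnectedSpace N.left ∧ AlgGrp.IsNormalHom n ∧
      ∃ e : Red.bc f N ≅ P, e.hom ≫ p = (Over.pullback f).map n := by
  haveI : Flat f := GrothLib.Flag27.flat_to_field f
  haveI : Surjective f := GrothLib.Flag27.surjective_to_field f
  haveI := GrothLib.Flag27.smooth_bc f G
  haveI : Mono p := Over.mono_of_mono_left p
  haveI : IsReduced P.left := GrothLib.RedSmooth.isReduced_of_smooth P.hom
  let pr : (Red.bc f G).left ⟶ G.left := pullback.fst G.hom f
  haveI : IsIntegralHom pr := MorphismProperty.pullback_fst (P := @IsIntegralHom) _ _ ‹_›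
  let C : Set G.left := pr.base '' Set.range p.left.base
  have hC : IsClosed C := pr.isClosedMap _ p.left.isClosedEmbedding.isClosed_range
  have hint : (Spec.preimage f).hom.IsIntegral := by
    have h := (HasAffineProperty.iff_of_isAffine (P := @IsIntegralHom) (f := f)).mp ‹_›
    exact (IsIntegralHom.SpecMap_iff (φ := Spec.preimage f)).1 (by rw [Spec.map_preimage]; infer_instance)
  have hsat : pr.base ⁻¹' C = Set.range p.left.base := by
    haveI : JacobsonSpace (Red.bc f G).left := LocallyOfFiniteType.jacobsonSpace (Red.bc f G).hom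
    refine Set.Subset.antisymm ?_ fun x hx => ⟨x, hx, rfl⟩
    have hcl : ∀ x : (Red.bc f G).left, IsClosed ({x} : Set _) → pr x ∈ C → x ∈ Set.range p.left.base := by
      rintro x hx ⟨z, ⟨w, rfl⟩, hz⟩
      have hwx : IsClosed ({pr x} : Set G.left) := by
        have := pr.isClosedMap _ hx
        rwa [Set.image_singleton] at this
      haveI : JacobsonSpace P.left := LocallyOfFiniteType.jacobsonSpace P.hom
      obtain ⟨w₁, hw₁, hw₁c⟩ := nonempty_inter_closedPoints (X := P.left)
        (Z := (p.left ≫ pr).base ⁻¹' {pr x}) ⟨w, hz⟩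
        (hwx.preimage (p.left ≫ pr).continuous).isLocallyClosed
      obtain ⟨a, ha⟩ := GrothLib.GrpSchField.exists_point_of_isClosed (k := K) K (X := Red.bc f G) hx
      obtain ⟨b, hb⟩ := GrothLib.GrpSchField.exists_point_of_isClosed (k := K) K (X := P) hw₁c
      have hal : a.left ≫ pullback.snd G.hom f = 𝟙 _ := (Over.w a).trans (by simp)
      have hbl : b.left ≫ P.hom = 𝟙 _ := (Over.w b).trans (by simp)
      have h1 : (a.left ≫ pr) ≫ G.hom = f := by
        rw [Category.assoc, pullback.condition, reassoc_of% hal]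
      have h2 : (b.left ≫ p.left ≫ pr) ≫ G.hom = f := by
        rw [Category.assoc, Category.assoc, pullback.condition]
        show b.left ≫ p.left ≫ (Red.bc f G).hom ≫ f = f
        rw [Over.w_assoc p, reassoc_of% hbl]
      obtain ⟨σ, hσ, hσi, hσab⟩ := exists_auto f hint G.hom (b.left ≫ p.left ≫ pr) (a.left ≫ pr) h2 h1 (by
        show pr (p.left (b.left (IsLocalRing.closedPoint K))) = pr (a.left (IsLocalRing.closedPoint K))
        erw [hb, ha]
        exact hw₁)
      haveI := hσi
      obtain ⟨y', hy', hy'2⟩ := exists_twist_pt f hp σ hσ b.left hbl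
      refine ⟨y' (IsLocalRing.closedPoint K), ?_⟩
      have : y' ≫ p.left = a.left := by
        refine pullback.hom_ext ?_ ?_
        · rw [Category.assoc, hy'2]
          exact hσab
        · rw [Category.assoc, hal]
          show y' ≫ p.left ≫ (Red.bc f G).hom = _
          rw [Over.w p, hy']
          rfl
      rw [← ha, ← this]; rfl
    intro x hx
    have : IsClosed (pr.base ⁻¹' C) := hC.preimage pr.continuous
    rw [← (JacobsonSpace.closure_inter_closedPoints this)] at hx
    refine closure_minimal ?_ p.left.isClosedEmbedding.isClosed_range hx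
    rintro z ⟨hz, hzc⟩
    exact hcl z hzc hz
  let J := Scheme.IdealSheafData.vanishingIdeal (⟨C, hC⟩ : TopologicalSpace.Closeds G.left)
  let N : Over (Spec (CommRingCat.of k)) := Over.mk (J.subschemeι ≫ G.hom)
  let n : N ⟶ G := Over.homMk J.subschemeι rfl
  haveI : IsReduced N.left := RedSub.isReduced_subscheme_vanishingIdeal _
  haveI : IsClosedImmersion n.left := inferInstanceAs (IsClosedImmersion J.subschemeι)
  haveI : Mono n := Over.mono_of_mono_left n
  have hnr : Set.range n.left = C := RedSub.range_subschemeι_vanishingIdeal _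
  haveI : IsReduced (Red.bc f N).left := GrothLib.GrpSchField.isReduced_pullback N.hom f
  haveI : IsClosedImmersion ((Over.pullback f).map n).left := GrothLib.Flag27.property_map f n ‹IsClosedImmersion n.left›
  have hnK : Set.range ((Over.pullback f).map n).left.base = Set.range p.left.base := by
    rw [← hsat, ← hnr]
    ext z
    constructor
    · rintro ⟨r, rfl⟩
      refine ⟨pullback.fst N.hom f r, ?_⟩
      show n.left (pullback.fst N.hom f r) = pullback.fst G.hom f (((Over.pullback f).map n).left r)
      rw [← Scheme.Hom.comp_apply, (GrothLib.Flag27.isPullback_map f n).w]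
      rfl
    · rintro ⟨r, hr⟩
      obtain ⟨t, -, ht⟩ := Scheme.exists_preimage_of_isPullback (GrothLib.Flag27.isPullback_map f n) r z hr
      exact ⟨t, ht⟩
  obtain ⟨l, hl⟩ := RedSub.exists_lift ((Over.pullback f).map n).left p.left hnK.le
  obtain ⟨l', hl'⟩ := RedSub.exists_lift p.left ((Over.pullback f).map n).left hnK.ge
  let e₁ : Red.bc f N ⟶ P := Over.homMk l (by rw [← Over.w p, ← Category.assoc, hl, Over.w])
  let e₂ : P ⟶ Red.bc f N := Over.homMk l' (by rw [← Over.w ((Over.pullback f).map n), ← Category.assoc, hl', Over.w])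
  have he₁ : e₁ ≫ p = (Over.pullback f).map n := Over.OverMorphism.ext hl
  have he₂ : e₂ ≫ (Over.pullback f).map n = p := Over.OverMorphism.ext hl'
  haveI : Mono ((Over.pullback f).map n) := Over.mono_of_mono_left _
  let e : Red.bc f N ≅ P := ⟨e₁, e₂, by rw [← cancel_mono ((Over.pullback f).map n), Category.assoc, he₂, he₁, Category.id_comp],
    by rw [← cancel_mono p, Category.assoc, he₁, he₂, Category.id_comp]⟩
  have test : ∀ {T : Over (Spec (CommRingCat.of k))} [IsReduced T.left] (z : T ⟶ G),
      (∃ z' : Red.bc f T ⟶ P, z' ≫ p = (Over.pullback f).map z) → ∃ t : T ⟶ N, t ≫ n = z := by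
    intro T _ z hz
    obtain ⟨z', hz'⟩ := hz
    have hsub : Set.range z.left.base ⊆ Set.range n.left.base := by
      rintro _ ⟨t, rfl⟩
      haveI : Surjective (pullback.fst T.hom f) := MorphismProperty.pullback_fst (P := @Surjective) _ _ ‹_›
      obtain ⟨t', rfl⟩ := (pullback.fst T.hom f).surjective t
      have hn' : z.left (pullback.fst T.hom f t') ∈ C := by
        refine ⟨((Over.pullback f).map z).left t', ⟨z'.left t', ?_⟩, ?_⟩
        · rw [← Scheme.Hom.comp_apply, ← Over.comp_left, hz']
        · show pullback.fst G.hom f (((Over.pullback f).map z).left t') = _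
          rw [← Scheme.Hom.comp_apply (pullback.fst T.hom f), (GrothLib.Flag27.isPullback_map f z).w]
          rfl
      rw [← hnr] at hn'
      exact hn'
    obtain ⟨t, ht⟩ := RedSub.exists_lift z.left n.left hsub
    exact ⟨Over.homMk t (by rw [← Over.w n, ← Category.assoc, ht, Over.w z]), Over.OverMorphism.ext ht⟩
  haveI : IsReduced (N ⊗ N).left := GrothLib.GrpSchField.isReduced_pullback N.hom N.hom
  haveI : IsReduced (G ⊗ N).left := by
    haveI : IsReduced G.left := GrothLib.RedSmooth.isReduced_of_smooth G.hom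
    exact GrothLib.GrpSchField.isReduced_pullback G.hom N.hom
  haveI : IsReduced (𝟙_ (Over (Spec (CommRingCat.of k)))).left := inferInstanceAs (IsReduced (Spec (CommRingCat.of k)))
  obtain ⟨m, hm⟩ := test ((fst N N ≫ n) * (snd N N ≫ n))
    ⟨((Over.pullback f).map (fst N N) ≫ e₁) * ((Over.pullback f).map (snd N N) ≫ e₁), by
      rw [MonObj.mul_comp, Category.assoc, Category.assoc, he₁, Functor.map_mul, Functor.map_comp, Functor.map_comp]⟩
  obtain ⟨v, hv⟩ := test n⁻¹ ⟨e₁⁻¹, by rw [GrpObj.inv_comp, he₁, Functor.map_inv']⟩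
  obtain ⟨o, ho⟩ := test (1 : 𝟙_ (Over (Spec (CommRingCat.of k))) ⟶ G) ⟨1, by rw [MonObj.one_comp, Functor.map_one]⟩
  obtain ⟨grp, hmon⟩ := GrothLib.EssFree.exists_grpObj_of_mono n
    (fun T => ⟨toUnit T ≫ o, by rw [Category.assoc, ho, MonObj.comp_one]⟩)
    (fun T a b => ⟨lift a b ≫ m, by rw [Category.assoc, hm, MonObj.comp_mul, lift_fst_assoc, lift_snd_assoc]⟩)
    (fun T a => ⟨a ≫ v, by rw [Category.assoc, hv, GrpObj.comp_inv]⟩)
  haveI := hmon
  haveI : LocallyOfFiniteType N.hom := by rw [← Over.w n]; infer_instance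
  haveI : Smooth N.hom := GrothLib.GrpSchField.smooth_of_perfectField_of_isReduced N
  haveI : ConnectedSpace N.left := by
    haveI : Surjective (pullback.fst N.hom f) := MorphismProperty.pullback_fst (P := @Surjective) _ _ ‹_›
    haveI : IsIso e.inv.left := ((Over.forget _).mapIso e.symm).isIso_hom
    haveI : ConnectedSpace ↥(pullback N.hom f) := e.inv.left.surjective.connectedSpace e.inv.left.continuous
    exact (pullback.fst N.hom f).surjective.connectedSpace (pullback.fst N.hom f).continuous
  refine ⟨N, grp, n, hmon, inferInstance, inferInstance, inferInstance, ?_, e, he₁⟩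
  obtain ⟨w, hw⟩ := test (fst G N * (snd G N ≫ n) * (fst G N)⁻¹) (by
    obtain ⟨z', hz'⟩ := hn _ ((Over.pullback f).map (fst G N)) ((Over.pullback f).map (snd G N) ≫ e₁)
    refine ⟨z', ?_⟩
    rw [← hz', Category.assoc, he₁, Functor.map_mul, Functor.map_mul, Functor.map_inv', Functor.map_comp])
  intro T g t
  exact ⟨lift g t ≫ w, by
    rw [Category.assoc, hw, MonObj.comp_mul, MonObj.comp_mul, GrpObj.comp_inv, lift_fst, lift_snd_assoc]⟩


/-- The largest connected affine normal subgroup over the algebraic closure is twist stable. -/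
theorem twistStable_affPart {G : Over (Spec (CommRingCat.of k))} [GrpObj G]
    {P : Over (Spec (CommRingCat.of K))} [GrpObj P] (p : P ⟶ Red.bc f G) [IsMonHom p] [IsClosedImmersion p.left]
    [Smooth P.hom] [ConnectedSpace P.left] [IsAffine P.left] (hn : AlgGrp.IsNormalHom p)
    (hmax : ∀ (N' : Over (Spec (CommRingCat.of K))) [GrpObj N'] (i' : N' ⟶ Red.bc f G) [IsMonHom i']
      [IsClosedImmersion i'.left] [Smooth N'.hom] [ConnectedSpace ↥N'.left] [IsAffine N'.left],
      AlgGrp.IsNormalHom i' → ∃ g : N' ⟶ P, g ≫ p = i') :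
    TwistStable f p := by
  intro σ hσ hσi
  let ε := GrothLib.GrpLim14.E hσ G
  haveI := (GrothLib.GrpLim14.isMonHom_E hσ G).1
  haveI := (GrothLib.GrpLim14.isMonHom_E hσ G).2
  haveI : IsIso ε.hom.left := ((Over.forget _).mapIso ε).isIso_hom
  haveI : IsClosedImmersion ((Over.pullback σ).map p ≫ ε.hom).left := by rw [Over.comp_left]; infer_instance
  haveI := GrothLib.Flag27.smooth_bc σ P
  haveI := GrothLib.Flag27.isAffine_bc σ P
  haveI : ConnectedSpace ↥(Red.bc σ P).left := GrothLib.Flag27.connectedSpace_bc σ P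
  refine hmax (Red.bc σ P) ((Over.pullback σ).map p ≫ ε.hom) fun T g x => ?_
  obtain ⟨n', hn'⟩ := isNormalHom_bc σ p hn T (g ≫ ε.inv) x
  refine ⟨n', ?_⟩
  rw [← Category.assoc n', ← hn', MonObj.mul_comp, MonObj.mul_comp, GrpObj.inv_comp, Category.assoc, Category.assoc,
    Iso.inv_hom_id, Category.comp_id]

include f in
/-- Chevalley's theorem over a perfect field. -/
theorem exists_chevalley (G : Over (Spec (CommRingCat.of k))) [GrpObj G] [Smooth G.hom]
    [QuasiCompact G.hom] [ConnectedSpace G.left] :
    ∃ (L : Over (Spec (CommRingCat.of k))) (_ : GrpObj L) (l : L ⟶ G) (Q : Over (Spec (CommRingCat.of k)))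
      (_ : GrpObj Q) (q : G ⟶ Q), IsMonHom l ∧ IsClosedImmersion l.left ∧ IsAffine L.left ∧ Smooth L.hom ∧
      ConnectedSpace L.left ∧ AlgGrp.IsNormalHom l ∧ IsMonHom q ∧ Surjective q.left ∧ Flat q.left ∧
      AlgGrp.IsKernel l q ∧ IsProper Q.hom ∧ Smooth Q.hom ∧ ConnectedSpace Q.left := by
  haveI : Flat f := GrothLib.Flag27.flat_to_field f
  haveI : Surjective f := GrothLib.Flag27.surjective_to_field f
  haveI := GrothLib.Flag27.smooth_bc f G
  haveI : QuasiCompact (Red.bc f G).hom := MorphismProperty.pullback_snd (P := @QuasiCompact) G.hom f ‹_›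
  haveI : ConnectedSpace ↥(Red.bc f G).left := GrothLib.Flag27.connectedSpace_bc f G
  obtain ⟨P, _, p, hp, hpc, hPs, hPc, hPa, hPn, hmax⟩ := exists_affPart (G := Red.bc f G)
  haveI := hp; haveI := hpc; haveI := hPs; haveI := hPc; haveI := hPa
  obtain ⟨L, _, l, hl, hlc, hLs, hLc, hLn, e, he⟩ := exists_descend' f p (twistStable_affPart f p hPn hmax) hPn
  haveI := hl; haveI := hlc; haveI := hLs; haveI := hLc
  haveI : IsSeparated G.hom := GrpSchField.isSeparated G
  haveI : IsAffine L.left := by
    haveI : IsIso e.hom.left := ((Over.forget _).mapIso e).isIso_hom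
    haveI : IsAffine (Red.bc f L).left := IsAffine.of_isIso e.hom.left
    haveI : IsAffineHom (pullback.snd L.hom f) := isAffineHom_of_isAffine (Red.bc f L).hom
    haveI : IsAffineHom L.hom := MorphismProperty.of_pullback_snd_of_descendsAlong (P := @IsAffineHom)
      (Q := @Surjective ⊓ @Flat ⊓ @QuasiCompact) (f := L.hom) (g := f) ⟨⟨‹_›, ‹_›⟩, inferInstance⟩ ‹_›
    exact isAffine_of_isAffineHom L.hom
  obtain ⟨Q, _, q, hq, hQs, hQq, hqf, hqs, -, hker⟩ := exists_quot l hLn
  haveI := hq; haveI := hQs; haveI := hQq; haveI := hqf; haveI := hqs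
  haveI : ConnectedSpace Q.left := q.left.surjective.connectedSpace q.left.continuous
  haveI : IsProper Q.hom := by
    haveI : IsAffine (Red.bc f L).left := GrothLib.Flag27.isAffine_bc f L
    haveI := GrothLib.Flag27.smooth_bc f L
    haveI : ConnectedSpace ↥(Red.bc f L).left := GrothLib.Flag27.connectedSpace_bc f L
    haveI := GrothLib.Flag27.smooth_bc f Q
    haveI : QuasiCompact (Red.bc f Q).hom := MorphismProperty.pullback_snd (P := @QuasiCompact) Q.hom f ‹_›
    haveI : Flat ((Over.pullback f).map q).left := GrothLib.Flag27.property_map f q hqf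
    have h : IsProper (Red.bc f Q).hom := isProper_quotient ((Over.pullback f).map l)
      (fun N' _ i' _ _ _ _ _ hN' => by
        obtain ⟨g, hg⟩ := hmax N' i' hN'
        exact ⟨g ≫ e.inv, by rw [← he, Category.assoc, Iso.inv_hom_id_assoc, hg]⟩)
      ((Over.pullback f).map q) (isKernel_bc f l q hker)
    exact MorphismProperty.of_pullback_snd_of_descendsAlong (P := @IsProper)
      (Q := GrothLib.EtSite.fpqcCov) (f := Q.hom) (g := f) ⟨⟨‹_›, ‹_›⟩, inferInstance⟩ h
  exact ⟨L, inferInstance, l, Q, inferInstance, q, hl, hlc, inferInstance, hLs, hLc, hLn, hq, hqs, hqf, hker,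
    inferInstance, hQs, inferInstance⟩

/-- Subgroups with proper quotient contain connected affine subgroups. -/
theorem factor_of_proper_quotient {G L L' Q' : Over (Spec (CommRingCat.of k))} [GrpObj G] [GrpObj L] [GrpObj Q']
    (l : L ⟶ G) [IsMonHom l] [Smooth L.hom] [ConnectedSpace L.left] [IsAffine L.left] (l' : L' ⟶ G)
    (q' : G ⟶ Q') [IsMonHom q'] [IsProper Q'.hom] (h : AlgGrp.IsKernel l' q') :
    ∃ φ : L ⟶ L', φ ≫ l' = l := by
  haveI : IsReduced L.left := GrothLib.Rigidity.isReduced_of_smooth L.hom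
  exact GrpSchField.exists_lift_of_comp_eq_one h l (GrothLib.AlbTors16.hom_eq_one_affine_proper (l ≫ q'))

end GrothLib.Chev24
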