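import Groth.Agent.Lib.Chev24.Retract
import Groth.Agent.Lib.AffMono14.Basic
import Groth.Agent.Lib.RedSub.Basic
import Groth.Agent.Lib.Induce27.Neutral

/-!
# Quasi-complements of abelian subvarieties
-/

set_option autoImplicit false
set_option linter.all false
set_option backward.isDefEq.respectTransparency false
set_option maxHeartbeats 1000000
set_option synthInstance.maxHeartbeats 200000

universe u

open CategoryTheory CategoryTheory.Limits MonoidalCategory CartesianMonoidalCategory MonObj GrpObj
open AlgebraicGeometry VecGrp Topology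

noncomputable section

namespace GrothLib.Chev24

variable {k : Type u} [Field k] [IsAlgClosed k]

theorem toUnit_unit {Y X : Over (Spec (CommRingCat.of k))} (p : pt k k ⟶ X) :
    p ≫ toUnit X ≫ unitIso.hom = 𝟙 (pt k k) := by
  rw [← cancel_mono (unitIso (k := k)).inv]
  exact toUnit_unique _ _

/-- The neutral component of the reduced kernel is a normal quasi-complement. -/
theorem exists_quasiComplement (G : Over (Spec (CommRingCat.of k))) [GrpObj G] [Smooth G.hom] [QuasiCompact G.hom]
    [ConnectedSpace G.left] (A : Over (Spec (CommRingCat.of k))) [GrpObj A] [IsProper A.hom] [Smooth A.hom]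
    [ConnectedSpace A.left] (i : A ⟶ G) [IsMonHom i] [IsClosedImmersion i.left] :
    ∃ (H : Over (Spec (CommRingCat.of k))) (_ : GrpObj H) (h : H ⟶ G), IsMonHom h ∧ IsClosedImmersion h.left ∧
      Smooth H.hom ∧ ConnectedSpace ↥H.left ∧ AlgGrp.IsNormalHom h ∧ Surjective ((i ⊗ₘ h) ≫ μ[G]).left ∧
      IsFinite (pullback.fst i.left h.left ≫ A.hom) := by
  classical
  haveI : IsSeparated G.hom := GrpSchField.isSeparated G
  haveI : IsIntegral G.left := Euler.isIntegral_of_smooth_connected k G.hom
  haveI : IsIntegral A.left := Euler.isIntegral_of_smooth_connected k A.hom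
  haveI := Cube.geometricallyIntegral_of_isAlgClosed A
  haveI : IsCommMonObj A := Cube.isCommMonObj_abVar (A := A)
  haveI : Mono i := Over.mono_of_mono_left i
  have hA : AntiAffine.IsAntiAffine A := Cube.isAntiAffine_of_proper (X := A) η[A]
  have hcen : ∀ {W : Over (Spec (CommRingCat.of k))} (a : W ⟶ A) (b : W ⟶ G), (a ≫ i) * b = b * (a ≫ i) :=
    fun a b => hA.central i a b
  obtain ⟨m, r, hm, hr, hir⟩ := exists_retraction G A i
  haveI := hr
  -- the kernel and its reduced neutral component
  let Kn := pullback r η[A]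
  let inK : Kn ⟶ G := pullback.fst r η[A]
  have hK : AlgGrp.IsKernel inK r := by
    show IsPullback _ _ _ _
    rw [Subsingleton.elim (toUnit _) (pullback.snd r η[A])]
    exact IsPullback.of_hasPullback r η[A]
  obtain ⟨_, _⟩ := GrpDeligne.exists_grpObj_kernel r inK hK
  have hsqK := (IsPullback.of_hasPullback r η[A]).map (Over.forget _)
  haveI := GrothLib.GrpSchField.unit_isClosedImmersion A
  haveI : IsClosedImmersion inK.left :=
    MorphismProperty.of_isPullback hsqK.flip (inferInstanceAs (IsClosedImmersion η[A].left))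
  haveI : Mono inK := Over.mono_of_mono_left inK
  haveI : LocallyOfFiniteType Kn.hom := by rw [← Over.w inK]; infer_instance
  haveI : QuasiCompact Kn.hom := by rw [← Over.w inK]; infer_instance
  obtain ⟨Kr, _, jr, hjr, hjrc, hKr, hjrs⟩ := AffMono14.exists_red Kn
  haveI := hjr; haveI := hjrc; haveI := hKr; haveI := hjrs
  haveI : Mono jr := Over.mono_of_mono_left jr
  haveI : LocallyOfFiniteType Kr.hom := by rw [← Over.w jr]; infer_instance
  haveI : QuasiCompact Kr.hom := by rw [← Over.w jr]; infer_instance
  haveI : Smooth Kr.hom := GrpSchField.smooth_of_perfectField_of_isReduced Kr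
  haveI : IsSeparated Kr.hom := GrpSchField.isSeparated Kr
  obtain ⟨H, _, j₀, hj₀, hj₀o, hrange, hHs, -⟩ := GrothLib.Neutral.exists_neutralPart Kr
  haveI := hj₀; haveI := hj₀o; haveI := hHs
  let p : ↥(𝟙_ (Over (Spec (CommRingCat.of k)))).left := IsLocalRing.closedPoint k
  have hrg : Set.range j₀.left.base = connectedComponent (η[Kr].left.base p) := by
    rw [hrange, GrothLib.Induce27.neutralSet_eq Kr p]
  haveI : IsClosedImmersion j₀.left := IsClosedImmersion.of_isPreimmersion j₀.left (by
    show IsClosed (Set.range j₀.left.base)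
    rw [hrg]; exact isClosed_connectedComponent)
  haveI : Mono j₀ := Over.mono_of_mono_left j₀
  haveI : ConnectedSpace H.left := by
    haveI : ConnectedSpace (Set.range j₀.left.base) := Subtype.connectedSpace (by
      rw [hrg]; exact isConnected_connectedComponent)
    exact j₀.left.isOpenEmbedding.toIsEmbedding.toHomeomorph.symm.surjective.connectedSpace
      j₀.left.isOpenEmbedding.toIsEmbedding.toHomeomorph.symm.continuous
  let h : H ⟶ G := j₀ ≫ jr ≫ inK
  haveI : IsClosedImmersion h.left := inferInstanceAs (IsClosedImmersion (j₀.left ≫ jr.left ≫ inK.left))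
  haveI : IsMonHom h := inferInstance
  have hhr : h ≫ r = 1 := by
    simp only [h, Category.assoc]
    rw [GrpSchField.comp_eq_one hK, MonObj.comp_one, MonObj.comp_one]
  -- normality
  have hnorm : AlgGrp.IsNormalHom h := by
    let c : G ⊗ H ⟶ G := fst G H * (snd G H ≫ h) * (fst G H)⁻¹
    have hc : c ≫ r = 1 := by
      simp only [c, MonObj.mul_comp, GrpObj.inv_comp, Category.assoc, hhr, MonObj.comp_one, _root_.mul_one,
        mul_inv_cancel]
    obtain ⟨c₁, hc₁⟩ := GrpSchField.exists_lift_of_comp_eq_one hK c hc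
    haveI : IsReduced H.left := GrothLib.Rigidity.isReduced_of_smooth H.hom
    haveI : IsReduced (G ⊗ H).left := GrothLib.GrpSchField.isReduced_pullback G.hom H.hom
    obtain ⟨l, hl⟩ := GrothLib.RedSub.exists_lift c₁.left jr.left (fun y _ => hjrs.surj y)
    let c₂ : G ⊗ H ⟶ Kr := Over.homMk l (by rw [← Over.w jr, reassoc_of% hl]; exact Over.w c₁)
    have hc₂ : c₂ ≫ jr ≫ inK = c := by
      rw [← Category.assoc, show c₂ ≫ jr = c₁ from Over.OverMorphism.ext hl, hc₁]
    haveI : ConnectedSpace (G ⊗ H).left :=
      GrothLib.Neutral.connectedSpace_pullback G.hom H.hom η[G].left (Over.w η[G])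
    have hsub : Set.range c₂.left ⊆ Set.range j₀.left := by
      show Set.range c₂.left.base ⊆ Set.range j₀.left.base
      rw [hrg]
      refine (isPreconnected_range c₂.left.continuous).subset_connectedComponent
        ⟨(lift (1 : 𝟙_ _ ⟶ G) (1 : 𝟙_ _ ⟶ H)).left p, ?_⟩
      have e : lift (1 : 𝟙_ _ ⟶ G) (1 : 𝟙_ _ ⟶ H) ≫ c₂ = η[Kr] := by
        haveI : Mono (jr ≫ inK) := mono_comp jr inK
        rw [← cancel_mono (jr ≫ inK), Category.assoc, hc₂]
        simp only [c, MonObj.comp_mul, GrpObj.comp_inv, lift_fst, lift_snd_assoc, MonObj.one_comp, _root_.one_mul,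
          _root_.mul_one, inv_one]
        rw [GenSubgrp14.eta_eq_one, MonObj.one_comp]
      rw [← e]; rfl
    let c₃ : G ⊗ H ⟶ H := Over.homMk (IsOpenImmersion.lift j₀.left c₂.left hsub) (by
      rw [← Over.w j₀, ← Category.assoc, IsOpenImmersion.lift_fac]
      exact Over.w c₂)
    have hc₃ : c₃ ≫ j₀ = c₂ := Over.OverMorphism.ext (IsOpenImmersion.lift_fac _ _ _)
    intro T g x
    refine ⟨lift g x ≫ c₃, ?_⟩
    rw [Category.assoc, show c₃ ≫ h = c by rw [← hc₂, ← hc₃]; simp only [h, Category.assoc]]
    simp only [c, MonObj.comp_mul, GrpObj.comp_inv, lift_fst, lift_snd_assoc]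
  refine ⟨H, inferInstance, h, inferInstance, inferInstance, hHs, inferInstance, hnorm, ?_, ?_⟩
  · -- surjectivity
    let P : A ⊗ H ⟶ G := (i ⊗ₘ h) ≫ μ[G]
    have hP : ∀ {W : Over (Spec (CommRingCat.of k))} (a : W ⟶ A) (b : W ⟶ H),
        lift a b ≫ P = (a ≫ i) * (b ≫ h) := fun a b => by
      rw [Hom.mul_def, ← Category.assoc, lift_map]
    have hPmul : IsMonHom P := by
      refine GrpSchField.isMonHom_of_mul P ?_
      apply GrothLib.GrpSchField.hom_ext_points₂
      intro W x y
      rw [lift_map_assoc, ← Hom.mul_def, ← Category.assoc, ← Hom.mul_def]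
      obtain ⟨a₁, b₁, rfl⟩ : ∃ a b, lift a b = x := ⟨_, _, GrothLib.GrpSchField.lift_fst_snd_comp x⟩
      obtain ⟨a₂, b₂, rfl⟩ : ∃ a b, lift a b = y := ⟨_, _, GrothLib.GrpSchField.lift_fst_snd_comp y⟩
      have e : (lift a₁ b₁ * lift a₂ b₂ : W ⟶ A ⊗ H) = lift (a₁ * a₂) (b₁ * b₂) := by
        apply CartesianMonoidalCategory.hom_ext <;> simp [MonObj.mul_comp]
      rw [e, hP, hP, hP, MonObj.mul_comp, MonObj.mul_comp, _root_.mul_assoc, ← _root_.mul_assoc (a₂ ≫ i),
        hcen a₂ (b₁ ≫ h), _root_.mul_assoc, _root_.mul_assoc]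
    haveI := hPmul
    haveI : QuasiCompact H.hom := by rw [← Over.w h]; infer_instance
    haveI : QuasiCompact P.left := by
      haveI : QuasiCompact (A ⊗ H).hom := inferInstanceAs (QuasiCompact (pullback.fst A.hom H.hom ≫ A.hom))
      haveI : QuasiCompact (P.left ≫ G.hom) := by rw [Over.w P]; infer_instance
      exact QuasiCompact.of_comp P.left G.hom
    haveI : LocallyOfFiniteType (A ⊗ H).hom :=
      inferInstanceAs (LocallyOfFiniteType (pullback.fst A.hom H.hom ≫ A.hom))
    have hclosed : IsClosed (Set.range P.left) := GrothLib.Neutral.isClosed_range_hom P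
    haveI : IsLocallyNoetherian Kr.left := LocallyOfFiniteType.isLocallyNoetherian Kr.hom
    haveI : CompactSpace Kr.left := QuasiCompact.compactSpace_of_compactSpace Kr.hom
    haveI : AlgebraicGeometry.IsNoetherian Kr.left := {}
    haveI hfin : Finite (irreducibleComponents (Kr.left : Type u)) :=
      TopologicalSpace.NoetherianSpace.finite_irreducibleComponents.to_subtype
    haveI : JacobsonSpace Kr.left := LocallyOfFiniteType.jacobsonSpace Kr.hom
    have hrep : ∀ Z : irreducibleComponents (Kr.left : Type u), ∃ c : pt k k ⟶ Kr,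
        c.left (IsLocalRing.closedPoint k) ∈ (Z : Set Kr.left) := fun Z => by
      obtain ⟨y, hy, hyc⟩ := nonempty_inter_closedPoints Z.2.1.1
        (isClosed_of_mem_irreducibleComponents Z.1 Z.2).isLocallyClosed
      obtain ⟨c, hc⟩ := exists_point (X := Kr) hyc
      exact ⟨c, hc ▸ hy⟩
    choose c hc using hrep
    let τ : irreducibleComponents (Kr.left : Type u) → (G ⟶ G) := fun Z =>
      𝟙 G * (toUnit G ≫ unitIso.hom ≫ c Z ≫ jr ≫ inK)
    haveI hτ : ∀ Z, IsIso (τ Z) := fun Z => by
      refine ⟨𝟙 G * (toUnit G ≫ unitIso.hom ≫ (c Z ≫ jr ≫ inK)⁻¹), ?_, ?_⟩ <;>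
      · simp only [τ, MonObj.comp_mul, Category.comp_id, ← Category.assoc]
        rw [toUnit_unique (_ ≫ toUnit G) (toUnit G)]
        simp [GrpObj.comp_inv, _root_.mul_assoc]
    have hclZ : IsClosed (⋃ Z, (τ Z).left '' Set.range P.left) := isClosed_iUnion_of_finite fun Z => by
      haveI : IsIso (τ Z).left := inferInstanceAs (IsIso ((Over.forget _).map (τ Z)))
      exact (τ Z).left.homeomorph.isClosedMap _ hclosed
    haveI : JacobsonSpace G.left := LocallyOfFiniteType.jacobsonSpace G.hom
    have hcover : closedPoints G.left ⊆ ⋃ Z, (τ Z).left '' Set.range P.left := by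
      intro x hx
      obtain ⟨g, rfl⟩ := exists_point (X := G) hx
      haveI hps : Surjective ((𝟙 A : A ⟶ A) ^ m).left := surjective_pow hm A hA
      haveI : JacobsonSpace A.left := LocallyOfFiniteType.jacobsonSpace A.hom
      obtain ⟨y, hy, hyc⟩ := nonempty_inter_closedPoints
        (Z := ((𝟙 A : A ⟶ A) ^ m).left ⁻¹' {(g ≫ r).left (IsLocalRing.closedPoint k)})
        (by obtain ⟨y, hy⟩ := hps.surj ((g ≫ r).left (IsLocalRing.closedPoint k)); exact ⟨y, hy⟩)
        ((isClosed_point (g ≫ r)).preimage (Scheme.Hom.continuous _)).isLocallyClosed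
      obtain ⟨b, rfl⟩ := exists_point (X := A) hyc
      have hb : b ^ m = g ≫ r := by
        refine point_ext ?_
        have e : b ^ m = b ≫ (𝟙 A : A ⟶ A) ^ m := by rw [MonObj.comp_pow, Category.comp_id]
        rw [e, Over.comp_left, Scheme.Hom.comp_apply]
        exact hy
      let u : pt k k ⟶ G := (b ≫ i)⁻¹ * g
      have hu : u ≫ r = 1 := by
        rw [MonObj.mul_comp, GrpObj.inv_comp, Category.assoc, hir, MonObj.comp_pow, Category.comp_id, hb,
          inv_mul_cancel]
      obtain ⟨u₁, hu₁⟩ := GrpSchField.exists_lift_of_comp_eq_one hK u hu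
      haveI : IsReduced (pt k k).left := inferInstanceAs (IsReduced (Spec (CommRingCat.of k)))
      obtain ⟨l, hl⟩ := GrothLib.RedSub.exists_lift u₁.left jr.left (fun y _ => hjrs.surj y)
      let u₂ : pt k k ⟶ Kr := Over.homMk l (by rw [← Over.w jr, reassoc_of% hl]; exact Over.w u₁)
      have hu₂ : u₂ ≫ jr = u₁ := Over.OverMorphism.ext hl
      let Z : irreducibleComponents (Kr.left : Type u) :=
        ⟨irreducibleComponent (u₂.left (IsLocalRing.closedPoint k)), irreducibleComponent_mem_irreducibleComponents _⟩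
      let v : pt k k ⟶ Kr := u₂ * (c Z)⁻¹
      have hv : v.left (IsLocalRing.closedPoint k) ∈ connectedComponent (η[Kr].left.base p) := by
        let T : Kr ⟶ Kr := 𝟙 Kr * (toUnit Kr ≫ unitIso.hom ≫ (c Z)⁻¹)
        have hT : ∀ d : pt k k ⟶ Kr, T.left (d.left (IsLocalRing.closedPoint k)) =
            (d * (c Z)⁻¹).left (IsLocalRing.closedPoint k) := fun d => by
          rw [← Scheme.Hom.comp_apply, ← Over.comp_left]
          simp only [T, MonObj.comp_mul, Category.comp_id]
          rw [reassoc_of% (toUnit_unit (Y := Kr) d)]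
        have h1 : u₂.left (IsLocalRing.closedPoint k) ∈ connectedComponent ((c Z).left (IsLocalRing.closedPoint k)) := by
          have h2 : (c Z).left (IsLocalRing.closedPoint k) ∈ connectedComponent (u₂.left (IsLocalRing.closedPoint k)) :=
            irreducibleComponent_subset_connectedComponent (hc Z)
          rw [← connectedComponent_eq h2]
          exact mem_connectedComponent
        have h3 := T.left.continuous.image_connectedComponent_subset _ ⟨_, h1, rfl⟩
        rw [hT, hT, mul_inv_cancel] at h3
        have e1 : (1 : pt k k ⟶ Kr).left (IsLocalRing.closedPoint k) = η[Kr].left.base p := by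
          rw [Hom.one_def, Over.comp_left, Scheme.Hom.comp_apply]
          exact congrArg _ (Subsingleton.elim (α := PrimeSpectrum k) _ _)
        rwa [e1] at h3
      rw [← hrg] at hv
      obtain ⟨w, hw⟩ := hv
      haveI : Subsingleton ↥(pt k k).left := inferInstanceAs (Subsingleton (PrimeSpectrum k))
      let v' : pt k k ⟶ H := Over.homMk (IsOpenImmersion.lift j₀.left v.left (by
        rintro _ ⟨s, rfl⟩
        exact ⟨w, by rw [Subsingleton.elim s (IsLocalRing.closedPoint k)]; exact hw⟩)) (by
          rw [← Over.w j₀, ← Category.assoc, IsOpenImmersion.lift_fac]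
          exact Over.w v)
      have hv' : v' ≫ j₀ = v := Over.OverMorphism.ext (IsOpenImmersion.lift_fac _ _ _)
      refine Set.mem_iUnion.2 ⟨Z, _, ⟨(lift b v').left (IsLocalRing.closedPoint k), rfl⟩, ?_⟩
      have e : (lift b v' ≫ P) ≫ τ Z = g := by
        rw [hP]
        simp only [τ, MonObj.comp_mul, Category.comp_id]
        rw [reassoc_of% (toUnit_unit (Y := G) ((b ≫ i) * (v' ≫ h)))]
        simp only [h]
        rw [reassoc_of% hv', MonObj.mul_comp, GrpObj.inv_comp, ← Category.assoc u₂, hu₂, hu₁]
        simp only [u]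
        group
      exact congrArg (fun z : pt k k ⟶ G => z.left (IsLocalRing.closedPoint k)) e
    have huniv : (⋃ Z, (τ Z).left '' Set.range P.left) = Set.univ := by
      refine Set.eq_univ_of_univ_subset ?_
      rw [← closure_closedPoints (X := G.left)]
      exact closure_minimal hcover hclZ
    obtain ⟨Z, hZ⟩ := Set.mem_iUnion.1 (huniv.ge (Set.mem_univ (genericPoint G.left)))
    haveI : IsIso (τ Z).left := inferInstanceAs (IsIso ((Over.forget _).map (τ Z)))
    have hcl : IsClosed ((τ Z).left '' Set.range P.left) := (τ Z).left.homeomorph.isClosedMap _ hclosed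
    have hall : (τ Z).left '' Set.range P.left = Set.univ := by
      refine Set.eq_univ_of_univ_subset ?_
      rw [← (genericPoint_spec G.left).def]
      exact closure_minimal (Set.singleton_subset_iff.2 hZ) hcl
    refine ⟨fun y => ?_⟩
    obtain ⟨z, hz, hzy⟩ := hall.ge (Set.mem_univ ((τ Z).left y))
    obtain ⟨x, rfl⟩ := hz
    exact ⟨x, (τ Z).left.homeomorph.injective hzy⟩
  · -- finiteness of the intersection
    let I : Over (Spec (CommRingCat.of k)) := Over.mk (pullback.fst i.left h.left ≫ A.hom)
    let pa : I ⟶ A := Over.homMk (pullback.fst i.left h.left) rfl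
    let pb : I ⟶ H := Over.homMk (pullback.snd i.left h.left) (by
      show pullback.snd i.left h.left ≫ H.hom = pullback.fst i.left h.left ≫ A.hom
      rw [← Over.w h, ← pullback.condition_assoc, Over.w i])
    have hab : pa ≫ i = pb ≫ h := Over.OverMorphism.ext pullback.condition
    have hone : pa ≫ ((𝟙 A : A ⟶ A) ^ m) = toUnit I ≫ η[A] := by
      rw [← hir, ← Category.assoc, hab, Category.assoc, hhr, MonObj.comp_one, Hom.one_def]
    haveI : IsClosedImmersion pa.left := inferInstanceAs (IsClosedImmersion (pullback.fst i.left h.left))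
    haveI : IsFinite ((𝟙 A : A ⟶ A) ^ m).left := Cube.isFinite_pow A hm
    haveI : IsFinite ((toUnit I).left ≫ η[A].left) := by
      rw [← Over.comp_left, ← hone, Over.comp_left]; infer_instance
    haveI : IsSeparated η[A].left := inferInstance
    haveI : IsFinite (toUnit I).left :=
      MorphismProperty.of_postcomp (W := @IsFinite) (W' := @IsSeparated) (toUnit I).left η[A].left ‹_› ‹_›
    have e : (toUnit I).left ≫ 𝟙 _ = I.hom := Over.w (toUnit I)
    rw [Category.comp_id] at e
    show IsFinite I.hom
    rw [← e]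
    infer_instance

end GrothLib.Chev24
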