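import Groth.Agent.Lib.Chev24.Divisible
import Groth.Agent.Lib.Chev24.QuasiComp
import Groth.Agent.Lib.SubPre14.Basic
import Groth.Agent.Lib.Chevalley.AffineQuot
import Groth.Agent.Lib.MonoHom.AffineKernel
import Groth.Agent.Lib.FppfSource.Scheme
import Groth.Agent.Lib.Repr.Adjoint
import Groth.Agent.Lib.Repr.Quotient
import Groth.Agent.Lib.FibreDimAt6.ZeroDim

/-!
# The largest connected affine normal subgroup, and Chevalley's theorem over algebraically closed fields
-/

set_option autoImplicit false
set_option linter.all false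
set_option backward.isDefEq.respectTransparency false
set_option maxHeartbeats 1000000
set_option synthInstance.maxHeartbeats 200000

universe u

open CategoryTheory CategoryTheory.Limits MonoidalCategory CartesianMonoidalCategory MonObj GrpObj
open AlgebraicGeometry VecGrp Topology

noncomputable section

namespace GrothLib.Chev24

attribute [-instance] Hom.commGroup Hom.commMonoid CommGrpObj.toIsCommMonObj

variable {k : Type u} [Field k] [IsAlgClosed k]

/-- The reduced neutral component of a group of finite type. -/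
theorem exists_redNeutral (K : Over (Spec (CommRingCat.of k))) [GrpObj K] [LocallyOfFiniteType K.hom]
    [QuasiCompact K.hom] :
    ∃ (H : Over (Spec (CommRingCat.of k))) (_ : GrpObj H) (j : H ⟶ K), IsMonHom j ∧ IsClosedImmersion j.left ∧
      Smooth H.hom ∧ ConnectedSpace H.left ∧ topologicalKrullDim H.left = topologicalKrullDim K.left ∧
      ∀ (T : Over (Spec (CommRingCat.of k))) (x : T ⟶ K), IsReduced T.left → ConnectedSpace T.left →
        η[K].left (IsLocalRing.closedPoint k) ∈ Set.range x.left → ∃ x' : T ⟶ H, x' ≫ j = x := by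
  haveI : IsSeparated K.hom := GrpSchField.isSeparated K
  obtain ⟨Kr, _, jr, hjr, hjrc, hKr, hjrs⟩ := AffMono14.exists_red K
  haveI := hjr; haveI := hjrc; haveI := hKr; haveI := hjrs
  haveI : LocallyOfFiniteType Kr.hom := by rw [← Over.w jr]; infer_instance
  haveI : QuasiCompact Kr.hom := by rw [← Over.w jr]; infer_instance
  haveI : Smooth Kr.hom := GrpSchField.smooth_of_perfectField_of_isReduced Kr
  haveI : IsSeparated Kr.hom := GrpSchField.isSeparated Kr
  obtain ⟨H, _, j₀, hj₀, hj₀o, hrange, hHs, hHq⟩ := GrothLib.Neutral.exists_neutralPart Kr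
  haveI := hj₀; haveI := hj₀o; haveI := hHs
  let p : ↥(𝟙_ (Over (Spec (CommRingCat.of k)))).left := IsLocalRing.closedPoint k
  have hrg : Set.range j₀.left.base = connectedComponent (η[Kr].left.base p) := by
    rw [hrange, GrothLib.Induce27.neutralSet_eq Kr p]
  haveI : IsClosedImmersion j₀.left := IsClosedImmersion.of_isPreimmersion j₀.left (by
    show IsClosed (Set.range j₀.left.base)
    rw [hrg]; exact isClosed_connectedComponent)
  haveI : ConnectedSpace H.left := by
    haveI : ConnectedSpace (Set.range j₀.left.base) := Subtype.connectedSpace (by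
      rw [hrg]; exact isConnected_connectedComponent)
    exact j₀.left.isOpenEmbedding.toIsEmbedding.toHomeomorph.symm.surjective.connectedSpace
      j₀.left.isOpenEmbedding.toIsEmbedding.toHomeomorph.symm.continuous
  haveI : IsClosedImmersion (j₀ ≫ jr).left := inferInstanceAs (IsClosedImmersion (j₀.left ≫ jr.left))
  haveI : IsSeparated H.hom := GrpSchField.isSeparated H
  refine ⟨H, inferInstance, j₀ ≫ jr, inferInstance, inferInstance, hHs, inferInstance, ?_, ?_⟩
  · have e1 : topologicalKrullDim Kr.left = topologicalKrullDim K.left := by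
      refine (GrothLib.Dim.IsEmbedding.topologicalKrullDim_eq jr.left.isEmbedding jr.left.surjective.range_eq).trans ?_
      exact (Homeomorph.Set.univ _).isHomeomorph.topologicalKrullDim_eq _
    rw [← e1]
    haveI := GrothLib.GrpSchField.unit_isClosedImmersion H
    haveI := GrothLib.GrpSchField.unit_isClosedImmersion Kr
    have hcl : ∀ {T : Over (Spec (CommRingCat.of k))} [GrpObj T] [IsClosedImmersion η[T].left],
        IsClosed ({η[T].left p} : Set T.left) := fun {T} _ _ => by
      haveI : Subsingleton ↥(𝟙_ (Over (Spec (CommRingCat.of k)))).left := inferInstanceAs (Subsingleton (PrimeSpectrum k))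
      have : Set.range η[T].left = {η[T].left p} :=
        Set.eq_singleton_iff_unique_mem.2 ⟨⟨p, rfl⟩, by rintro _ ⟨q, rfl⟩; exact congrArg _ (Subsingleton.elim _ _)⟩
      exact this ▸ η[T].left.isClosedEmbedding.isClosed_range
    have he : j₀.left (η[H].left p) = η[Kr].left p := by
      rw [← Scheme.Hom.comp_apply, ← Over.comp_left, IsMonHom.one_hom]
    rw [← GrothLib.GrpSchField.ringKrullDim_stalk_eq H (hcl (T := H)),
      ← GrothLib.GrpSchField.ringKrullDim_stalk_eq Kr (hcl (T := Kr)), ← he]
    exact (ringKrullDim_eq_of_ringEquiv (asIso (j₀.left.stalkMap (η[H].left p))).commRingCatIsoToRingEquiv).symm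
  · intro T x hT hTc hmem
    obtain ⟨l, hl⟩ := GrothLib.RedSub.exists_lift x.left jr.left (fun y _ => hjrs.surj y)
    let x₁ : T ⟶ Kr := Over.homMk l (by rw [← Over.w jr, reassoc_of% hl]; exact Over.w x)
    have hx₁ : x₁ ≫ jr = x := Over.OverMorphism.ext hl
    have hsub : Set.range x₁.left ⊆ Set.range j₀.left := by
      show Set.range x₁.left.base ⊆ Set.range j₀.left.base
      rw [hrg]
      refine (isPreconnected_range x₁.left.continuous).subset_connectedComponent ?_
      obtain ⟨t, ht⟩ := hmem
      refine ⟨t, jr.left.isClosedEmbedding.injective ?_⟩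
      rw [← Scheme.Hom.comp_apply, ← Over.comp_left, hx₁, ht, ← Scheme.Hom.comp_apply, ← Over.comp_left,
        IsMonHom.one_hom]
    refine ⟨Over.homMk (IsOpenImmersion.lift j₀.left x₁.left hsub) (by
      rw [← Over.w j₀, ← Category.assoc, IsOpenImmersion.lift_fac]; exact Over.w x₁), ?_⟩
    rw [← hx₁, ← Category.assoc]
    congr 1
    exact Over.OverMorphism.ext (IsOpenImmersion.lift_fac _ _ _)

/-- A finite group scheme criterion: finite when of dimension zero. -/
theorem isFinite_of_dim_zero (K : Over (Spec (CommRingCat.of k))) [LocallyOfFiniteType K.hom] [QuasiCompact K.hom]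
    (h : topologicalKrullDim K.left ≤ 0) : IsFinite K.hom := by
  haveI : LocallyQuasiFinite K.hom := GrothLib.FibreDimAt6.locallyQuasiFinite_of_dim_fiber_le_zero K.hom fun y =>
    ((K.hom.fiberHomeo y).isHomeomorph.topologicalKrullDim_eq _).trans_le
      (IsEmbedding.subtypeVal.topologicalKrullDim_le.trans h)
  exact IsFinite.of_locallyQuasiFinite K.hom

/-- A subsingleton space has dimension at most zero. -/
theorem dim_le_zero_of_subsingleton {X : Type*} [TopologicalSpace X] [Subsingleton X] :
    topologicalKrullDim X ≤ 0 := by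
  haveI : DiscreteTopology X := ⟨Subsingleton.elim _ _⟩
  exact topologicalKrullDim_zero_of_discreteTopology X

variable {G : Over (Spec (CommRingCat.of k))} [GrpObj G]

variable (G) in
/-- Dimensions of connected affine normal subgroups. -/
def AffDim (d : ℕ) : Prop :=
  ∃ (N : Over (Spec (CommRingCat.of k))) (_ : GrpObj N) (i : N ⟶ G), IsMonHom i ∧ IsClosedImmersion i.left ∧
    Smooth N.hom ∧ ConnectedSpace N.left ∧ IsAffine N.left ∧ AlgGrp.IsNormalHom i ∧
    topologicalKrullDim N.left = (d : WithBot ℕ∞)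

variable [Smooth G.hom] [QuasiCompact G.hom]

/-- The image of a normal affine subgroup in a quotient. -/
theorem exists_image_normal {Q : Over (Spec (CommRingCat.of k))} [GrpObj Q] [LocallyOfFiniteType Q.hom]
    [QuasiCompact Q.hom] (q : G ⟶ Q) [IsMonHom q] [Surjective q.left] [Flat q.left]
    {N : Over (Spec (CommRingCat.of k))} [GrpObj N] (i : N ⟶ G) [IsMonHom i] [IsClosedImmersion i.left]
    [Smooth N.hom] [ConnectedSpace N.left] [IsAffine N.left] (hN : AlgGrp.IsNormalHom i) :
    ∃ (I : Over (Spec (CommRingCat.of k))) (_ : GrpObj I) (jI : I ⟶ Q) (p : N ⟶ I), IsMonHom jI ∧ IsMonHom p ∧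
      IsClosedImmersion jI.left ∧ Smooth I.hom ∧ ConnectedSpace I.left ∧ IsAffine I.left ∧
      AlgGrp.IsNormalHom jI ∧ p ≫ jI = i ≫ q := by
  haveI : IsSeparated G.hom := GrpSchField.isSeparated G
  haveI : IsSeparated Q.hom := GrpSchField.isSeparated Q
  haveI : QuasiCompact N.hom := by rw [← Over.w i]; infer_instance
  haveI : QuasiCompact (i ≫ q).left := by
    haveI : QuasiCompact ((i ≫ q).left ≫ Q.hom) := by rw [Over.w]; infer_instance
    exact QuasiCompact.of_comp _ Q.hom
  obtain ⟨I, _, p, jI, hp, hjI, hpj, hps, hpf, hplfp, hm, hIlft, -⟩ := Neutral.exists_factor_field (i ≫ q)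
  haveI := hp; haveI := hjI; haveI := hm; haveI := hps; haveI := hpf; haveI := hplfp; haveI := hIlft
  haveI := (Neutral.isClosedImmersion_factor (i ≫ q) hpj).1
  haveI : Smooth I.hom := GrothLib.FppfSource.fppfSourceDescends_smooth p.left I.hom hpf hplfp hps
    (by rw [Over.w p]; infer_instance)
  haveI : ConnectedSpace I.left := p.left.surjective.connectedSpace p.left.continuous
  haveI : IsAffine I.left := Chevalley.isAffine_of_surjective_hom p
  haveI : QuasiCompact I.hom := by rw [← Over.w jI]; infer_instance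
  refine ⟨I, inferInstance, jI, p, hjI, hp, inferInstance, inferInstance, inferInstance, inferInstance, ?_, hpj⟩
  let c : Q ⊗ I ⟶ Q := fst Q I * (snd Q I ≫ jI) * (fst Q I)⁻¹
  obtain ⟨n', hn'⟩ := hN (G ⊗ N) (fst G N) (snd G N)
  have hfac : (q ⊗ₘ p) ≫ c = (n' ≫ p) ≫ jI := by
    rw [Category.assoc, hpj, ← Category.assoc n' i q, ← hn']
    simp only [c, MonObj.comp_mul, MonObj.mul_comp, GrpObj.comp_inv, GrpObj.inv_comp, tensorHom_fst, tensorHom_fst_assoc,
      tensorHom_snd_assoc, Category.assoc, hpj]
  haveI : LocallyOfFinitePresentation q.left := by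
    haveI : IsLocallyNoetherian Q.left := LocallyOfFiniteType.isLocallyNoetherian Q.hom
    haveI : LocallyOfFiniteType (q.left ≫ Q.hom) := by rw [Over.w q]; infer_instance
    haveI := locallyOfFiniteType_of_comp q.left Q.hom
    infer_instance
  have hcov : Chevalley.IsCover (q ⊗ₘ p) := Chevalley.cover_tensor ⟨‹_›, ‹_›, ‹_›⟩ ⟨hpf, hps, hplfp⟩
  haveI := hcov.2.1
  haveI : IsReduced Q.left := by
    haveI : Smooth Q.hom := GrothLib.FppfSource.fppfSourceDescends_smooth q.left Q.hom ‹_› ‹_› ‹_›
      (by rw [Over.w q]; infer_instance)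
    exact GrothLib.Rigidity.isReduced_of_smooth Q.hom
  haveI : IsReduced I.left := GrothLib.Rigidity.isReduced_of_smooth I.hom
  haveI : IsReduced (Q ⊗ I).left := GrothLib.GrpSchField.isReduced_pullback Q.hom I.hom
  obtain ⟨l, hl⟩ := GrothLib.RedSub.exists_lift c.left jI.left (by
    rintro _ ⟨x, rfl⟩
    obtain ⟨y, rfl⟩ := (q ⊗ₘ p).left.surjective x
    refine ⟨(n' ≫ p).left y, ?_⟩
    rw [← Scheme.Hom.comp_apply, ← Over.comp_left, ← hfac]
    rfl)
  let c' : Q ⊗ I ⟶ I := Over.homMk l (by rw [← Over.w jI, reassoc_of% hl]; exact Over.w c)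
  have hc' : c' ≫ jI = c := Over.OverMorphism.ext hl
  intro T g x
  refine ⟨lift g x ≫ c', ?_⟩
  rw [Category.assoc, hc']
  simp only [c, MonObj.comp_mul, GrpObj.comp_inv, lift_fst, lift_snd_assoc]

/-- The inverse image of a normal affine subgroup along a quotient with affine kernel. -/
theorem exists_preimage_normal {Q : Over (Spec (CommRingCat.of k))} [GrpObj Q] [LocallyOfFiniteType Q.hom]
    [QuasiCompact Q.hom] (q : G ⟶ Q) [IsMonHom q] [Surjective q.left] [Flat q.left]
    {R : Over (Spec (CommRingCat.of k))} [GrpObj R] (r : R ⟶ G) [IsMonHom r] [IsClosedImmersion r.left]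
    [Smooth R.hom] [ConnectedSpace R.left] [IsAffine R.left] (hq : AlgGrp.IsKernel r q)
    {U : Over (Spec (CommRingCat.of k))} [GrpObj U] (j : U ⟶ Q) [IsMonHom j] [IsClosedImmersion j.left]
    [Smooth U.hom] [ConnectedSpace U.left] [IsAffine U.left] (hU : AlgGrp.IsNormalHom j) :
    ∃ (P : Over (Spec (CommRingCat.of k))) (_ : GrpObj P) (b : P ⟶ G) (a : P ⟶ U), IsMonHom b ∧ IsMonHom a ∧
      IsClosedImmersion b.left ∧ Smooth P.hom ∧ ConnectedSpace P.left ∧ IsAffine P.left ∧ AlgGrp.IsNormalHom b ∧
      Surjective a.left ∧ (∃ c : R ⟶ P, AlgGrp.IsKernel c a) ∧ IsPullback a b j q := by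
  haveI : IsSeparated G.hom := GrpSchField.isSeparated G
  haveI : IsSeparated Q.hom := GrpSchField.isSeparated Q
  haveI : Mono j := Over.mono_of_mono_left j
  let P : Over (Spec (CommRingCat.of k)) := Over.mk (pullback.snd j.left q.left ≫ G.hom)
  let b : P ⟶ G := Over.homMk (pullback.snd j.left q.left) rfl
  let a : P ⟶ U := Over.homMk (pullback.fst j.left q.left) (by
    show pullback.fst j.left q.left ≫ U.hom = pullback.snd j.left q.left ≫ G.hom
    rw [← Over.w j, pullback.condition_assoc, Over.w q])
  have hsqL : IsPullback a.left b.left j.left q.left := IsPullback.of_hasPullback j.left q.left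
  have hsq : IsPullback a b j q := IsPullback.of_map (Over.forget _) (Over.OverMorphism.ext hsqL.w) hsqL
  haveI : IsClosedImmersion b.left := inferInstanceAs (IsClosedImmersion (pullback.snd j.left q.left))
  haveI : Surjective a.left := inferInstanceAs (Surjective (pullback.fst j.left q.left))
  obtain ⟨hP, ha, hb⟩ := GrothLib.SubPre14.exists_grpObj_pullback q j a b hsq
  haveI := ha; haveI := hb
  haveI : Mono b := Over.mono_of_mono_left b
  haveI : LocallyOfFiniteType P.hom := by rw [← Over.w b]; infer_instance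
  haveI : QuasiCompact P.hom := by rw [← Over.w b]; infer_instance
  haveI : IsSeparated U.hom := GrpSchField.isSeparated U
  haveI : QuasiCompact a.left := by
    haveI : QuasiCompact (a.left ≫ U.hom) := by rw [Over.w a]; infer_instance
    exact QuasiCompact.of_comp a.left U.hom
  have h1 : (1 : R ⟶ U) ≫ j = r ≫ q := by
    rw [MonObj.one_comp, hq.w, ← Hom.one_def]
  let c : R ⟶ P := hsq.lift 1 r h1
  have hk : GrothLib.SubPre14.KerPairFactors a c := by
    let W := pullback a a
    have hd : ((pullback.fst a a)⁻¹ * pullback.snd a a) ≫ a = 1 := by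
      rw [MonObj.mul_comp, GrpObj.inv_comp, pullback.condition, inv_mul_cancel]
    have hw : (((pullback.fst a a)⁻¹ * pullback.snd a a) ≫ b) ≫ q = toUnit W ≫ η[Q] := by
      rw [Category.assoc, ← hsq.w, reassoc_of% hd, MonObj.one_comp, Hom.one_def]
    refine ⟨W, _, _, hq.lift _ (toUnit W) hw, IsPullback.of_hasPullback a a, ?_⟩
    rw [← cancel_mono b, Category.assoc, hsq.lift_snd, hq.lift_fst]
  haveI : Smooth P.hom := GrothLib.SubPre14.smooth_algClosed a c hk
  haveI : IsReduced U.left := GrothLib.RedSmooth.isReduced_of_smooth U.hom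
  haveI : Flat a.left := GrothLib.GrpSchField.flat_hom a
  haveI : LocallyOfFiniteType a.left := by
    haveI : LocallyOfFiniteType (a.left ≫ U.hom) := by rw [Over.w a]; infer_instance
    exact locallyOfFiniteType_of_comp a.left U.hom
  haveI : IsLocallyNoetherian U.left := LocallyOfFiniteType.isLocallyNoetherian U.hom
  haveI : ConnectedSpace P.left := GrothLib.SubPre14.connected_field a a.left.isOpenMap c hk
  have hkc : AlgGrp.IsKernel c a := by
    have hout : IsPullback (c ≫ b) (toUnit R) q (η[U] ≫ j) := by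
      rw [hsq.lift_snd, IsMonHom.one_hom]; exact hq
    exact IsPullback.of_right hout (by rw [hsq.lift_fst, Hom.one_def]) hsq.flip
  haveI : IsMonHom c := GrothLib.GrpSchField.isMonHom_of_mul c (by
    rw [← cancel_mono b, Category.assoc, hsq.lift_snd, IsMonHom.mul_hom, Category.assoc, IsMonHom.mul_hom,
      ← Category.assoc, tensorHom_comp_tensorHom, hsq.lift_snd])
  haveI : Mono r := Over.mono_of_mono_left r
  haveI : Mono c := by
    haveI : Mono (c ≫ b) := by rw [hsq.lift_snd]; infer_instance
    exact mono_of_mono c b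
  haveI : IsAffine P.left := GrothLib.MonoHom.isAffine_of_kernel a c fun T g => by
    constructor
    · intro hg
      exact GrpSchField.exists_lift_of_comp_eq_one hkc g hg
    · rintro ⟨z, rfl⟩
      rw [Category.assoc, GrpSchField.comp_eq_one hkc, MonObj.comp_one]
  refine ⟨P, hP, b, a, hb, ha, inferInstance, inferInstance, inferInstance, inferInstance, fun T g x => ?_,
    inferInstance, ⟨c, hkc⟩, hsq⟩
  obtain ⟨u, hu⟩ := hU T (g ≫ q) (x ≫ a)
  have h2 : u ≫ j = (g * (x ≫ b) * g⁻¹) ≫ q := by
    rw [← hu, MonObj.mul_comp, MonObj.mul_comp, GrpObj.inv_comp, Category.assoc, Category.assoc, hsq.w]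
  exact ⟨hsq.lift u _ h2, (hsq.lift_snd _ _ h2).symm⟩

variable (G) in
theorem exists_affDim : ∃ d, AffDim G d := by
  haveI : IsSeparated G.hom := GrpSchField.isSeparated G
  haveI := GrothLib.GrpSchField.unit_isClosedImmersion G
  haveI : Smooth (𝟙_ (Over (Spec (CommRingCat.of k)))).hom := inferInstanceAs (Smooth (𝟙 (Spec (CommRingCat.of k))))
  haveI : IsAffine (𝟙_ (Over (Spec (CommRingCat.of k)))).left := inferInstanceAs (IsAffine (Spec (CommRingCat.of k)))
  haveI : IsIntegral (𝟙_ (Over (Spec (CommRingCat.of k)))).left := inferInstanceAs (IsIntegral (Spec (CommRingCat.of k)))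
  obtain ⟨d, hd⟩ := exists_nat_dim (k := k) (𝟙_ (Over (Spec (CommRingCat.of k))))
  refine ⟨d, _, inferInstance, η[G], inferInstance, inferInstance, inferInstance, inferInstance, inferInstance, ?_, hd⟩
  intro T g x
  refine ⟨x, ?_⟩
  rw [toUnit_unique x (toUnit T), ← Hom.one_def]
  simp

/-- A largest connected affine normal subgroup, with the properties of its quotient. -/
theorem exists_affPart :
    ∃ (N : Over (Spec (CommRingCat.of k))) (_ : GrpObj N) (i : N ⟶ G), IsMonHom i ∧ IsClosedImmersion i.left ∧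
      Smooth N.hom ∧ ConnectedSpace N.left ∧ IsAffine N.left ∧ AlgGrp.IsNormalHom i ∧
      ∀ (N' : Over (Spec (CommRingCat.of k))) [GrpObj N'] (i' : N' ⟶ G) [IsMonHom i'] [IsClosedImmersion i'.left]
        [Smooth N'.hom] [ConnectedSpace N'.left] [IsAffine N'.left],
        AlgGrp.IsNormalHom i' → ∃ f : N' ⟶ N, f ≫ i = i' := by
  classical
  haveI : IsSeparated G.hom := GrpSchField.isSeparated G
  obtain ⟨G₀, _, j₀, -, hj₀c, hG₀s, hG₀c, hG₀dim, -⟩ := exists_redNeutral G
  haveI := hG₀s; haveI := hG₀c
  haveI := hj₀c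
  haveI : QuasiCompact G₀.hom := by rw [← Over.w j₀]; infer_instance
  haveI : IsIntegral G₀.left := Euler.isIntegral_of_smooth_connected k G₀.hom
  obtain ⟨n, hn⟩ := exists_nat_dim (k := k) G₀
  rw [hG₀dim] at hn
  have hbound : ∀ d, AffDim G d → d ≤ n := by
    rintro d ⟨N, _, i, _, hc, _, _, _, _, hd⟩
    haveI := hc
    have h := i.left.isEmbedding.topologicalKrullDim_le
    rw [hd, hn] at h
    exact_mod_cast h
  obtain ⟨d₀, hd₀⟩ := exists_affDim G
  obtain ⟨d, hd, hmax⟩ : ∃ d, AffDim G d ∧ ∀ d', AffDim G d' → d' ≤ d :=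
    ⟨Nat.findGreatest (AffDim G) n, Nat.findGreatest_spec (hbound d₀ hd₀) hd₀,
      fun d' hd' => Nat.le_findGreatest (hbound d' hd') hd'⟩
  obtain ⟨N, _, i, hi, hic, hNs, hNc, hNa, hNn, hNd⟩ := hd
  haveI := hi; haveI := hic; haveI := hNs; haveI := hNc; haveI := hNa
  refine ⟨N, inferInstance, i, hi, hic, hNs, hNc, hNa, hNn, fun N' _ i' _ _ _ _ _ hN' => ?_⟩
  obtain ⟨Q, _, q, hq, hQs, hQq, hqf, hqs, -, hker⟩ := exists_quot i hNn
  haveI := hq; haveI := hQs; haveI := hQq; haveI := hqf; haveI := hqs
  obtain ⟨I, _, jI, p, hjI, hp, hjIc, hIs, hIc, hIa, hIn, hpj⟩ := exists_image_normal q i' hN'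
  haveI := hjI; haveI := hp; haveI := hjIc; haveI := hIs; haveI := hIc; haveI := hIa
  obtain ⟨P, _, b, a, hb, ha, hbc, hPs, hPc, hPa, hPn, has, ⟨c, hkc⟩, hsq⟩ := exists_preimage_normal q i hker jI hIn
  haveI := hb; haveI := ha; haveI := hbc; haveI := hPs; haveI := hPc; haveI := hPa; haveI := has
  haveI : IsIntegral P.left := Euler.isIntegral_of_smooth_connected k P.hom
  haveI : IsIntegral I.left := Euler.isIntegral_of_smooth_connected k I.hom
  haveI : QuasiCompact a.left := by
    haveI : IsSeparated I.hom := GrpSchField.isSeparated I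
    haveI : QuasiCompact P.hom := by rw [← Over.w b]; infer_instance
    haveI : QuasiCompact (a.left ≫ I.hom) := by rw [Over.w a]; infer_instance
    exact QuasiCompact.of_comp a.left I.hom
  have hdim : topologicalKrullDim P.left = topologicalKrullDim I.left + topologicalKrullDim N.left := by
    have h := Neutral.dim_eq_add_field a
    have e1 : topologicalKrullDim (Set.range a.left) = topologicalKrullDim I.left := by
      rw [a.left.surjective.range_eq]
      exact (Homeomorph.Set.univ _).isHomeomorph.topologicalKrullDim_eq _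
    have e2 : topologicalKrullDim ↥(pullback a.left η[I].left) = topologicalKrullDim N.left :=
      (IsHomeomorph.topologicalKrullDim_eq _ (hkc.map (Over.forget _)).isoPullback.hom.homeomorph.isHomeomorph).symm
    rw [e1, e2] at h
    exact h
  obtain ⟨eP, heP⟩ := exists_nat_dim (k := k) P
  obtain ⟨eI, heI⟩ := exists_nat_dim (k := k) I
  have hle : eP ≤ d := hmax eP ⟨P, inferInstance, b, hb, hbc, hPs, hPc, hPa, hPn, heP⟩
  have h0 : eI = 0 := by
    rw [heP, heI, hNd] at hdim
    have : eP = eI + d := by exact_mod_cast hdim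
    omega
  have hI0 : topologicalKrullDim I.left ≤ 0 := by rw [heI, h0]; exact le_rfl
  haveI hsub : Subsingleton I.left := by
    haveI : CompactSpace I.left := inferInstance
    have h := GrothLib.Dim.subsingleton_of_dim_eq_zero (S := (Set.univ : Set I.left)) isClosed_univ
      (IrreducibleSpace.isIrreducible_univ _)
      (((Homeomorph.Set.univ I.left).isHomeomorph.topologicalKrullDim_eq _).le.trans hI0)
    exact Set.subsingleton_univ_iff.1 h
  haveI := isIso_hom_of_subsingleton I
  have h1 : i' ≫ q = toUnit N' ≫ η[Q] := by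
    rw [← hpj, show p = (1 : N' ⟶ I) from Over.OverMorphism.ext ((cancel_mono I.hom).1 (by rw [Over.w, Over.w])),
      MonObj.one_comp, Hom.one_def]
  obtain ⟨f, hf, -⟩ := hker.exists_lift i' (toUnit N') h1
  exact ⟨f, hf⟩

variable {N : Over (Spec (CommRingCat.of k))} [GrpObj N] (i : N ⟶ G) [IsMonHom i] [IsClosedImmersion i.left]
  [Smooth N.hom] [ConnectedSpace N.left] [IsAffine N.left]
  (hNmax : ∀ (N' : Over (Spec (CommRingCat.of k))) [GrpObj N'] (i' : N' ⟶ G) [IsMonHom i'] [IsClosedImmersion i'.left]
      [Smooth N'.hom] [ConnectedSpace ↥N'.left] [IsAffine N'.left], AlgGrp.IsNormalHom i' → ∃ f : N' ⟶ N, f ≫ i = i')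

include hNmax in
/-- The quotient by the largest connected affine normal subgroup has no such subgroup. -/
theorem subsingleton_of_normal {Q : Over (Spec (CommRingCat.of k))} [GrpObj Q] [LocallyOfFiniteType Q.hom]
    [QuasiCompact Q.hom] (q : G ⟶ Q) [IsMonHom q] [Surjective q.left] [Flat q.left] (hq : AlgGrp.IsKernel i q)
    {U : Over (Spec (CommRingCat.of k))} [GrpObj U] (j : U ⟶ Q) [IsMonHom j] [IsClosedImmersion j.left]
    [Smooth U.hom] [ConnectedSpace U.left] [IsAffine U.left] (hU : AlgGrp.IsNormalHom j) :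
    Subsingleton U.left := by
  obtain ⟨P, _, b, a, hb, ha, hbc, hPs, hPc, hPa, hPn, has, -, hsq⟩ := exists_preimage_normal q i hq j hU
  haveI := hb; haveI := ha; haveI := hbc; haveI := hPs; haveI := hPc; haveI := hPa
  obtain ⟨f, hf⟩ := hNmax P b hPn
  haveI : Mono j := Over.mono_of_mono_left j
  have h1 : a = 1 := by
    rw [← cancel_mono j, hsq.w, ← hf, Category.assoc, GrpSchField.comp_eq_one hq, MonObj.comp_one, MonObj.one_comp]
  haveI : Subsingleton ↥(𝟙_ (Over (Spec (CommRingCat.of k)))).left := inferInstanceAs (Subsingleton (PrimeSpectrum k))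
  refine ⟨fun x y => ?_⟩
  obtain ⟨x', rfl⟩ := has.surj x
  obtain ⟨y', rfl⟩ := has.surj y
  rw [h1, Hom.one_def, Over.comp_left, Scheme.Hom.comp_apply, Scheme.Hom.comp_apply,
    Subsingleton.elim ((toUnit P).left x') ((toUnit P).left y')]

include hNmax in
/-- Chevalley's theorem: the quotient by the largest connected affine normal subgroup is proper. -/
theorem isProper_quotient [ConnectedSpace G.left] {Q : Over (Spec (CommRingCat.of k))} [GrpObj Q]
    [LocallyOfFiniteType Q.hom] [QuasiCompact Q.hom] (q : G ⟶ Q) [IsMonHom q] [Surjective q.left] [Flat q.left]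
    (hq : AlgGrp.IsKernel i q) : IsProper Q.hom := by
  haveI : IsSeparated Q.hom := GrpSchField.isSeparated Q
  haveI : IsLocallyNoetherian Q.left := LocallyOfFiniteType.isLocallyNoetherian Q.hom
  haveI : LocallyOfFinitePresentation q.left := by
    haveI : LocallyOfFiniteType (q.left ≫ Q.hom) := by rw [Over.w q]; infer_instance
    haveI := locallyOfFiniteType_of_comp q.left Q.hom
    infer_instance
  haveI : Smooth Q.hom := GrothLib.FppfSource.fppfSourceDescends_smooth q.left Q.hom ‹_› ‹_› ‹_›
    (by rw [Over.w q]; infer_instance)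
  haveI : ConnectedSpace Q.left := q.left.surjective.connectedSpace q.left.continuous
  -- the adjoint kernel
  obtain ⟨Ms, _, _, ms, hms⟩ := GrothLib.Repr.exists_modules_centre Q
  obtain ⟨D, ρ, hρm, hρ⟩ := GrothLib.Repr.exists_hom_detect ms
  haveI := hρm
  haveI := GrothLib.Repr.finiteType_GLsch (k := k) D
  haveI := GrothLib.Repr.isAffine_GLsch (k := k) D
  haveI : IsSeparated (GrothLib.Repr.GLsch k D).hom := GrpSchField.isSeparated _
  let Kc := pullback ρ η[GrothLib.Repr.GLsch k D]
  let iK : Kc ⟶ Q := pullback.fst ρ η[GrothLib.Repr.GLsch k D]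
  have hK : AlgGrp.IsKernel iK ρ := by
    show IsPullback _ _ _ _
    rw [Subsingleton.elim (toUnit _) (pullback.snd ρ η[GrothLib.Repr.GLsch k D])]
    exact IsPullback.of_hasPullback ρ η[GrothLib.Repr.GLsch k D]
  obtain ⟨_, _⟩ := GrpDeligne.exists_grpObj_kernel ρ iK hK
  have hsqK := (IsPullback.of_hasPullback ρ η[GrothLib.Repr.GLsch k D]).map (Over.forget _)
  haveI := GrothLib.GrpSchField.unit_isClosedImmersion (GrothLib.Repr.GLsch k D)
  haveI : IsClosedImmersion iK.left :=
    MorphismProperty.of_isPullback hsqK.flip (inferInstanceAs (IsClosedImmersion η[GrothLib.Repr.GLsch k D].left))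
  haveI : LocallyOfFiniteType Kc.hom := by rw [← Over.w iK]; infer_instance
  haveI : QuasiCompact Kc.hom := by rw [← Over.w iK]; infer_instance
  have hcentral : ∀ {T : Over (Spec (CommRingCat.of k))} (x : T ⟶ Kc) (y : T ⟶ Q),
      (x ≫ iK) * y = y * (x ≫ iK) := by
    intro T x y
    refine GrothLib.Repr.hom_ext_pts fun R _ _ u => ?_
    rw [MonObj.comp_mul, MonObj.comp_mul]
    have h1 : (u ≫ x ≫ iK) ≫ ρ = 1 := by
      rw [Category.assoc, Category.assoc, GrpSchField.comp_eq_one hK, MonObj.comp_one, MonObj.comp_one]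
    have h2 := (hms R (u ≫ x ≫ iK)).1 ((hρ R _).1 h1) (pt k R) (𝟙 _) (u ≫ y)
    simpa using h2
  obtain ⟨Z, _, jZ, hjZ, hjZc, hZs, hZc, hZdim, hZlift⟩ := exists_redNeutral Kc
  haveI := hjZ; haveI := hjZc; haveI := hZs; haveI := hZc
  haveI : QuasiCompact Z.hom := by rw [← Over.w jZ]; infer_instance
  let z : Z ⟶ Q := jZ ≫ iK
  haveI : IsClosedImmersion z.left := inferInstanceAs (IsClosedImmersion (jZ.left ≫ iK.left))
  haveI : IsMonHom z := inferInstance
  have hZp : IsProper Z.hom := by
    by_contra hp
    haveI : IsIntegral Z.left := Euler.isIntegral_of_smooth_connected k Z.hom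
    obtain ⟨H, _, h, hh, hhc, hHs, hHa, hHdim⟩ := exists_affine_of_not_isProper hp
    haveI := hh; haveI := hhc; haveI := hHs; haveI := hHa
    haveI : QuasiCompact H.hom := by rw [← Over.w h]; infer_instance
    obtain ⟨H₀, _, j₀, hj₀, hj₀c, hH₀s, hH₀c, hH₀dim, -⟩ := exists_redNeutral H
    haveI := hj₀; haveI := hj₀c; haveI := hH₀s; haveI := hH₀c
    haveI : IsAffine H₀.left := isAffine_of_isAffineHom j₀.left
    let w : H₀ ⟶ Q := j₀ ≫ h ≫ z
    haveI : IsClosedImmersion w.left := inferInstanceAs (IsClosedImmersion (j₀.left ≫ h.left ≫ z.left))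
    haveI : IsMonHom w := inferInstance
    haveI := subsingleton_of_normal i hNmax q hq w fun T g x => ⟨x, by
      have hx := hcentral (x ≫ j₀ ≫ h ≫ jZ) g
      simp only [Category.assoc] at hx
      simp only [w, z]
      rw [← hx, mul_inv_cancel_right]⟩
    exact absurd hHdim (not_lt.2 (hH₀dim ▸ dim_le_zero_of_subsingleton))
  haveI := hZp
  obtain ⟨H, _, h, hh, hhc, hHs, hHc, hHn, hsurj, hfin⟩ := exists_quasiComplement Q Z z
  haveI := hh; haveI := hhc; haveI := hHs; haveI := hHc; haveI := hsurj
  haveI : QuasiCompact H.hom := by rw [← Over.w h]; infer_instance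
  -- the quasi-complement is affine
  let KH := pullback (h ≫ ρ) η[GrothLib.Repr.GLsch k D]
  let iH : KH ⟶ H := pullback.fst (h ≫ ρ) η[GrothLib.Repr.GLsch k D]
  have hKH : AlgGrp.IsKernel iH (h ≫ ρ) := by
    show IsPullback _ _ _ _
    rw [Subsingleton.elim (toUnit _) (pullback.snd (h ≫ ρ) η[GrothLib.Repr.GLsch k D])]
    exact IsPullback.of_hasPullback (h ≫ ρ) η[GrothLib.Repr.GLsch k D]
  obtain ⟨_, _⟩ := GrpDeligne.exists_grpObj_kernel (h ≫ ρ) iH hKH
  have hsqH := (IsPullback.of_hasPullback (h ≫ ρ) η[GrothLib.Repr.GLsch k D]).map (Over.forget _)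
  haveI : IsClosedImmersion iH.left :=
    MorphismProperty.of_isPullback hsqH.flip (inferInstanceAs (IsClosedImmersion η[GrothLib.Repr.GLsch k D].left))
  haveI : LocallyOfFiniteType KH.hom := by rw [← Over.w iH]; infer_instance
  haveI : QuasiCompact KH.hom := by rw [← Over.w iH]; infer_instance
  obtain ⟨L, _, jL, hjL, hjLc, hLs, hLc, hLdim, -⟩ := exists_redNeutral KH
  haveI := hjL; haveI := hjLc; haveI := hLs; haveI := hLc
  let l : L ⟶ H := jL ≫ iH
  obtain ⟨lK, hlK⟩ := GrpSchField.exists_lift_of_comp_eq_one hK (l ≫ h) (by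
    simp only [l, Category.assoc]
    rw [GrpSchField.comp_eq_one hKH, MonObj.comp_one])
  haveI : IsReduced L.left := GrothLib.Rigidity.isReduced_of_smooth L.hom
  have hlK1 : η[L] ≫ lK = η[Kc] := by
    haveI : Mono iK := Over.mono_of_mono_left iK
    rw [← cancel_mono iK, Category.assoc, hlK, IsMonHom.one_hom, IsMonHom.one_hom]
  obtain ⟨lZ, hlZ⟩ := hZlift L lK inferInstance inferInstance
    ⟨η[L].left (IsLocalRing.closedPoint k), by rw [← Scheme.Hom.comp_apply, ← Over.comp_left, hlK1]⟩
  have hfac : lZ ≫ z = l ≫ h := by rw [← hlK, ← hlZ]; simp [z]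
  haveI hLsub : Subsingleton L.left := by
    let I' : Over (Spec (CommRingCat.of k)) := Over.mk (pullback.fst z.left h.left ≫ Z.hom)
    haveI : IsFinite I'.hom := hfin
    let m : L.left ⟶ I'.left := pullback.lift lZ.left l.left congr(($hfac).left)
    have hm : m ≫ pullback.snd z.left h.left = l.left := pullback.lift_snd _ _ _
    have hinj : Function.Injective m := by
      intro x y hxy
      haveI : IsClosedImmersion (jL.left ≫ iH.left) := inferInstance
      apply (jL.left ≫ iH.left).isClosedEmbedding.injective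
      show l.left x = l.left y
      rw [← hm, Scheme.Hom.comp_apply, Scheme.Hom.comp_apply, hxy]
    haveI : Finite I'.left := by
      haveI : Subsingleton ↥(Spec (CommRingCat.of k)) := inferInstanceAs (Subsingleton (PrimeSpectrum k))
      have h' := I'.hom.finite_preimage_singleton (IsLocalRing.closedPoint k)
      rw [show I'.hom ⁻¹' {IsLocalRing.closedPoint k} = Set.univ from
        Set.eq_univ_of_forall fun _ => Subsingleton.elim (α := ↥(Spec (CommRingCat.of k))) _ _] at h'
      exact Set.finite_univ_iff.1 h'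
    haveI : Finite L.left := Finite.of_injective _ hinj
    haveI : JacobsonSpace L.left := LocallyOfFiniteType.jacobsonSpace L.hom
    haveI : DiscreteTopology L.left := inferInstance
    exact PreconnectedSpace.trivial_of_discrete
  haveI : IsFinite KH.hom := isFinite_of_dim_zero KH (hLdim ▸ dim_le_zero_of_subsingleton)
  haveI : IsAffine KH.left := isAffine_of_isAffineHom KH.hom
  haveI : Mono iH := Over.mono_of_mono_left iH
  haveI : IsAffine H.left := GrothLib.MonoHom.isAffine_of_kernel (h ≫ ρ) iH fun T g => by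
    constructor
    · intro hg
      exact GrpSchField.exists_lift_of_comp_eq_one hKH g hg
    · rintro ⟨z', rfl⟩
      rw [Category.assoc, GrpSchField.comp_eq_one hKH, MonObj.comp_one]
  haveI := subsingleton_of_normal i hNmax q hq h hHn
  haveI := isIso_hom_of_subsingleton H
  have hh1 : h = 1 := by
    have e : h = (toUnit H ≫ η[H]) ≫ h := by
      conv_lhs => rw [← Category.id_comp h]
      congr 1
      exact Over.OverMorphism.ext ((cancel_mono H.hom).1 (by rw [Over.w, Over.w]))
    rw [e, Category.assoc, IsMonHom.one_hom, ← Hom.one_def]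
  haveI : Surjective z.left := by
    have e : (z ⊗ₘ h) ≫ μ[Q] = fst Z H ≫ z := by
      have h3 : (z ⊗ₘ h) ≫ μ[Q] = (fst Z H ≫ z) * (snd Z H ≫ h) := by
        rw [Hom.mul_def, lift_fst_comp_snd_comp]
      rw [h3, hh1, MonObj.comp_one, _root_.mul_one]
    rw [e] at hsurj
    exact Surjective.of_comp (fst Z H).left z.left
  haveI : UniversallyClosed (z.left ≫ Q.hom) := by rw [Over.w z]; infer_instance
  haveI : UniversallyClosed Q.hom := UniversallyClosed.of_comp_surjective z.left Q.hom
  exact { }

include hNmax in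
/-- The largest connected affine normal subgroup contains every connected affine subgroup. -/
theorem factor_affine [ConnectedSpace G.left] (hN : AlgGrp.IsNormalHom i)
    (H : Over (Spec (CommRingCat.of k))) [GrpObj H] (h : H ⟶ G) [IsMonHom h] [IsClosedImmersion h.left]
    [Smooth H.hom] [ConnectedSpace H.left] [IsAffine H.left] : ∃ f : H ⟶ N, f ≫ i = h := by
  haveI : IsSeparated G.hom := GrpSchField.isSeparated G
  obtain ⟨Q, _, q, hq, hQs, hQq, hqf, hqs, -, hker⟩ := exists_quot i hN
  haveI := hq; haveI := hQs; haveI := hQq; haveI := hqf; haveI := hqs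
  haveI : IsSeparated Q.hom := GrpSchField.isSeparated Q
  haveI := isProper_quotient i hNmax q hker
  haveI : QuasiCompact H.hom := by rw [← Over.w h]; infer_instance
  haveI : QuasiCompact (h ≫ q).left := by
    haveI : QuasiCompact ((h ≫ q).left ≫ Q.hom) := by rw [Over.w]; infer_instance
    exact QuasiCompact.of_comp _ Q.hom
  obtain ⟨I, _, p, jI, hp, hjI, hpj, hps, hpf, hplfp, hm, hIlft, -⟩ := Neutral.exists_factor_field (h ≫ q)
  haveI := hp; haveI := hjI; haveI := hm; haveI := hps; haveI := hpf; haveI := hplfp; haveI := hIlft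
  haveI := (Neutral.isClosedImmersion_factor (h ≫ q) hpj).1
  haveI : Smooth I.hom := GrothLib.FppfSource.fppfSourceDescends_smooth p.left I.hom hpf hplfp hps
    (by rw [Over.w p]; infer_instance)
  haveI : ConnectedSpace I.left := p.left.surjective.connectedSpace p.left.continuous
  haveI : IsAffine I.left := Chevalley.isAffine_of_surjective_hom p
  haveI : IsProper I.hom := by rw [← Over.w jI]; infer_instance
  haveI : IsIntegral I.left := Euler.isIntegral_of_smooth_connected k I.hom
  haveI := Cube.geometricallyIntegral_of_isAlgClosed I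
  haveI := subsingleton_of_affine (Cube.isAntiAffine_of_proper (X := I) η[I])
  haveI := isIso_hom_of_subsingleton I
  have h1 : h ≫ q = toUnit H ≫ η[Q] := by
    rw [← hpj, show p = (1 : H ⟶ I) from Over.OverMorphism.ext ((cancel_mono I.hom).1 (by rw [Over.w, Over.w])),
      MonObj.one_comp, Hom.one_def]
  obtain ⟨f, hf, -⟩ := hker.exists_lift h (toUnit H) h1
  exact ⟨f, hf⟩

end GrothLib.Chev24
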