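import Groth.Agent.Lib.Chev24.AffPart
import Groth.Agent.Lib.AlbTors16.Main
import Mathlib.Data.DFinsupp.WellFounded

/-!
# The Albanese quotient of a smooth connected group over any field
-/

set_option autoImplicit false
set_option linter.all false
set_option backward.isDefEq.respectTransparency false
set_option maxHeartbeats 1000000
set_option synthInstance.maxHeartbeats 200000

universe u

open CategoryTheory CategoryTheory.Limits MonoidalCategory CartesianMonoidalCategory MonObj GrpObj
open AlgebraicGeometry TopologicalSpace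

noncomputable section

namespace GrothLib.Chev24

attribute [-instance] Hom.commGroup Hom.commMonoid CommGrpObj.toIsCommMonObj

theorem wellFoundedGT_idealData (X : Scheme.{u}) [IsNoetherian X] : WellFoundedGT X.IdealSheafData := by
  classical
  have hc : ∀ x : X, ∃ U : X.affineOpens, x ∈ U.1 := fun x => by
    obtain ⟨U, hU, hxU, -⟩ := Opens.isBasis_iff_nbhd.1 X.isBasis_affineOpens (Opens.mem_top x)
    exact ⟨⟨U, hU⟩, hxU⟩
  choose U hxU using hc
  obtain ⟨t, ht⟩ := isCompact_univ.elim_finite_subcover (fun x => ((U x).1 : Set X)) (fun x => (U x).1.isOpen)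
    (fun x _ => Set.mem_iUnion.2 ⟨x, hxU x⟩)
  haveI : ∀ i : t, WellFoundedGT (Ideal Γ(X, (U i.1).1)) := fun i => by
    haveI := IsLocallyNoetherian.component_noetherian (X := X) (U i.1)
    infer_instance
  let φ : X.IdealSheafData → ∀ i : t, Ideal Γ(X, (U i.1).1) := fun J i => J.ideal (U i.1)
  have hφ : StrictMono φ := by
    intro J J' h
    refine lt_of_le_of_ne (fun i => h.le _) fun e => h.ne ?_
    refine Scheme.IdealSheafData.ext_of_iSup_eq_top (fun i : t => U i.1) (eq_top_iff.2 fun x _ => ?_)
      fun i => congrFun e i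
    obtain ⟨i, hi, hxi⟩ := Set.mem_iUnion₂.1 (ht (Set.mem_univ x))
    exact Opens.mem_iSup.2 ⟨⟨i, hi⟩, hxi⟩
  haveI : WellFoundedLT (∀ i : t, (Ideal Γ(X, (U i.1).1))ᵒᵈ) := Pi.wellFoundedLT
  have hψ : StrictAnti (fun J : X.IdealSheafData => (fun i => OrderDual.toDual (φ J i) : ∀ i : t, (Ideal Γ(X, (U i.1).1))ᵒᵈ)) :=
    fun J J' h => hφ h
  exact hψ.wellFoundedGT

theorem isOpen_connectedComponent_noetherianSpace {T : Type u} [TopologicalSpace T] [NoetherianSpace T] (a : T) :
    IsOpen (connectedComponent a) := by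
  refine isOpen_iff_forall_mem_open.2 fun z hz => ?_
  refine ⟨(⋃ Z ∈ {Z ∈ irreducibleComponents T | z ∉ Z}, Z)ᶜ, fun w hw => ?_,
    (Set.Finite.isClosed_biUnion (NoetherianSpace.finite_irreducibleComponents.subset fun Z hZ => hZ.1)
      fun Z hZ => isClosed_of_mem_irreducibleComponents Z hZ.1).isOpen_compl, fun hmem => ?_⟩
  · have hzw : z ∈ irreducibleComponent w := by
      by_contra hc
      exact hw (Set.mem_biUnion (x := irreducibleComponent w)
        ⟨irreducibleComponent_mem_irreducibleComponents w, hc⟩ mem_irreducibleComponent)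
    rw [connectedComponent_eq hz]
    exact isIrreducible_irreducibleComponent.isConnected.subset_connectedComponent hzw mem_irreducibleComponent
  · obtain ⟨Z, hZ, hzZ⟩ := Set.mem_iUnion₂.1 hmem
    exact hZ.2 hzZ

variable {k : Type u} [Field k]

/-- Kernels of homomorphisms are normal. -/
theorem isNormalHom_kernel {G N A : Over (Spec (CommRingCat.of k))} [GrpObj G] [GrpObj N] [GrpObj A] (i : N ⟶ G) (α : G ⟶ A)
    [IsMonHom α] (h : AlgGrp.IsKernel i α) : AlgGrp.IsNormalHom i := by
  intro T g x
  obtain ⟨z, hz⟩ := GrpSchField.exists_lift_of_comp_eq_one h (g * (x ≫ i) * g⁻¹) (by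
    rw [MonObj.mul_comp, MonObj.mul_comp, GrpObj.inv_comp, Category.assoc, GrpSchField.comp_eq_one h, MonObj.comp_one,
      _root_.mul_one, mul_inv_cancel])
  exact ⟨z, hz.symm⟩

/-- Pointed morphisms to abelian varieties are homomorphisms. -/
theorem isMonHom_of_pointed_abelian {G B : Over (Spec (CommRingCat.of k))} [GrpObj G] [Smooth G.hom]
    [QuasiCompact G.hom] [ConnectedSpace G.left] [GrpObj B] [IsProper B.hom] [Smooth B.hom] [ConnectedSpace B.left]
    (f : G ⟶ B) (hf : η[G] ≫ f = η[B]) : IsMonHom f := by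
  haveI : IsSeparated G.hom := GrpSchField.isSeparated G
  haveI := GrothLib.Neutral.geometricallyConnected_of_point G.hom (η[G] : 𝟙_ _ ⟶ G).left (Over.w _)
  haveI := GrothLib.Neutral.geometricallyConnected_of_point B.hom (η[B] : 𝟙_ _ ⟶ B).left (Over.w _)
  haveI := Rigidity.geometricallyIntegral_of_smooth G
  haveI := Rigidity.geometricallyIntegral_of_smooth B
  haveI := isCommMonObj_of_isProper_of_geometricallyIntegral B
  have key := Groth.Agent.S14584.result k G G B η[G] η[G] (μ[G] ≫ f)
  have hone : ∀ W : Over (Spec (CommRingCat.of k)), toUnit W ≫ η[G] = (1 : W ⟶ G) := fun W => rfl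
  have hf1 : ∀ W : Over (Spec (CommRingCat.of k)), (1 : W ⟶ G) ≫ f = 1 := fun W => by
    rw [← hone, Category.assoc, hf, ← Hom.one_def]
  have hmul : ∀ {W : Over (Spec (CommRingCat.of k))} (x y : W ⟶ G), (x * y) ≫ f = (y ≫ f) * (x ≫ f) := by
    intro W x y
    have h := congrArg (lift x y ≫ ·) key
    simp only [MonObj.comp_mul, GrpObj.comp_inv, ← Category.assoc, comp_lift, lift_fst, lift_snd, Category.comp_id,
      ← Hom.mul_def, toUnit_unique (lift x y ≫ toUnit (G ⊗ G)) (toUnit W),
      toUnit_unique (x ≫ toUnit G) (toUnit W), toUnit_unique (y ≫ toUnit G) (toUnit W), hone,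
      _root_.one_mul, _root_.mul_one, MonObj.comp_one] at h
    rw [h, hf1, inv_one, _root_.one_mul]
  refine GrpSchField.isMonHom_of_mul f ?_
  have e₁ : μ[G] = fst G G * snd G G := by rw [Hom.mul_def, lift_fst_snd, Category.id_comp]
  have e₂ : (f ⊗ₘ f) ≫ μ[B] = (fst G G ≫ f) * (snd G G ≫ f) := by
    rw [Hom.mul_def, ← lift_map, lift_fst_snd, Category.id_comp]
  rw [e₁, e₂, hmul]
  have hc : ∀ {W : Over (Spec (CommRingCat.of k))} (a b : W ⟶ B), a * b = b * a := fun a b => by
    rw [Hom.mul_def, Hom.mul_def]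
    conv_lhs => rw [← IsCommMonObj.mul_comm B]
    rw [← Category.assoc, lift_braiding_hom]
  exact hc _ _

variable {G : Over (Spec (CommRingCat.of k))} [GrpObj G]

variable (G) in
/-- Kernels of homomorphisms onto abelian varieties. -/
def AbKer (J : G.left.IdealSheafData) : Prop :=
  ∃ (N : Over (Spec (CommRingCat.of k))) (_ : GrpObj N) (i : N ⟶ G) (A : Over (Spec (CommRingCat.of k)))
    (_ : GrpObj A) (α : G ⟶ A), IsMonHom i ∧ IsClosedImmersion i.left ∧ IsProper A.hom ∧ Smooth A.hom ∧
      ConnectedSpace A.left ∧ IsMonHom α ∧ Surjective α.left ∧ Flat α.left ∧ AlgGrp.IsKernel i α ∧ i.left.ker = J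

variable [Smooth G.hom] [QuasiCompact G.hom] [ConnectedSpace G.left]

/-- The image of a homomorphism to a proper group. -/
theorem exists_abKer {B : Over (Spec (CommRingCat.of k))} [GrpObj B] [IsProper B.hom] (u : G ⟶ B) [IsMonHom u] :
    ∃ (N : Over (Spec (CommRingCat.of k))) (_ : GrpObj N) (i : N ⟶ G), AbKer G i.left.ker ∧ IsClosedImmersion i.left ∧
      i ≫ u = 1 := by
  haveI : IsSeparated G.hom := GrpSchField.isSeparated G
  haveI : QuasiCompact u.left := by
    haveI : QuasiCompact (u.left ≫ B.hom) := by rw [Over.w]; infer_instance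
    exact QuasiCompact.of_comp _ B.hom
  obtain ⟨Q, _, p, jQ, hp, hjQ, hpj, hps, hpf, hplfp, hm, hQlft, hker⟩ := Neutral.exists_factor_field u
  haveI := hp; haveI := hjQ; haveI := hm; haveI := hps; haveI := hpf; haveI := hplfp; haveI := hQlft
  haveI := (Neutral.isClosedImmersion_factor u hpj).1
  haveI : Smooth Q.hom := GrothLib.FppfSource.fppfSourceDescends_smooth p.left Q.hom hpf hplfp hps
    (by rw [Over.w p]; infer_instance)
  haveI : ConnectedSpace Q.left := p.left.surjective.connectedSpace p.left.continuous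
  haveI : IsProper Q.hom := by rw [← Over.w jQ]; infer_instance
  let i := pullback.fst u η[B]
  obtain ⟨_, _⟩ := GrpDeligne.exists_grpObj_kernel p i hker
  haveI := GrothLib.GrpSchField.unit_isClosedImmersion B
  haveI : IsClosedImmersion i.left := MorphismProperty.of_isPullback
    ((IsPullback.of_hasPullback u η[B]).map (Over.forget _)).flip (inferInstanceAs (IsClosedImmersion η[B].left))
  refine ⟨_, inferInstance, i, ⟨_, inferInstance, i, Q, inferInstance, p, inferInstance, inferInstance, inferInstance,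
    inferInstance, inferInstance, hp, hps, hpf, hker, rfl⟩, inferInstance, ?_⟩
  exact (congrArg (i ≫ ·) hpj).symm.trans (by
    show i ≫ p ≫ jQ = 1
    rw [← Category.assoc, GrpSchField.comp_eq_one hker, MonObj.one_comp])

omit [ConnectedSpace G.left] in
theorem exists_lift_of_ker {N N' : Over (Spec (CommRingCat.of k))} (i : N ⟶ G) [IsClosedImmersion i.left]
    (i' : N' ⟶ G) (h : i.left.ker ≤ i'.left.ker) : ∃ e : N' ⟶ N, e ≫ i = i' :=
  ⟨Over.homMk (IsClosedImmersion.lift i.left i'.left h) (by
      rw [← Over.w i, ← Category.assoc, IsClosedImmersion.lift_fac, Over.w i']),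
    Over.OverMorphism.ext (IsClosedImmersion.lift_fac _ _ _)⟩

/-- The smallest normal subgroup with abelian quotient is connected and gives the Albanese homomorphism. -/
theorem exists_albanese :
    ∃ (N : Over (Spec (CommRingCat.of k))) (_ : GrpObj N) (i : N ⟶ G) (A : Over (Spec (CommRingCat.of k))) (_ : GrpObj A) (α : G ⟶ A),
      IsMonHom i ∧ IsClosedImmersion i.left ∧ AlgGrp.IsNormalHom i ∧ ConnectedSpace ↥N.left ∧
      IsProper A.hom ∧ Smooth A.hom ∧ ConnectedSpace ↥A.left ∧ IsMonHom α ∧ Surjective α.left ∧ Flat α.left ∧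
      AlgGrp.IsKernel i α ∧
      (∀ (B : Over (Spec (CommRingCat.of k))) [GrpObj B] [IsProper B.hom] (q : G ⟶ B) [IsMonHom q], i ≫ q = 1) := by
  classical
  haveI : IsSeparated G.hom := GrpSchField.isSeparated G
  haveI : IsLocallyNoetherian G.left := LocallyOfFiniteType.isLocallyNoetherian G.hom
  haveI : CompactSpace G.left := QuasiCompact.compactSpace_of_compactSpace G.hom
  haveI : IsNoetherian G.left := {}
  haveI := wellFoundedGT_idealData G.left
  haveI : IsProper (𝟙_ (Over (Spec (CommRingCat.of k)))).hom := inferInstanceAs (IsProper (𝟙 (Spec (CommRingCat.of k))))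
  obtain ⟨N₁, _, i₁, hJ₁, -, -⟩ := exists_abKer (toUnit G)
  obtain ⟨J, hJ, hJmax⟩ := (wellFounded_gt (α := G.left.IdealSheafData)).has_min {J | AbKer G J} ⟨_, hJ₁⟩
  obtain ⟨N, _, i, A, _, α, hi, hic, hAp, hAs, hAc, hα, hαs, hαf, hker, rfl⟩ := hJ
  haveI := hi; haveI := hic; haveI := hAp; haveI := hAs; haveI := hAc; haveI := hα; haveI := hαs; haveI := hαf
  haveI : Mono i := Over.mono_of_mono_left i
  haveI : IsSeparated A.hom := inferInstance
  have hmin : ∀ (B : Over (Spec (CommRingCat.of k))) [GrpObj B] [IsProper B.hom] (q : G ⟶ B) [IsMonHom q],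
      i ≫ q = 1 := by
    intro B _ _ q _
    haveI : IsProper (A ⊗ B).hom := by
      rw [show (A ⊗ B).hom = pullback.fst A.hom B.hom ≫ A.hom from rfl]; infer_instance
    haveI : IsMonHom (lift α q) := GrpSchField.isMonHom_of_mul _ (by
      rw [show (lift α q ⊗ₘ lift α q) ≫ μ[A ⊗ B] = (fst G G ≫ lift α q) * (snd G G ≫ lift α q) by
        rw [Hom.mul_def, ← lift_map, lift_fst_snd, Category.id_comp]]
      apply CartesianMonoidalCategory.hom_ext
      · rw [Category.assoc, lift_fst, MonObj.mul_comp, Category.assoc, Category.assoc, lift_fst, ← MonObj.mul_comp,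
          Hom.mul_def, lift_fst_snd, Category.id_comp]
      · rw [Category.assoc, lift_snd, MonObj.mul_comp, Category.assoc, Category.assoc, lift_snd, ← MonObj.mul_comp,
          Hom.mul_def, lift_fst_snd, Category.id_comp])
    obtain ⟨N', _, i', hJ', hic', hi'⟩ := exists_abKer (lift α q)
    haveI := hic'
    have h1 : i' ≫ α = 1 := by
      have := congrArg (· ≫ fst A B) hi'
      rwa [Category.assoc, lift_fst, MonObj.one_comp] at this
    obtain ⟨e, he⟩ := GrpSchField.exists_lift_of_comp_eq_one hker i' h1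
    have hle : i.left.ker ≤ i'.left.ker := by
      rw [← he, Over.comp_left]; exact Scheme.Hom.le_ker_comp _ _
    obtain ⟨e', he'⟩ := exists_lift_of_ker i' i ((eq_of_le_of_not_lt hle (hJmax _ hJ')).ge)
    have := congrArg (· ≫ snd A B) hi'
    simp only [Category.assoc, lift_snd, MonObj.one_comp] at this
    rw [← he', Category.assoc, this, MonObj.comp_one]
  have hnorm := isNormalHom_kernel i α hker
  refine ⟨N, inferInstance, i, A, inferInstance, α, hi, hic, hnorm, ?_, hAp, hAs, hAc, hα, hαs, hαf, hker, hmin⟩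
  -- connectedness
  haveI : LocallyOfFiniteType N.hom := by rw [← Over.w i]; infer_instance
  haveI : QuasiCompact N.hom := by rw [← Over.w i]; infer_instance
  haveI : IsLocallyNoetherian N.left := LocallyOfFiniteType.isLocallyNoetherian N.hom
  haveI : CompactSpace N.left := QuasiCompact.compactSpace_of_compactSpace N.hom
  haveI : IsNoetherian N.left := {}
  haveI : Subsingleton ↥(Spec (CommRingCat.of k)) := inferInstanceAs (Subsingleton (PrimeSpectrum k))
  let o : ↥(𝟙_ (Over (Spec (CommRingCat.of k)))).left := IsLocalRing.closedPoint k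
  let U : N.left.Opens := ⟨connectedComponent (η[N].left o), by
    exact isOpen_connectedComponent_noetherianSpace _⟩
  let N₀ := GrothLib.Neutral.openPart N U
  let j₀ : N₀ ⟶ N := GrothLib.Neutral.openPartι N U
  haveI : IsOpenImmersion j₀.left := inferInstanceAs (IsOpenImmersion U.ι)
  have hrg : Set.range j₀.left.base = connectedComponent (η[N].left o) := Scheme.Opens.range_ι U
  haveI hN₀c : ConnectedSpace N₀.left := by
    haveI : ConnectedSpace (Set.range j₀.left.base) := Subtype.connectedSpace (by
      rw [hrg]; exact isConnected_connectedComponent)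
    exact j₀.left.isOpenEmbedding.toIsEmbedding.toHomeomorph.symm.surjective.connectedSpace
      j₀.left.isOpenEmbedding.toIsEmbedding.toHomeomorph.symm.continuous
  haveI : IsClosedImmersion j₀.left := IsClosedImmersion.of_isPreimmersion j₀.left (by
    show IsClosed (Set.range j₀.left.base)
    rw [hrg]; exact isClosed_connectedComponent)
  have hsub : ∀ {W : Over (Spec (CommRingCat.of k))} [ConnectedSpace W.left] (c : W ⟶ N)
      (w : 𝟙_ (Over (Spec (CommRingCat.of k))) ⟶ W), w ≫ c = η[N] → Set.range c.left.base ⊆ U := by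
    intro W _ c w hw
    refine (isPreconnected_range c.left.continuous).subset_connectedComponent ⟨w.left o, ?_⟩
    rw [← Scheme.Hom.comp_apply, ← Over.comp_left, hw]
  let one₀ : 𝟙_ (Over (Spec (CommRingCat.of k))) ⟶ N₀ := Over.homMk
    (IsOpenImmersion.lift j₀.left η[N].left (by
      rintro _ ⟨q, rfl⟩
      rw [hrg, show q = o from Subsingleton.elim (α := ↥(Spec (CommRingCat.of k))) _ _]
      exact mem_connectedComponent))
    (by rw [← Over.w j₀, ← Category.assoc, IsOpenImmersion.lift_fac]; exact Over.w η[N])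
  have hone₀ : one₀ ≫ j₀ = η[N] := Over.OverMorphism.ext (IsOpenImmersion.lift_fac _ _ _)
  haveI : ConnectedSpace ↥(N₀ ⊗ N₀).left :=
    GrothLib.Neutral.connectedSpace_pullback N₀.hom N₀.hom one₀.left (Over.w one₀)
  have hmul : ∀ q : ↥(N ⊗ N).left, (fst N N).left q ∈ U → (snd N N).left q ∈ U → μ[N].left q ∈ U := by
    intro q h1 h2
    obtain ⟨r, rfl⟩ : q ∈ Set.range (j₀ ⊗ₘ j₀).left.base := by
      rw [Over.tensorHom_left]
      erw [Scheme.Pullback.range_map]
      exact ⟨hrg ▸ h1, hrg ▸ h2⟩
    refine hsub ((j₀ ⊗ₘ j₀) ≫ μ[N]) (lift one₀ one₀) ?_ ⟨r, ?_⟩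
    · rw [← Category.assoc, lift_map, hone₀, ← Hom.mul_def]
      simp [Hom.one_def]
    · rw [Over.comp_left, Scheme.Hom.comp_apply]
  have hinv : ∀ g : N.left, g ∈ U → ι[N].left g ∈ U := by
    intro g hg
    obtain ⟨r, rfl⟩ : g ∈ Set.range j₀.left.base := hrg.symm ▸ hg
    refine hsub (j₀ ≫ ι[N]) one₀ ?_ ⟨r, by rw [Over.comp_left, Scheme.Hom.comp_apply]⟩
    rw [reassoc_of% hone₀]
    simp
  obtain ⟨_, hj₀⟩ := GrothLib.Neutral.exists_grpObj_openPart N U (fun s => by
    rw [show s = o from Subsingleton.elim (α := ↥(Spec (CommRingCat.of k))) _ _]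
    exact mem_connectedComponent) hmul hinv
  haveI : IsMonHom j₀ := hj₀
  let i₀ : N₀ ⟶ G := j₀ ≫ i
  haveI : IsClosedImmersion i₀.left := inferInstanceAs (IsClosedImmersion (j₀.left ≫ i.left))
  haveI : IsMonHom i₀ := inferInstance
  haveI : LocallyOfFiniteType N₀.hom := by rw [← Over.w j₀]; infer_instance
  have hn₀ : AlgGrp.IsNormalHom i₀ := by
    obtain ⟨c, hc⟩ := hnorm (G ⊗ N₀) (fst G N₀) (snd G N₀ ≫ j₀)
    haveI : ConnectedSpace ↥(G ⊗ N₀).left :=
      GrothLib.Neutral.connectedSpace_pullback G.hom N₀.hom (η[G]).left (Over.w η[G])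
    have hr : Set.range c.left.base ⊆ Set.range j₀.left.base := by
      rw [hrg]
      refine hsub c (lift η[G] one₀) ((cancel_mono i).1 ?_)
      rw [Category.assoc, ← hc]
      simp only [MonObj.comp_mul, GrpObj.comp_inv, lift_fst, lift_snd_assoc, Category.assoc]
      rw [reassoc_of% hone₀, IsMonHom.one_hom, mul_inv_cancel_right]
    intro T g x
    refine ⟨lift g x ≫ Over.homMk (IsOpenImmersion.lift j₀.left c.left hr)
      (by rw [← Over.w j₀, ← Category.assoc, IsOpenImmersion.lift_fac]; exact Over.w c), ?_⟩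
    have e : Over.homMk (IsOpenImmersion.lift j₀.left c.left hr)
      (by rw [← Over.w j₀, ← Category.assoc, IsOpenImmersion.lift_fac]; exact Over.w c) ≫ j₀ = c :=
      Over.OverMorphism.ext (IsOpenImmersion.lift_fac _ _ _)
    simp only [i₀, Category.assoc, reassoc_of% e, ← hc, MonObj.comp_mul, GrpObj.comp_inv, lift_fst, lift_snd_assoc]
  obtain ⟨Q, _, q, hq, hQs, hQq, hqf, hqs, -, hker₀⟩ := exists_quot i₀ hn₀
  haveI := hq; haveI := hQs; haveI := hQq; haveI := hqf; haveI := hqs
  haveI : IsSeparated Q.hom := GrpSchField.isSeparated Q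
  haveI : ConnectedSpace Q.left := q.left.surjective.connectedSpace q.left.continuous
  haveI : QuasiCompact q.left := by
    haveI : QuasiCompact (q.left ≫ Q.hom) := by rw [Over.w q]; infer_instance
    exact QuasiCompact.of_comp q.left Q.hom
  haveI : LocallyOfFinitePresentation q.left := GrothLib.AlbTors16.lfp_of_surj q
  obtain ⟨f, hf, hqfα⟩ := GrpDeligne.exists_factor q i₀ hker₀ α (by
    simp only [i₀, Category.assoc, GrpSchField.comp_eq_one hker, MonObj.comp_one])
  haveI := hf
  haveI : QuasiCompact f.left := by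
    haveI : QuasiCompact (f.left ≫ A.hom) := by rw [Over.w f]; infer_instance
    exact QuasiCompact.of_comp f.left A.hom
  let K := pullback f η[A]
  obtain ⟨w, hw⟩ : ∃ w : N ⟶ K, w ≫ pullback.fst f η[A] = i ≫ q := ⟨pullback.lift (i ≫ q) (toUnit N) (by
    rw [Category.assoc, hqfα, GrpSchField.comp_eq_one hker, Hom.one_def]), pullback.lift_fst _ _ _⟩
  have hwpb : IsPullback w i (pullback.fst f η[A]) q := by
    refine (IsPullback.of_bot ?_ hw.symm (IsPullback.of_hasPullback f η[A])).flip
    rw [Subsingleton.elim (w ≫ pullback.snd f η[A]) (toUnit N), hqfα]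
    exact hker
  haveI : Surjective w.left := MorphismProperty.of_isPullback (P := @Surjective) (hwpb.flip.map (Over.forget _)) hqs
  haveI : Flat w.left := MorphismProperty.of_isPullback (P := @Flat) (hwpb.flip.map (Over.forget _)) hqf
  haveI : LocallyOfFinitePresentation w.left :=
    MorphismProperty.of_isPullback (P := @LocallyOfFinitePresentation) (hwpb.flip.map (Over.forget _)) ‹_›
  haveI := GrothLib.GrpSchField.unit_isClosedImmersion A
  haveI : IsClosedImmersion (pullback.fst f η[A]).left := MorphismProperty.of_isPullback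
    ((IsPullback.of_hasPullback f η[A]).map (Over.forget _)).flip (inferInstanceAs (IsClosedImmersion η[A].left))
  haveI : LocallyOfFiniteType K.hom := by rw [← Over.w (pullback.fst f η[A])]; infer_instance
  haveI : QuasiCompact K.hom := by rw [← Over.w (pullback.fst f η[A])]; infer_instance
  obtain ⟨_, _⟩ := GrpDeligne.exists_grpObj_kernel f (pullback.fst f η[A]) (show IsPullback _ _ _ _ by
    rw [Subsingleton.elim (toUnit K) (pullback.snd f η[A])]; exact IsPullback.of_hasPullback f η[A])
  haveI : Mono (pullback.fst f η[A]) := Over.mono_of_mono_left _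
  have hj₀w : ∀ r : N₀.left, w.left (j₀.left r) = η[K].left o := fun r => by
    have e : j₀ ≫ w = toUnit N₀ ≫ η[K] := by
      rw [← cancel_mono (pullback.fst f η[A]), Category.assoc, hw, Category.assoc, IsMonHom.one_hom]
      exact hker₀.w
    rw [← Scheme.Hom.comp_apply, ← Over.comp_left, e, Over.comp_left, Scheme.Hom.comp_apply,
      show (toUnit N₀).left r = o from Subsingleton.elim (α := ↥(Spec (CommRingCat.of k))) _ _]
  have hpt : ({η[K].left o} : Set K.left) = w.left '' Set.range j₀.left := by
    ext z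
    constructor
    · rintro rfl; exact ⟨_, ⟨one₀.left o, rfl⟩, hj₀w _⟩
    · rintro ⟨_, ⟨r, rfl⟩, rfl⟩; exact hj₀w r
  have hopen : IsOpen ({η[K].left o} : Set K.left) := by
    rw [hpt]; exact w.left.isOpenMap _ j₀.left.isOpenEmbedding.isOpen_range
  haveI := GrothLib.GrpSchField.unit_isClosedImmersion K
  have hclosed : IsClosed ({η[K].left o} : Set K.left) := by
    have : Set.range η[K].left = {η[K].left o} := Set.eq_singleton_iff_unique_mem.2 ⟨⟨o, rfl⟩, by
      rintro _ ⟨p, rfl⟩; exact congrArg _ (Subsingleton.elim (α := ↥(Spec (CommRingCat.of k))) _ _)⟩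
    exact this ▸ η[K].left.isClosedEmbedding.isClosed_range
  haveI : IsFinite K.hom := by
    haveI : LocallyQuasiFinite K.hom := GrothLib.FibreDimAt6.locallyQuasiFinite_of_dim_fiber_le_zero K.hom fun y =>
      ((K.hom.fiberHomeo y).isHomeomorph.topologicalKrullDim_eq _).trans_le
        (Topology.IsEmbedding.subtypeVal.topologicalKrullDim_le.trans (by
          rw [← GrothLib.GrpSchField.ringKrullDim_stalk_eq K hclosed,
            GrothLib.GrpSchField.ringKrullDim_stalk_eq_of_isClosed K.hom hclosed hopen isIrreducible_singleton rfl hclosed]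
          exact dim_le_zero_of_subsingleton))
    exact IsFinite.of_locallyQuasiFinite K.hom
  haveI : IsProper f.left := by
    refine Neutral.isProper_of_kernel f ?_
    have sq := (IsPullback.of_hasPullback f η[A]).map (Over.forget _)
    haveI h1 : IsFinite (pullback.snd f η[A]).left := by
      rw [show (pullback.snd f η[A]).left = K.hom from (Category.comp_id _).symm.trans (Over.w _)]
      infer_instance
    have h2 : pullback.snd f.left η[A].left = sq.isoPullback.inv ≫ (pullback.snd f η[A]).left :=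
      sq.isoPullback_inv_snd.symm
    rw [h2]; infer_instance
  haveI : IsProper Q.hom := by rw [← Over.w f]; infer_instance
  have h0 : i ≫ q = 1 := hmin Q q
  obtain ⟨e, he⟩ := GrpSchField.exists_lift_of_comp_eq_one hker₀ i h0
  haveI : Surjective j₀.left := ⟨fun x => ⟨e.left x, by
    have : e ≫ j₀ = 𝟙 N := by rw [← cancel_mono i, Category.assoc, Category.id_comp]; exact he
    rw [← Scheme.Hom.comp_apply, ← Over.comp_left, this]
    rfl⟩⟩
  exact j₀.left.surjective.connectedSpace j₀.left.continuous

end GrothLib.Chev24
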