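import Groth.Agent.Lib.Chev24.Tori
import Groth.Agent.Lib.Chev24.Albanese
import Groth.Agent.Lib.Flag27.UnipSplit
import Groth.Agent.Lib.IsogProps19.Points

/-!
# The largest torus quotient of a connected group
-/

set_option autoImplicit false
set_option linter.all false
set_option backward.isDefEq.respectTransparency false
set_option maxHeartbeats 1000000
set_option synthInstance.maxHeartbeats 200000

universe u

open CategoryTheory CategoryTheory.Limits MonoidalCategory CartesianMonoidalCategory MonObj GrpObj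
open AlgebraicGeometry TopologicalSpace
open scoped TensorProduct WithConv

noncomputable section

namespace GrothLib.Chev24

open GrothLib.MultHopf14 GrothLib.MultDef14 GrothLib.CentMT14
open GrothLib.Flag27 (IsUnip)

attribute [-instance] Hom.commGroup Hom.commMonoid CommGrpObj.toIsCommMonObj

variable {k : Type u} [Field k] [IsAlgClosed k]


/-- A unipotent group has only trivial homomorphisms to tori. -/
theorem unip_to_torus_eq_one {U T : Over (Spec (CommRingCat.of k))} [GrpObj U] [GrpObj T] (h : IsUnip k U) (hT : Red.IsTorus T) (f : U ⟶ T)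
    [IsMonHom f] : f = 1 := by
  obtain ⟨A, _, _, hft, hu, ⟨e⟩⟩ := h
  obtain ⟨hTa, hTl⟩ := GrothLib.OneMotFaith14.isAffine_of_isTorus hT
  haveI := hTa; haveI := hTl
  haveI : Smooth T.hom := TorusNorm25.smooth_of_isTorus hT
  obtain ⟨M, _, _, ⟨eM⟩⟩ := exists_hopf T (isAffineHom_of_isAffine _)
  haveI := Flag27.finiteType_of_grpIso eM
  obtain ⟨φ, hφ⟩ := Flag27.exists_specMap eM e f
  have h1 := Flag27.specMap_eq_one φ ((Groth.Agent.S2966.result
    (Flag27.isDiagonalizable_of_isTorus eM hT) hu).2 φ)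
  haveI : IsMonHom eM.hom.hom.hom := eM.hom.hom.isMonHom_hom
  have he : e.inv.hom.hom ≫ e.hom.hom.hom = 𝟙 U := congrArg (fun w => w.hom.hom) e.inv_hom_id
  rw [h1, MonObj.one_comp] at hφ
  rw [← Category.id_comp f, ← he, Category.assoc, ← hφ, MonObj.comp_one]

/-- A commutative group has a solvable group of points. -/
theorem isSolvable_pts_of_comm {B : Over (Spec (CommRingCat.of k))} [GrpObj B]
    (hc : ∀ (a b : (𝟙_ (Over (Spec (CommRingCat.of k)))) ⟶ B), a * b = b * a) : IsSolvable ((𝟙_ (Over (Spec (CommRingCat.of k)))) ⟶ B) :=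
  isSolvable_of_comm hc

/-- Points of a torus commute. -/
theorem torus_comm {T W : Over (Spec (CommRingCat.of k))} [GrpObj T] (hT : Red.IsTorus T) (a b : W ⟶ T) : a * b = b * a :=
  GrothLib.RankCell14.comm_torus hT a b

/-- A connected solvable affine group without unipotent subgroups is a torus. -/
theorem isTorus_of_noUnip {E : Over (Spec (CommRingCat.of k))} [GrpObj E] [IsAffine E.left] [Smooth E.hom] [ConnectedSpace E.left]
    (hs : IsSolvable ((𝟙_ (Over (Spec (CommRingCat.of k)))) ⟶ E))
    (hU : ∀ (U : Over (Spec (CommRingCat.of k))) [GrpObj U] (w : U ⟶ E), IsMonHom w → IsClosedImmersion w.left → IsUnip k U → Smooth U.hom →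
      ConnectedSpace U.left → w = 1) : Red.IsTorus E := by
  obtain ⟨D, _, U, _, p, s, w, r, hp, hs', hu, hsp, hDt, hDa, hDs, hDc, huc, hup, hur, hru, hUu, hUs, hUc⟩ :=
    Flag27.hasSplit_of_solvable hs
  haveI := hp; haveI := hs'; haveI := hu; haveI := huc
  have hw : w = 1 := hU U w hu huc hUu hUs hUc
  rw [hw, MonObj.comp_one] at hru
  have hps : p ≫ s = 𝟙 E := by
    have := mul_inv_eq_one.1 hru.symm
    exact this.symm
  let f : D ≅ E := ⟨s, p, hsp, hps⟩
  haveI : IsMonHom f.hom := hs'
  exact Flag27.isTorus_of_grpIso (Grp.mkIso' f) hDt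

/-- Over an algebraically closed field a torus is split. -/
theorem exists_splitWith {T : Over (Spec (CommRingCat.of k))} [GrpObj T] (hT : Red.IsTorus T) :
    ∃ r : ℕ, Red.IsSplitTorusWith (Fin r → ℤ) T := by
  classical
  obtain ⟨hTa, hTl⟩ := GrothLib.OneMotFaith14.isAffine_of_isTorus hT
  haveI := hTa; haveI := hTl
  obtain ⟨hTs, hTc⟩ := Rigidity.smooth_connected_of_isTorus T hT
  haveI := hTs; haveI := hTc
  haveI := GrothLib.Rigidity.irreducibleSpace_of_connected T
  haveI : IsReduced T.left := GrothLib.RedSmooth.isReduced_of_smooth T.hom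
  haveI : IsIntegral T.left := isIntegral_of_irreducibleSpace_of_isReduced _
  obtain ⟨B, _, _, ⟨e⟩⟩ := exists_hopf T (isAffineHom_of_isAffine _)
  haveI := Flag27.finiteType_of_grpIso e
  let i : specGrp (R := k) B ≅ T := (Grp.forget _).mapIso e
  haveI : IsDomain B := by
    haveI : IsIso i.inv.left := inferInstanceAs (IsIso ((Over.forget _).map i.inv))
    haveI : IsIntegral (Spec (CommRingCat.of B)) := .of_isIso i.inv.left
    exact (affine_isIntegral_iff (CommRingCat.of B)).1 inferInstance
  have hdiag : HopfRep.IsDiagonalizable k B := GrothLib.OneMotFaith14.isDiagonalizable_torus e hT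
  haveI := GrothLib.CharFG28.fg_groupLike k B
  haveI : IsMulTorsionFree (GroupLike k B) := by
    refine ⟨fun m hm g h' hgh => ?_⟩
    have h1 : (g / h') ^ m = 1 := by
      rw [div_pow]; exact div_eq_one.2 hgh
    have hint : IsIntegral k ((g / h' : GroupLike k B) : B) := IsIntegral.of_pow (Nat.pos_of_ne_zero hm) (by
      rw [← GroupLike.val_pow, h1, GroupLike.val_one]; exact isIntegral_one)
    haveI : Algebra.IsIntegral k (Algebra.adjoin k {((g / h' : GroupLike k B) : B)}) :=
      Algebra.IsIntegral.adjoin (by rintro y rfl; exact hint)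
    obtain ⟨c, hc⟩ := (IsAlgClosed.algebraMap_bijective_of_isIntegral (k := k)
      (K := Algebra.adjoin k {((g / h' : GroupLike k B) : B)})).2 ⟨_, Algebra.subset_adjoin rfl⟩
    have hc' : algebraMap k B c = ((g / h' : GroupLike k B) : B) := congrArg Subtype.val hc
    have hcc : c = 1 := by
      have := (g / h').2.1
      rw [← hc', Bialgebra.counit_algebraMap] at this
      exact this
    exact div_eq_one.1 (GroupLike.val_injective (by rw [← hc', hcc, map_one, GroupLike.val_one]))
  haveI : Module.Finite ℤ (Additive (GroupLike k B)) := Module.Finite.iff_addGroup_fg.2 inferInstance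
  let r := Module.finrank ℤ (Additive (GroupLike k B))
  let b : Module.Basis (Fin r) ℤ (Additive (GroupLike k B)) := Module.finBasis ℤ _
  let eG : Multiplicative (Fin r → ℤ) ≃* GroupLike k B :=
    AddEquiv.toMultiplicativeLeft b.equivFun.symm.toAddEquiv
  let Φ : MonoidAlgebra k (Multiplicative (Fin r → ℤ)) →ₐc[k] B :=
    (MonoidAlgebra.liftGroupLikeBialgHom (R := k) (A := B)).comp
      (MonoidAlgebra.mapDomainBialgHom k eG.toMonoidHom)
  have hbij : Function.Bijective Φ := by
    refine ⟨(GrothLib.CharFG28.liftGroupLike_injective k B).comp (MonoidAlgebra.mapDomain_injective eG.injective),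
      fun a => ?_⟩
    have ha : a ∈ Submodule.span k {a : B | IsGroupLikeElem k a} := by rw [hdiag]; trivial
    induction ha using Submodule.span_induction with
    | mem c hc => exact ⟨MonoidAlgebra.single (eG.symm ⟨c, hc⟩) 1, by simp [Φ]⟩
    | zero => exact ⟨0, map_zero _⟩
    | add c d _ _ hc hd =>
      obtain ⟨c', rfl⟩ := hc
      obtain ⟨d', rfl⟩ := hd
      exact ⟨c' + d', map_add _ _ _⟩
    | smul r c _ hc =>
      obtain ⟨c', rfl⟩ := hc
      exact ⟨r • c', map_smul _ _ _⟩
  obtain ⟨e₂⟩ := grpIso_of_bialgEquiv (BialgEquiv.ofBijective Φ hbij)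
  haveI := isMonHom_diagToDS k (Fin r → ℤ)
  haveI := isIso_diagToDS k (Fin r → ℤ)
  let e₃ : Grp.mk (Red.diag k (Fin r → ℤ)) ≅ Grp.mk (Red.DS (Spec (CommRingCat.of k)) (Fin r → ℤ)) :=
    Grp.mkIso (asIso (diagToDS k (Fin r → ℤ))) (IsMonHom.one_hom _) (IsMonHom.mul_hom _)
  exact ⟨r, ⟨e.symm ≪≫ e₂ ≪≫ e₃⟩⟩

variable {G : Over (Spec (CommRingCat.of k))} [GrpObj G]

variable (G) in
/-- Kernels of homomorphisms onto tori. -/
def TorKer (J : G.left.IdealSheafData) : Prop :=
  ∃ (N : Over (Spec (CommRingCat.of k))) (_ : GrpObj N) (i : N ⟶ G) (A : Over (Spec (CommRingCat.of k))) (_ : GrpObj A) (α : G ⟶ A), IsMonHom i ∧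
    IsClosedImmersion i.left ∧ Red.IsTorus A ∧ IsMonHom α ∧ Surjective α.left ∧ Flat α.left ∧
    AlgGrp.IsKernel i α ∧ i.left.ker = J

variable [Smooth G.hom] [QuasiCompact G.hom] [ConnectedSpace G.left]

/-- The image of a homomorphism to a commutative affine group without unipotent subgroups is a torus. -/
theorem exists_torKer {B : Over (Spec (CommRingCat.of k))} [GrpObj B] [LocallyOfFiniteType B.hom] [IsAffine B.left] (v : G ⟶ B) [IsMonHom v]
    (hc : ∀ (a b : (𝟙_ (Over (Spec (CommRingCat.of k)))) ⟶ B), a * b = b * a)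
    (hB : ∀ (U : Over (Spec (CommRingCat.of k))) [GrpObj U] (w : U ⟶ B), IsMonHom w → IsUnip k U → w = 1) :
    ∃ (N : Over (Spec (CommRingCat.of k))) (_ : GrpObj N) (i : N ⟶ G), TorKer G i.left.ker ∧ IsClosedImmersion i.left ∧ i ≫ v = 1 := by
  haveI : IsSeparated G.hom := GrpSchField.isSeparated G
  haveI : IsSeparated B.hom := GrpSchField.isSeparated B
  haveI : QuasiCompact v.left := by
    haveI : QuasiCompact (v.left ≫ B.hom) := by rw [Over.w]; infer_instance
    exact QuasiCompact.of_comp _ B.hom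
  obtain ⟨Q, _, p, jQ, hp, hjQ, hpj, hps, hpf, hplfp, hm, hQlft, hker⟩ := Neutral.exists_factor_field v
  haveI := hp; haveI := hjQ; haveI := hm; haveI := hps; haveI := hpf; haveI := hplfp; haveI := hQlft
  haveI := (Neutral.isClosedImmersion_factor v hpj).1
  haveI : Smooth Q.hom := GrothLib.FppfSource.fppfSourceDescends_smooth p.left Q.hom hpf hplfp hps
    (by rw [Over.w p]; infer_instance)
  haveI : ConnectedSpace Q.left := p.left.surjective.connectedSpace p.left.continuous
  haveI : IsAffine Q.left := isAffine_of_isAffineHom jQ.left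
  haveI : Mono jQ := Over.mono_of_mono_left jQ
  have hQt : Red.IsTorus Q := isTorus_of_noUnip
    (isSolvable_pts_of_comm fun a b => (cancel_mono jQ).1 (by rw [MonObj.mul_comp, MonObj.mul_comp, hc]))
    fun U _ w hw _ hUu _ _ => by
      haveI := hw
      rw [← cancel_mono jQ, MonObj.one_comp]
      exact hB U (w ≫ jQ) inferInstance hUu
  let i := pullback.fst v η[B]
  obtain ⟨_, _⟩ := GrpDeligne.exists_grpObj_kernel p i hker
  haveI := GrothLib.GrpSchField.unit_isClosedImmersion B
  haveI : IsClosedImmersion i.left := MorphismProperty.of_isPullback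
    ((IsPullback.of_hasPullback v η[B]).map (Over.forget _)).flip (inferInstanceAs (IsClosedImmersion η[B].left))
  refine ⟨_, inferInstance, i, ⟨_, inferInstance, i, Q, inferInstance, p, inferInstance, inferInstance, hQt, hp, hps,
    hpf, hker, rfl⟩, inferInstance, ?_⟩
  exact (congrArg (i ≫ ·) hpj).symm.trans (by
    show i ≫ p ≫ jQ = 1
    rw [← Category.assoc, GrpSchField.comp_eq_one hker, MonObj.one_comp])

variable (G) in
/-- The smallest kernel of a homomorphism onto a torus. -/
theorem exists_torQuot :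
    ∃ (N : Over (Spec (CommRingCat.of k))) (_ : GrpObj N) (i : N ⟶ G) (A : Over (Spec (CommRingCat.of k))) (_ : GrpObj A) (α : G ⟶ A),
      IsMonHom i ∧ IsClosedImmersion i.left ∧ Red.IsTorus A ∧ IsMonHom α ∧ Surjective α.left ∧ Flat α.left ∧
      AlgGrp.IsKernel i α ∧
      (∀ (B : Over (Spec (CommRingCat.of k))) [GrpObj B], Red.IsTorus B → ∀ (q : G ⟶ B) [IsMonHom q], i ≫ q = 1) := by
  classical
  haveI : IsSeparated G.hom := GrpSchField.isSeparated G
  haveI : IsLocallyNoetherian G.left := LocallyOfFiniteType.isLocallyNoetherian G.hom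
  haveI : CompactSpace G.left := QuasiCompact.compactSpace_of_compactSpace G.hom
  haveI : IsNoetherian G.left := {}
  haveI := wellFoundedGT_idealData G.left
  haveI : IsAffine ((𝟙_ (Over (Spec (CommRingCat.of k))))).left := inferInstanceAs (IsAffine (Spec (CommRingCat.of k)))
  haveI : LocallyOfFiniteType ((𝟙_ (Over (Spec (CommRingCat.of k))))).hom := inferInstanceAs (LocallyOfFiniteType (𝟙 (Spec (CommRingCat.of k))))
  obtain ⟨N₁, _, i₁, hJ₁, -, -⟩ := exists_torKer (toUnit G) (fun a b => toUnit_unique _ _)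
    (fun U _ w _ _ => toUnit_unique _ _)
  obtain ⟨J, hJ, hJmax⟩ := (wellFounded_gt (α := G.left.IdealSheafData)).has_min {J | TorKer G J} ⟨_, hJ₁⟩
  obtain ⟨N, _, i, A, _, α, hi, hic, hAt, hα, hαs, hαf, hker, rfl⟩ := hJ
  haveI := hi; haveI := hic; haveI := hα; haveI := hαs; haveI := hαf
  refine ⟨N, inferInstance, i, A, inferInstance, α, hi, hic, hAt, hα, hαs, hαf, hker, ?_⟩
  intro B _ hBt q _
  obtain ⟨hAa, hAl⟩ := GrothLib.OneMotFaith14.isAffine_of_isTorus hAt
  obtain ⟨hBa, hBl⟩ := GrothLib.OneMotFaith14.isAffine_of_isTorus hBt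
  haveI := hAa; haveI := hAl; haveI := hBa; haveI := hBl
  haveI : IsAffine (A ⊗ B).left := inferInstanceAs (IsAffine (pullback A.hom B.hom))
  haveI : LocallyOfFiniteType (A ⊗ B).hom := by
    show LocallyOfFiniteType (pullback.fst A.hom B.hom ≫ A.hom)
    infer_instance
  haveI : IsMonHom (lift α q) := GrpSchField.isMonHom_of_mul _ (by
    rw [show (lift α q ⊗ₘ lift α q) ≫ μ[A ⊗ B] = (fst G G ≫ lift α q) * (snd G G ≫ lift α q) by
      rw [Hom.mul_def, ← lift_map, lift_fst_snd, Category.id_comp]]
    apply CartesianMonoidalCategory.hom_ext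
    · rw [Category.assoc, lift_fst, MonObj.mul_comp, Category.assoc, Category.assoc, lift_fst, ← MonObj.mul_comp,
        Hom.mul_def, lift_fst_snd, Category.id_comp]
    · rw [Category.assoc, lift_snd, MonObj.mul_comp, Category.assoc, Category.assoc, lift_snd, ← MonObj.mul_comp,
        Hom.mul_def, lift_fst_snd, Category.id_comp])
  obtain ⟨N', _, i', hJ', hic', hi'⟩ := exists_torKer (lift α q)
    (fun a b => by
      apply CartesianMonoidalCategory.hom_ext
      · rw [MonObj.mul_comp, MonObj.mul_comp]; exact torus_comm hAt _ _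
      · rw [MonObj.mul_comp, MonObj.mul_comp]; exact torus_comm hBt _ _)
    (fun U _ w hw hUu => by
      haveI := hw
      apply CartesianMonoidalCategory.hom_ext
      · rw [unip_to_torus_eq_one hUu hAt (w ≫ fst A B), MonObj.one_comp]
      · rw [unip_to_torus_eq_one hUu hBt (w ≫ snd A B), MonObj.one_comp])
  haveI := hic'
  have h1 : i' ≫ α = 1 := by
    have := congrArg (· ≫ fst A B) hi'
    rwa [Category.assoc, lift_fst, MonObj.one_comp] at this
  obtain ⟨e, he⟩ := GrpSchField.exists_lift_of_comp_eq_one hker i' h1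
  have hle : i.left.ker ≤ i'.left.ker := by
    rw [← he, Over.comp_left]; exact Scheme.Hom.le_ker_comp _ _
  obtain ⟨e', he'⟩ := exists_lift_of_ker i' i ((eq_of_le_of_not_lt hle (hJmax _ hJ')).ge)
  have := congrArg (· ≫ snd A B) hi'
  simp only [Category.assoc, lift_snd, MonObj.one_comp] at this
  rw [← he', Category.assoc, this, MonObj.comp_one]

/-- A subgroup stable under conjugation by rational points is normal. -/
theorem isNormalHom_of_pts {G₁ : Over (Spec (CommRingCat.of k))} [GrpObj G₁] [Smooth G₁.hom] {R : Over (Spec (CommRingCat.of k))} [GrpObj R] [Smooth R.hom] (r : R ⟶ G₁) [IsClosedImmersion r.left]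
    (h : ∀ (g : (𝟙_ (Over (Spec (CommRingCat.of k)))) ⟶ G₁) (x : (𝟙_ (Over (Spec (CommRingCat.of k)))) ⟶ R), ∃ y, y ≫ r = g * (x ≫ r) * g⁻¹) : AlgGrp.IsNormalHom r := by
  let c : G₁ ⊗ R ⟶ G₁ := fst G₁ R * (snd G₁ R ≫ r) * (fst G₁ R)⁻¹
  haveI : IsReduced G₁.left := GrothLib.Rigidity.isReduced_of_smooth G₁.hom
  haveI : IsReduced R.left := GrothLib.Rigidity.isReduced_of_smooth R.hom
  haveI : IsReduced (G₁ ⊗ R).left := GrothLib.GrpSchField.isReduced_pullback G₁.hom R.hom
  haveI : LocallyOfFiniteType (G₁ ⊗ R).hom := by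
    show LocallyOfFiniteType (pullback.fst G₁.hom R.hom ≫ G₁.hom)
    infer_instance
  obtain ⟨c', hc'⟩ := Flag27.exists_lift_of_pts c r fun v => by
    obtain ⟨y, hy⟩ := h (v ≫ fst G₁ R) (v ≫ snd G₁ R)
    exact ⟨y, hy.trans (by simp only [c, MonObj.comp_mul, GrpObj.comp_inv, Category.assoc])⟩
  intro T g x
  refine ⟨lift g x ≫ c', ?_⟩
  simp only [Category.assoc, hc', c, MonObj.comp_mul, GrpObj.comp_inv, lift_fst, lift_snd_assoc]

/-- The reduced neutral component is open. -/
theorem exists_openRedNeutral (K : Over (Spec (CommRingCat.of k))) [GrpObj K] [LocallyOfFiniteType K.hom] [QuasiCompact K.hom] :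
    ∃ (H : Over (Spec (CommRingCat.of k))) (_ : GrpObj H) (j : H ⟶ K), IsMonHom j ∧ IsClosedImmersion j.left ∧
      Smooth H.hom ∧ ConnectedSpace H.left ∧ IsOpen (Set.range j.left) ∧
      ∀ (T : Over (Spec (CommRingCat.of k))) (x : T ⟶ K), IsReduced T.left → ConnectedSpace T.left →
        η[K].left (IsLocalRing.closedPoint k) ∈ Set.range x.left → ∃ x' : T ⟶ H, x' ≫ j = x := by
  obtain ⟨H, hHg, j, hj, hjc, hHs, hHc, -, hlift⟩ := exists_redNeutral K
  refine ⟨H, hHg, j, hj, hjc, hHs, hHc, ?_, hlift⟩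
  haveI := hj; haveI := hjc; haveI := hHc
  haveI : IsSeparated K.hom := GrpSchField.isSeparated K
  obtain ⟨Kr, _, jr, hjr, hjrc, hKr, hjrs⟩ := AffMono14.exists_red K
  haveI := hjr; haveI := hjrc; haveI := hKr; haveI := hjrs
  haveI : LocallyOfFiniteType Kr.hom := by rw [← Over.w jr]; infer_instance
  haveI : QuasiCompact Kr.hom := by rw [← Over.w jr]; infer_instance
  haveI : Smooth Kr.hom := GrpSchField.smooth_of_perfectField_of_isReduced Kr
  haveI : IsSeparated Kr.hom := GrpSchField.isSeparated Kr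
  obtain ⟨H', _, j₀, hj₀, hj₀o, hrange, hHs', hHq⟩ := GrothLib.Neutral.exists_neutralPart Kr
  haveI := hj₀; haveI := hj₀o; haveI := hHs'
  let p : ↥((𝟙_ (Over (Spec (CommRingCat.of k))))).left := IsLocalRing.closedPoint k
  have hrg : Set.range j₀.left.base = connectedComponent (η[Kr].left.base p) := by
    rw [hrange, GrothLib.Induce27.neutralSet_eq Kr p]
  haveI : ConnectedSpace H'.left := by
    haveI : ConnectedSpace (Set.range j₀.left.base) := Subtype.connectedSpace (by
      rw [hrg]; exact isConnected_connectedComponent)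
    exact j₀.left.isOpenEmbedding.toIsEmbedding.toHomeomorph.symm.surjective.connectedSpace
      j₀.left.isOpenEmbedding.toIsEmbedding.toHomeomorph.symm.continuous
  let x : H' ⟶ K := j₀ ≫ jr
  haveI : IsReduced H'.left := GrothLib.Rigidity.isReduced_of_smooth H'.hom
  have hx1 : η[K].left p ∈ Set.range x.left :=
    ⟨η[H'].left p, by rw [← Scheme.Hom.comp_apply, ← Over.comp_left, IsMonHom.one_hom]⟩
  obtain ⟨x', hx'⟩ := hlift H' x inferInstance inferInstance hx1
  have hopen : IsOpen (Set.range x.left) := by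
    have e : Set.range x.left = jr.left '' Set.range j₀.left := by
      rw [← Set.range_comp]; rfl
    rw [e]
    have hemb : Topology.IsOpenEmbedding jr.left :=
      ⟨jr.left.isClosedEmbedding.isEmbedding, by rw [jr.left.surjective.range_eq]; exact isOpen_univ⟩
    exact hemb.isOpenMap _ j₀.left.isOpenEmbedding.isOpen_range
  have hclosed : IsClosed (Set.range x.left) := by
    have e : Set.range x.left = jr.left '' Set.range j₀.left := by
      rw [← Set.range_comp]; rfl
    rw [e]
    refine jr.left.isClosedEmbedding.isClosedMap _ ?_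
    show IsClosed (Set.range j₀.left.base)
    rw [hrg]; exact isClosed_connectedComponent
  have hsub : Set.range x.left ⊆ Set.range j.left := by
    rintro _ ⟨a, rfl⟩
    exact ⟨x'.left a, by rw [← Scheme.Hom.comp_apply, ← Over.comp_left, hx']⟩
  have hsup : Set.range j.left ⊆ Set.range x.left := by
    refine (isPreconnected_range j.left.continuous).subset_isClopen ⟨hclosed, hopen⟩ ?_
    exact ⟨η[K].left p, ⟨η[H].left p, by rw [← Scheme.Hom.comp_apply, ← Over.comp_left, IsMonHom.one_hom]⟩, hx1⟩
  rwa [Set.Subset.antisymm hsup hsub]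

end GrothLib.Chev24
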