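import Groth.Agent.Lib.Flag27.BorelGeneral

/-!
# Monomorphic Borel subgroups are closed
-/

set_option autoImplicit false
set_option linter.all false
set_option backward.isDefEq.respectTransparency false
set_option synthInstance.maxHeartbeats 40000

universe u

open CategoryTheory CategoryTheory.Limits MonoidalCategory CartesianMonoidalCategory MonObj GrpObj AlgebraicGeometry

namespace GrothLib.Flag27

open GrothLib.DiagGrp

variable {S : Scheme.{u}} {G B : Over S} [GrpObj G] [GrpObj B]

set_option maxHeartbeats 1600000 in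
/-- A Borel subgroup given as a monomorphism is closed and its own normalizer. -/
theorem closed_normalizer_borel_mono [Smooth G.hom] [QuasiCompact G.hom]
    (hconn : ∀ s : S, _root_.IsConnected (G.hom.base ⁻¹' {s})) {b : B ⟶ G} [IsMonHom b] [Mono b]
    (hBs : Smooth B.hom)
    (hgeo : ∀ s : S, Red.IsBorelOver (AlgebraicClosure (S.residueField s)) ((Over.pullback (Red.geomPt s)).map b)) :
    IsClosedImmersion b.left ∧ Red.IsNormalizerOf b b := by
  haveI := hBs
  have hfib : ∀ s : S, Smooth (Red.bc (Red.geomPt s) G).hom ∧ QuasiCompact (Red.bc (Red.geomPt s) G).hom ∧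
      ConnectedSpace (Red.bc (Red.geomPt s) G).left := fun s => by
    refine ⟨inferInstanceAs (Smooth (pullback.snd _ _)), inferInstanceAs (QuasiCompact (pullback.snd _ _)), ?_⟩
    let σ : Spec (CommRingCat.of (AlgebraicClosure (S.residueField s))) ⟶ Spec (CommRingCat.of (S.residueField s)) :=
      Spec.map (CommRingCat.ofHom (algebraMap (S.residueField s) (AlgebraicClosure (S.residueField s))))
    let G₁ := Red.bc (S.fromSpecResidueField s) G
    haveI : Smooth G₁.hom := inferInstanceAs (Smooth (pullback.snd _ _))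
    haveI : ConnectedSpace G₁.left := by
      haveI : ConnectedSpace (G.hom.base ⁻¹' {s}) := Subtype.connectedSpace (hconn s)
      exact (G.hom.fiberHomeo s).symm.surjective.connectedSpace (G.hom.fiberHomeo s).symm.continuous
    haveI := connectedSpace_bc (k := S.residueField s) σ G₁
    let e := (Over.pullbackComp σ (S.fromSpecResidueField s)).app G
    let h := (Over.forget _).mapIso e
    haveI : ConnectedSpace ↥((Over.forget _).obj ((Over.pullback (S.fromSpecResidueField s) ⋙ Over.pullback σ).obj G)) :=
      ‹ConnectedSpace (Red.bc σ G₁).left›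
    exact (Scheme.homeoOfIso h).symm.surjective.connectedSpace (Scheme.homeoOfIso h).symm.continuous
  haveI : GeometricallyConnected B.hom := DescentHom.geometricallyConnected_of_geomPt B.hom fun s => (hgeo s).2.2.2.1
  haveI : GeometricallyIrreducible B.hom := SecLocus.geometricallyIrreducible_of_smooth B.hom
  haveI : LocallyOfFiniteType G.hom := inferInstance
  obtain ⟨N, _, j, hN, hjc, hjfp⟩ := GrothLib.SecLocus.exists_normalizer b
  haveI := hjc; haveI := hjfp
  obtain ⟨hjm, hjmono, hjiff⟩ := id hN
  haveI := hjm; haveI := hjmono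
  obtain ⟨v, hv⟩ := (hjiff B b).2 fun X' x h =>
    ⟨⟨x * h * x⁻¹, by simp only [MonObj.mul_comp, GrpObj.inv_comp]⟩,
      ⟨x⁻¹ * h * x, by simp only [MonObj.mul_comp, GrpObj.inv_comp]⟩⟩
  haveI : LocallyOfFiniteType N.hom := by rw [← Over.w j]; infer_instance
  haveI : LocallyOfFinitePresentation (v.left ≫ N.hom) := by rw [Over.w v]; infer_instance
  haveI : Flat (v.left ≫ N.hom) := by rw [Over.w v]; infer_instance
  have hiso : IsIso v.left := FibreFlat.isIso_of_fibrewise v.left N.hom fun s => isIso_fibre_of_geom' v s (by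
    obtain ⟨hm', hc', -⟩ := id (hgeo s)
    haveI := hm'; haveI := hc'
    obtain ⟨hs₁, hq₁, hc₁⟩ := hfib s
    haveI := hs₁; haveI := hq₁; haveI := hc₁
    haveI : IsClosedImmersion ((Over.pullback (Red.geomPt s)).map j).left :=
      MorphismProperty.of_isPullback (P := @IsClosedImmersion) (isPullback_overMap j (Red.geomPt s)).flip hjc
    obtain ⟨φ, hφ⟩ := exists_factor_normalizer_general (hgeo s) ((Over.pullback (Red.geomPt s)).map j)
      (isNormalizerOf_bc _ hN)
    haveI : Mono ((Over.pullback (Red.geomPt s)).map j) := Over.mono_of_mono_left _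
    haveI : Mono ((Over.pullback (Red.geomPt s)).map b) := Over.mono_of_mono_left _
    refine ⟨φ, ?_, ?_⟩
    · rw [← cancel_mono ((Over.pullback (Red.geomPt s)).map b), Category.assoc, hφ, ← Functor.map_comp, hv,
        Category.id_comp]
    · rw [← cancel_mono ((Over.pullback (Red.geomPt s)).map j), Category.assoc, ← Functor.map_comp, hv, hφ,
        Category.id_comp])
  haveI : IsIso ((Over.forget _).map v) := hiso
  haveI : IsIso v := isIso_of_reflects_iso v (Over.forget _)
  refine ⟨by rw [← hv, Over.comp_left]; infer_instance, inferInstance, inferInstance, fun X g => ⟨?_, fun hg => ?_⟩⟩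
  · rintro ⟨z, rfl⟩ X' x h
    exact ⟨⟨(x ≫ z) * h * (x ≫ z)⁻¹, by simp only [MonObj.mul_comp, GrpObj.inv_comp, Category.assoc]⟩,
      ⟨(x ≫ z)⁻¹ * h * (x ≫ z), by simp only [MonObj.mul_comp, GrpObj.inv_comp, Category.assoc]⟩⟩
  · obtain ⟨z, hz⟩ := (hjiff X g).2 hg
    exact ⟨z ≫ inv v, by rw [Category.assoc, ← hv, IsIso.inv_hom_id_assoc, hz]⟩

end GrothLib.Flag27
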