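import Groth.Agent.Lib.Chev24.Main
import Groth.Agent.Lib.Chevalley.GroupQuot
import Groth.Agent.Lib.QuotGrp14.Artin
import Groth.Agent.Lib.Cube.MulFinite
import Groth.Agent.Lib.AntiAffine.Image
import Groth.Agent.Lib.GrpDeligne.AbVar
import Groth.Agent.Lib.Neutral.FieldFactor
import Groth.Agent.Lib.Euler.Rank
import Groth.Agent.S3293

/-!
# Anti-affine groups are divisible
-/

set_option autoImplicit false
set_option linter.all false
set_option backward.isDefEq.respectTransparency false
set_option maxHeartbeats 1000000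
set_option synthInstance.maxHeartbeats 200000

universe u

open CategoryTheory CategoryTheory.Limits MonoidalCategory CartesianMonoidalCategory MonObj GrpObj
open AlgebraicGeometry VecGrp Topology

noncomputable section

namespace GrothLib.Chev24

variable {k : Type u} [Field k]

local notation "𝒦" => Over (Spec (CommRingCat.of k))

/-- The quotient by a closed normal subgroup is a group of finite type. -/
theorem exists_quot {G N : Over (Spec (CommRingCat.of k))} [GrpObj G] [GrpObj N] [Smooth G.hom] [QuasiCompact G.hom]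
    [LocallyOfFiniteType N.hom] (u : N ⟶ G) [IsMonHom u] [IsClosedImmersion u.left] (hn : AlgGrp.IsNormalHom u) :
    ∃ (Q : Over (Spec (CommRingCat.of k))) (_ : GrpObj Q) (q : G ⟶ Q), IsMonHom q ∧ Smooth Q.hom ∧
      QuasiCompact Q.hom ∧ Flat q.left ∧ Surjective q.left ∧ Epi q ∧ AlgGrp.IsKernel u q := by
  haveI : Mono u := Over.mono_of_mono_left u
  obtain ⟨X, p, hf, hs, hp, sq, -, hlft, -, hqc, hsm⟩ := GrothLib.QuotGrp14.exists_quotient_artin k u
  haveI := hlft
  haveI : Smooth X.hom := hsm inferInstance
  haveI : QuasiCompact X.hom := hqc inferInstance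
  haveI : LocallyOfFiniteType p.left := inferInstance
  have hcov : Chevalley.IsCover p := ⟨hf, hs, inferInstance⟩
  have hker : ∀ {Y : Over (Spec (CommRingCat.of k))} (a b : Y ⟶ G),
      a ≫ p = b ≫ p ↔ ∃ h : Y ⟶ N, b = a * (h ≫ u) := by
    intro Y a b
    constructor
    · intro h
      obtain ⟨l, hl₁, hl₂⟩ := sq.exists_lift b a h.symm
      have e : b = (l ≫ fst N G ≫ u) * a := by
        rw [← hl₁, ← hl₂, ← GrothLib.GrpSchField.lift_fst_snd_comp l, GrothLib.QuotGrp14.lift_act]
        simp
      obtain ⟨z, hz⟩ := hn Y a⁻¹ (l ≫ fst N G)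
      refine ⟨z, ?_⟩
      rw [← hz, e, Category.assoc]
      group
    · rintro ⟨h, rfl⟩
      obtain ⟨z, hz⟩ := hn Y a h
      have e : ((z ≫ u) * a) ≫ p = a ≫ p := by
        rw [← GrothLib.QuotGrp14.lift_act, Category.assoc, sq.w, ← Category.assoc, lift_snd]
      rw [← e, ← hz]
      group
  obtain ⟨str, hhom⟩ := Chevalley.exists_grpObj_quotient u hn p hcov hker
  letI := str
  haveI := hhom
  have hone : ∀ {T : Over (Spec (CommRingCat.of k))} (x : T ⟶ G), x ≫ p = 1 ↔ ∃ h : T ⟶ N, x = h ≫ u := by
    intro T x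
    rw [eq_comm, ← MonObj.one_comp p, hker]
    simp only [_root_.one_mul]
  refine ⟨X, str, p, hhom, inferInstance, inferInstance, hf, hs, Chevalley.epi_of_cover p hcov, ?_⟩
  have w : u ≫ p = toUnit N ≫ η[X] := by
    rw [← Hom.one_def, hone]
    exact ⟨𝟙 N, (Category.id_comp u).symm⟩
  have key : ∀ (T : Over (Spec (CommRingCat.of k))) (x : T ⟶ G) (t : T ⟶ 𝟙_ (Over (Spec (CommRingCat.of k)))),
      x ≫ p = t ≫ η[X] → ∃ h : T ⟶ N, x = h ≫ u := fun T x t h => (hone x).1 (by
    rw [h, Hom.one_def, toUnit_unique t (toUnit T)])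
  refine IsPullback.of_isLimit' ⟨w⟩ (PullbackCone.isLimitAux _
    (fun s => (key _ s.fst s.snd s.condition).choose) ?_ (fun s => toUnit_unique _ _) ?_)
  · intro s
    exact (key _ s.fst s.snd s.condition).choose_spec.symm
  · intro s m hm
    refine (cancel_mono u).1 ?_
    exact (hm WalkingCospan.left).trans (key _ s.fst s.snd s.condition).choose_spec

theorem exists_nat_dim (G : Over (Spec (CommRingCat.of k))) [IsIntegral G.left] [LocallyOfFiniteType G.hom] :
    ∃ n : ℕ, topologicalKrullDim G.left = (n : WithBot ℕ∞) := by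
  obtain ⟨n, hn, -⟩ := GrothLib.Dim.exists_nat_dim_open G.hom
  exact ⟨n, hn⟩

theorem isIso_hom_of_subsingleton (G : Over (Spec (CommRingCat.of k))) [GrpObj G] [Smooth G.hom]
    [Subsingleton G.left] : IsIso G.hom := by
  haveI : IsSeparated G.hom := GrpSchField.isSeparated G
  haveI : IsReduced G.left := GrothLib.Rigidity.isReduced_of_smooth G.hom
  exact GrothLib.GrpDeligne.isIso_of_subsingleton G.hom η[G].left (Over.w η[G])

theorem subsingleton_of_affine {G : Over (Spec (CommRingCat.of k))} [IsAffine G.left]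
    (hG : AntiAffine.IsAntiAffine G) : Subsingleton G.left := by
  haveI := hG.isIso
  haveI : IsIso G.hom := by
    have h := Scheme.isoSpec_hom_naturality G.hom
    have e : G.hom = G.left.isoSpec.hom ≫ Spec.map G.hom.appTop ≫ (Spec (CommRingCat.of k)).isoSpec.inv := by
      rw [← Category.assoc, h, Category.assoc, Iso.hom_inv_id, Category.comp_id]
    rw [e]
    infer_instance
  exact (G.hom.homeomorph).injective.subsingleton (α := G.left)

variable [IsAlgClosed k]

/-- An anti-affine group killed by a positive integer is a point. -/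
theorem subsingleton_of_killed {n : ℕ} (hn : n ≠ 0) : ∀ (d : ℕ) (G : Over (Spec (CommRingCat.of k))) [GrpObj G]
    [Smooth G.hom] [QuasiCompact G.hom] [ConnectedSpace G.left],
    topologicalKrullDim G.left ≤ (d : WithBot ℕ∞) → AntiAffine.IsAntiAffine G → (𝟙 G : G ⟶ G) ^ n = 1 →
      Subsingleton G.left := by
  intro d
  induction d using Nat.strong_induction_on with
  | _ d ih =>
    intro G _ _ _ _ hd hG hk
    haveI : IsIntegral G.left := Euler.isIntegral_of_smooth_connected k G.hom
    haveI : IsSeparated G.hom := GrpSchField.isSeparated G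
    by_cases hp : IsProper G.hom
    · haveI := Cube.geometricallyIntegral_of_isAlgClosed G
      exact Cube.subsingleton_of_pow_eq_one hn hk
    obtain ⟨H, _, j, hj, hjc, hHs, hHa, hHdim⟩ := exists_affine_of_not_isProper hp
    haveI := hj; haveI := hjc; haveI := hHs; haveI := hHa
    haveI : IsCommMonObj G := (Groth.Agent.S3293.result k G hG).2
    have hnorm : AlgGrp.IsNormalHom j := fun T g x => ⟨x, by rw [mul_comm g, mul_inv_cancel_right]⟩
    obtain ⟨Q, _, q, hq, hQs, hQq, hqf, hqs, hqe, hker⟩ := exists_quot j hnorm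
    haveI := hq; haveI := hQs; haveI := hQq; haveI := hqf; haveI := hqs; haveI := hqe
    haveI : ConnectedSpace Q.left := q.left.surjective.connectedSpace q.left.continuous
    haveI : IsIntegral Q.left := Euler.isIntegral_of_smooth_connected k Q.hom
    haveI : IsSeparated Q.hom := GrpSchField.isSeparated Q
    haveI : QuasiCompact q.left := by
      haveI : QuasiCompact (q.left ≫ Q.hom) := by rw [Over.w q]; infer_instance
      exact QuasiCompact.of_comp q.left Q.hom
    haveI : IsSchemeTheoreticallyDominant q.left := IsSchemeTheoreticallyDominant.of_isDominant q.left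
    have hQ : AntiAffine.IsAntiAffine Q := hG.of_dominant q
    have hQk : (𝟙 Q : Q ⟶ Q) ^ n = 1 := by
      rw [← cancel_epi q, MonObj.comp_pow, Category.comp_id, MonObj.comp_one, ← MonObj.one_comp q, ← hk,
        MonObj.pow_comp, Category.id_comp]
    have hdim : topologicalKrullDim G.left = topologicalKrullDim Q.left + topologicalKrullDim H.left := by
      have h := Neutral.dim_eq_add_field q
      have e1 : topologicalKrullDim (Set.range q.left) = topologicalKrullDim Q.left := by
        rw [q.left.surjective.range_eq]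
        exact (Homeomorph.Set.univ _).isHomeomorph.topologicalKrullDim_eq _
      have e2 : topologicalKrullDim ↥(pullback q.left η[Q].left) = topologicalKrullDim H.left :=
        (IsHomeomorph.topologicalKrullDim_eq _ (hker.map (Over.forget _)).isoPullback.hom.homeomorph.isHomeomorph).symm
      rw [e1, e2] at h
      exact h
    obtain ⟨a, ha⟩ := exists_nat_dim G
    obtain ⟨b, hb⟩ := exists_nat_dim Q
    have hlt : b < d := by
      rw [ha, hb] at hdim
      rw [ha] at hd
      have hd' : a ≤ d := by exact_mod_cast hd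
      by_contra hge
      have h1 : topologicalKrullDim H.left = 0 ∨ 1 ≤ topologicalKrullDim H.left := by
        revert hHdim
        generalize topologicalKrullDim H.left = t
        intro ht
        right
        rcases t with _ | t
        · exact absurd ht (not_lt.2 bot_le)
        · have ht' : (0 : ℕ∞) < t := by exact_mod_cast (show ((0 : ℕ∞) : WithBot ℕ∞) < (t : WithBot ℕ∞) from ht)
          exact WithBot.coe_le_coe.2 (Order.one_le_iff_pos.2 ht')
      rcases h1 with h1 | h1
      · exact hHdim.ne' h1
      · have h2 : ((b : WithBot ℕ∞) + 1) ≤ (a : WithBot ℕ∞) := hdim ▸ add_le_add_right h1 _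
        have h3 : b + 1 ≤ a := by exact_mod_cast h2
        omega
    haveI := ih b hlt Q hb.le hQ hQk
    haveI := isIso_hom_of_subsingleton Q
    have h1 : (𝟙 G : G ⟶ G) ≫ q = toUnit G ≫ η[Q] :=
      Over.OverMorphism.ext ((cancel_mono Q.hom).1 (by rw [Over.w, Over.w]))
    obtain ⟨s, hs, -⟩ := hker.exists_lift (𝟙 G) (toUnit G) h1
    haveI : Mono j := Over.mono_of_mono_left j
    haveI : IsIso j := by
      haveI : IsSplitEpi j := IsSplitEpi.mk' ⟨s, hs⟩
      exact isIso_of_mono_of_isSplitEpi j
    haveI : IsIso j.left := inferInstanceAs (IsIso ((Over.forget _).map j))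
    haveI : IsAffine G.left := IsAffine.of_isIso (inv j.left)
    exact subsingleton_of_affine hG

/-- The power maps of an anti-affine group over an algebraically closed field are surjective. -/
theorem surjective_pow {n : ℕ} (hn : n ≠ 0) (M : Over (Spec (CommRingCat.of k))) [GrpObj M]
    [Smooth M.hom] [QuasiCompact M.hom] (hM : AntiAffine.IsAntiAffine M) : Surjective ((𝟙 M : M ⟶ M) ^ n).left := by
  haveI := (Groth.Agent.S3293.result k M hM).1
  haveI : IsCommMonObj M := (Groth.Agent.S3293.result k M hM).2
  haveI : IsSeparated M.hom := GrpSchField.isSeparated M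
  let f : M ⟶ M := 𝟙 M ^ n
  haveI hf : IsMonHom f := GrpDeligne.isMonHom_pow (𝟙 M) n
  haveI : QuasiCompact f.left := by
    haveI : QuasiCompact (f.left ≫ M.hom) := by rw [Over.w f]; infer_instance
    exact QuasiCompact.of_comp f.left M.hom
  obtain ⟨I, _, p, i, hp, hi, hpi, hps, -, -, hm, hI, -⟩ := Neutral.exists_factor_field f
  haveI := hp; haveI := hi; haveI := hm; haveI := hps; haveI := hI
  haveI := (Neutral.isClosedImmersion_factor f hpi).1
  have hnorm : AlgGrp.IsNormalHom i := fun T g x => ⟨x, by rw [mul_comm g, mul_inv_cancel_right]⟩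
  obtain ⟨Q, _, q, hq, hQs, hQq, hqf, hqs, hqe, hker⟩ := exists_quot i hnorm
  haveI := hq; haveI := hQs; haveI := hQq; haveI := hqf; haveI := hqs; haveI := hqe
  haveI : ConnectedSpace Q.left := q.left.surjective.connectedSpace q.left.continuous
  haveI : IsIntegral Q.left := Euler.isIntegral_of_smooth_connected k Q.hom
  haveI : IsSeparated Q.hom := GrpSchField.isSeparated Q
  haveI : QuasiCompact q.left := by
    haveI : QuasiCompact (q.left ≫ Q.hom) := by rw [Over.w q]; infer_instance
    exact QuasiCompact.of_comp q.left Q.hom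
  haveI : IsSchemeTheoreticallyDominant q.left := IsSchemeTheoreticallyDominant.of_isDominant q.left
  have hQk : (𝟙 Q : Q ⟶ Q) ^ n = 1 := by
    rw [← cancel_epi q, MonObj.comp_pow, Category.comp_id, MonObj.comp_one]
    calc q ^ n = f ≫ q := by rw [MonObj.pow_comp, Category.id_comp]
      _ = 1 := by rw [← hpi, Category.assoc, hker.w, ← Hom.one_def, MonObj.comp_one]
  obtain ⟨b, hb⟩ := exists_nat_dim Q
  haveI := subsingleton_of_killed hn b Q hb.le (hM.of_dominant q) hQk
  haveI := isIso_hom_of_subsingleton Q
  have h1 : (𝟙 M : M ⟶ M) ≫ q = toUnit M ≫ η[Q] :=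
    Over.OverMorphism.ext ((cancel_mono Q.hom).1 (by rw [Over.w, Over.w]))
  obtain ⟨s, hs, -⟩ := hker.exists_lift (𝟙 M) (toUnit M) h1
  refine ⟨fun y => ?_⟩
  obtain ⟨x, hx⟩ := p.left.surjective (s.left y)
  refine ⟨x, ?_⟩
  show f.left x = y
  rw [← hpi, Over.comp_left, Scheme.Hom.comp_apply, hx, ← Scheme.Hom.comp_apply, ← Over.comp_left, hs]
  rfl

end GrothLib.Chev24
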