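import Groth.Agent.Lib.Flag27.Preimage
import Groth.Agent.Lib.Flag27.NoSubtorus
import Groth.Agent.Lib.Flag27.TorusConj
import Groth.Agent.Lib.Chev24.TorusQuot
import Groth.Agent.Lib.Chev24.Divisible
import Groth.Agent.Lib.MinParablead.Dim
import Groth.Agent.Lib.LargestSub2.Basic
import Groth.Agent.Lib.IsogProps19.Points
import Groth.Agent.Lib.Chevalley.AffineQuot
import Groth.Agent.Lib.GrpSchField.Criteria
import Groth.Agent.Lib.DiagGrp.Points
import Groth.Agent.S15608

/-!
# Finitely generated dense subgroups of rational points in characteristic zero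
-/

set_option autoImplicit false
set_option linter.all false
set_option backward.isDefEq.respectTransparency false
set_option maxHeartbeats 2000000
set_option synthInstance.maxHeartbeats 400000

universe u

open CategoryTheory CategoryTheory.Limits MonoidalCategory CartesianMonoidalCategory MonObj GrpObj
open AlgebraicGeometry VecGrp Topology

noncomputable section

namespace GrothLib.Chev24

open GrothLib.Repr GrothLib.Induce27 Groth.Agent.S11191 GrothLib.Flag27

attribute [-instance] Hom.commGroup Hom.commMonoid CommGrpObj.toIsCommMonObj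

variable {k : Type u} [Field k] [IsAlgClosed k]

local notation "pt₁" => 𝟙_ (Over (Spec (CommRingCat.of k)))

/-- An open subgroup has finitely many cosets on rational points. -/
theorem exists_finite_cosets {P H : Over (Spec (CommRingCat.of k))} [GrpObj P] [GrpObj H]
    [LocallyOfFiniteType P.hom] [QuasiCompact P.hom] [LocallyOfFiniteType H.hom] (j : H ⟶ P) [IsMonHom j]
    (hjo : IsOpen (Set.range j.left)) :
    ∃ t : Set (pt₁ ⟶ P), t.Finite ∧ ∀ v : pt₁ ⟶ P, ∃ w ∈ t, ∃ y : pt₁ ⟶ H, v = w * (y ≫ j) := by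
  let τ : (pt₁ ⟶ P) → (P ⟶ P) := fun v => (toUnit P ≫ v)⁻¹ * 𝟙 P
  have hτ : ∀ v w : pt₁ ⟶ P, w ≫ τ v = v⁻¹ * w := fun v w => by
    simp only [τ, MonObj.comp_mul, GrpObj.comp_inv, Category.comp_id]
    rw [← Category.assoc, toUnit_unique (w ≫ toUnit P) (𝟙 _), Category.id_comp]
  let O : (pt₁ ⟶ P) → Set P.left := fun v => (τ v).left ⁻¹' Set.range j.left
  have hOself : ∀ v : pt₁ ⟶ P, cl v ∈ O v := fun v => by
    show (τ v).left (cl v) ∈ Set.range j.left
    refine ⟨cl (η[H]), ?_⟩
    have h : v ≫ τ v = η[H] ≫ j := by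
      rw [hτ, inv_mul_cancel, IsMonHom.one_hom j, MonObj.one_eq_one]
    exact ((cl_comp _ _).symm.trans (congrArg cl h.symm)).trans (cl_comp _ _)
  haveI : JacobsonSpace P.left := LocallyOfFiniteType.jacobsonSpace P.hom
  haveI : CompactSpace P.left := QuasiCompact.compactSpace_of_compactSpace P.hom
  have hcov : (⋃ v, O v) = Set.univ := by
    by_contra hc
    have hcl : IsClosed (⋃ v, O v)ᶜ :=
      (isOpen_iUnion fun v => hjo.preimage (τ v).left.continuous).isClosed_compl
    obtain ⟨y, hy, hyc⟩ := nonempty_inter_closedPoints (Set.nonempty_compl.2 hc) hcl.isLocallyClosed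
    obtain ⟨z, rfl⟩ := exists_cl hyc
    exact hy (Set.mem_iUnion.2 ⟨z, hOself z⟩)
  obtain ⟨t, ht⟩ := isCompact_univ.elim_finite_subcover O (fun v => hjo.preimage (τ v).left.continuous) hcov.ge
  refine ⟨↑t, t.finite_toSet, fun v => ?_⟩
  obtain ⟨w, hw, hvw⟩ := Set.mem_iUnion₂.1 (ht (Set.mem_univ (cl v)))
  obtain ⟨y, -, hy⟩ := exists_cl_lift j (E := Set.univ) isClosed_univ.isLocallyClosed (w := v ≫ τ w)
    (by rw [Set.image_univ, cl_comp]; exact hvw)
  exact ⟨w, hw, y, by rw [hy, hτ, mul_inv_cancel_left]⟩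

/-- A reduced scheme of finite type whose rational points are all equal is a point. -/
theorem subsingleton_of_pts (X : Over (Spec (CommRingCat.of k))) [LocallyOfFiniteType X.hom]
    (h : ∀ a b : pt₁ ⟶ X, a = b) : Subsingleton X.left := by
  haveI : JacobsonSpace X.left := LocallyOfFiniteType.jacobsonSpace X.hom
  refine ⟨fun x y => ?_⟩
  have key : ∀ z : X.left, ∀ c ∈ closedPoints X.left, z = c := fun z c hc => by
    by_contra hne
    have hne' : ({c}ᶜ : Set X.left).Nonempty := ⟨z, hne⟩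
    obtain ⟨d, hd, hdc⟩ := nonempty_inter_closedPoints hne' (mem_closedPoints_iff.1 hc).isOpen_compl.isLocallyClosed
    obtain ⟨a, rfl⟩ := exists_cl hdc
    obtain ⟨b, rfl⟩ := exists_cl hc
    exact hd (by rw [h a b]; rfl)
  obtain ⟨c, -, hc⟩ := nonempty_inter_closedPoints (⟨x, Set.mem_univ x⟩ : (Set.univ : Set X.left).Nonempty)
    isClosed_univ.isLocallyClosed
  exact (key x c hc).trans (key y c hc).symm

/-- In characteristic zero a torus all of whose points are torsion is trivial. -/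
theorem isTrivialGrp_torus_of_torsion [CharZero k] {T : Over (Spec (CommRingCat.of k))} [GrpObj T]
    (hT : Red.IsTorus T) (h : ∀ p : pt₁ ⟶ T, ∃ n : ℕ, n ≠ 0 ∧ p ^ n = 1) : Red.IsTrivialGrp T := by
  obtain ⟨r, ⟨e⟩⟩ := exists_splitWith hT
  haveI : IsMonHom e.hom.hom.hom := e.hom.hom.isMonHom_hom
  haveI : IsMonHom e.inv.hom.hom := e.inv.hom.isMonHom_hom
  let E : (Multiplicative (Fin r → ℤ) →* k) ≃* (pt₁ ⟶ Red.DS (Spec (CommRingCat.of k)) (Fin r → ℤ)) :=
    GrothLib.DiagGrp.dsPoint (Fin r → ℤ) (𝟙 (Spec (CommRingCat.of k)))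
  have htor : ∀ θ : Multiplicative (Fin r → ℤ) →* k, ∃ n : ℕ, n ≠ 0 ∧ θ ^ n = 1 := fun θ => by
    obtain ⟨n, hn, hp⟩ := h (E θ ≫ e.inv.hom.hom)
    refine ⟨n, hn, E.injective ?_⟩
    have h2 := congrArg (· ≫ e.hom.hom.hom) hp
    simp only [MonObj.pow_comp, MonObj.one_comp, Category.assoc] at h2
    rw [show e.inv.hom.hom ≫ e.hom.hom.hom = 𝟙 _ from congrArg (fun w => w.hom.hom) e.inv_hom_id,
      Category.comp_id] at h2
    rw [map_pow, map_one, h2]
  have hr : r = 0 := by
    by_contra hr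
    let i₀ : Fin r := ⟨0, Nat.pos_of_ne_zero hr⟩
    let θ : Multiplicative (Fin r → ℤ) →* k :=
      { toFun := fun v => (2 : k) ^ (Multiplicative.toAdd v i₀)
        map_one' := by simp
        map_mul' := fun a b => by simp [zpow_add₀ (two_ne_zero : (2 : k) ≠ 0)] }
    obtain ⟨n, hn, hθ⟩ := htor θ
    have h3 := DFunLike.congr_fun hθ (Multiplicative.ofAdd (Pi.single i₀ (1 : ℤ)))
    rw [MonoidHom.pow_apply, MonoidHom.one_apply] at h3
    have h4 : (2 : k) ^ n = 1 := by simpa [θ] using h3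
    have h5 : (2 : ℕ) ^ n = 1 := by exact_mod_cast h4
    exact hn (Nat.pow_eq_one.1 h5 |>.resolve_left (by norm_num))
  subst hr
  obtain ⟨hTa, hTl⟩ := GrothLib.OneMotFaith14.isAffine_of_isTorus hT
  haveI := hTl
  haveI := (Rigidity.smooth_connected_of_isTorus T hT).1
  haveI : Subsingleton T.left := subsingleton_of_pts T fun a b => by
    have key : ∀ a : pt₁ ⟶ T, a = 1 := fun a => by
      obtain ⟨θ, hθ⟩ := E.surjective (a ≫ e.hom.hom.hom)
      have hθ1 : θ = 1 := MonoidHom.ext fun v => by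
        rw [show v = 1 from Multiplicative.toAdd.injective (funext fun i => i.elim0), map_one, map_one]
      rw [hθ1, map_one] at hθ
      have h2 := congrArg (· ≫ e.inv.hom.hom) hθ
      simp only [MonObj.one_comp, Category.assoc] at h2
      rw [show e.hom.hom.hom ≫ e.inv.hom.hom = 𝟙 _ from congrArg (fun w => w.hom.hom) e.hom_inv_id,
        Category.comp_id] at h2
      exact h2.symm
    rw [key a, key b]
  exact isIso_hom_of_subsingleton T

/-- In characteristic zero a connected affine group all of whose points are torsion has one point. -/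
theorem pts_eq_one_of_torsion [CharZero k] {H : Over (Spec (CommRingCat.of k))} [GrpObj H] [IsAffine H.left]
    [Smooth H.hom] [ConnectedSpace H.left] (h : ∀ p : pt₁ ⟶ H, ∃ n : ℕ, n ≠ 0 ∧ p ^ n = 1) (p : pt₁ ⟶ H) :
    p = 1 := by
  have hno : Red.HasNoSubtorus k H := fun T _ j _ _ hT => isTrivialGrp_torus_of_torsion hT fun q => by
    obtain ⟨n, hn, hq⟩ := h (q ≫ j)
    exact ⟨n, hn, (cancel_mono j).1 (by rw [MonObj.pow_comp, hq, MonObj.one_comp])⟩
  obtain ⟨n, hn, hp⟩ := h p
  have hb := GrothLib.Flag27.IsUnip.bijective_pow (isUnip_of_noSubtorus hno).1 (n := n) (Nat.cast_ne_zero.2 hn)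
  have h1 : ptOne.hom ≫ p = 1 := hb.1 (by
    show (ptOne.hom ≫ p) ^ n = (1 : pt k k ⟶ H) ^ n
    rw [← MonObj.comp_pow, hp, MonObj.comp_one, one_pow])
  rw [← cancel_epi (ptOne (k := k)).hom, h1, MonObj.comp_one]

variable {G : Over (Spec (CommRingCat.of k))} [GrpObj G]

/-- The points of a subgroup of the rational points. -/
def ptsSet (Φ : Subgroup (pt₁ ⟶ G)) : Set G.left := cl '' (Φ : Set (pt₁ ⟶ G))

/-- A connected smooth subgroup inside the closure of the given points. -/
def HasComp (Φ : Subgroup (pt₁ ⟶ G)) (d : ℕ) : Prop :=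
  ∃ (Q : Over (Spec (CommRingCat.of k))) (_ : GrpObj Q) (q : Q ⟶ G), IsMonHom q ∧ IsClosedImmersion q.left ∧
    Smooth Q.hom ∧ ConnectedSpace Q.left ∧ Set.range q.left ⊆ closure (ptsSet Φ) ∧
    (d : WithBot ℕ∞) ≤ topologicalKrullDim Q.left

theorem exists_fg_dense [CharZero k] [IsAffine G.left] [LocallyOfFiniteType G.hom] :
    ∃ Φ : Subgroup (pt₁ ⟶ G), Φ.FG ∧ Dense (ptsSet Φ) := by
  classical
  haveI : Smooth G.hom := GrothLib.GrpSchField.smooth_of_charZero G
  haveI : IsAffineHom G.hom := isAffineHom_of_isAffine _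
  haveI : QuasiCompact G.hom := inferInstance
  haveI : IsSeparated G.hom := GrpSchField.isSeparated G
  obtain ⟨N, hN⟩ := GrothLib.LargestSub2.exists_dim_bound G
  let D : ℕ → Prop := fun d => ∃ Φ : Subgroup (pt₁ ⟶ G), Φ.FG ∧ HasComp Φ d
  have hD0 : D 0 := by
    refine ⟨⊥, ⟨∅, by simp⟩, 𝟙_ _, inferInstance, η[G], inferInstance,
      GrothLib.GrpSchField.unit_isClosedImmersion G, inferInstanceAs (Smooth (𝟙 (Spec (CommRingCat.of k)))),
      inferInstanceAs (ConnectedSpace (PrimeSpectrum k)), ?_, ?_⟩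
    · rintro _ ⟨x, rfl⟩
      haveI : Subsingleton ↥(pt₁).left := inferInstanceAs (Subsingleton (PrimeSpectrum k))
      refine subset_closure ⟨1, Subgroup.one_mem _, ?_⟩
      rw [← MonObj.one_eq_one]
      exact congrArg η[G].left (Subsingleton.elim _ _)
    · haveI : IsIntegral (pt₁).left := inferInstanceAs (IsIntegral (Spec (CommRingCat.of k)))
      haveI : LocallyOfFiniteType (pt₁).hom := inferInstanceAs (LocallyOfFiniteType (𝟙 _))
      obtain ⟨m, hm⟩ := exists_nat_dim (k := k) pt₁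
      rw [hm]
      exact_mod_cast Nat.zero_le m
  have hDle : ∀ d, D d → d ≤ N := fun d hd => by
    obtain ⟨Φ, -, Q, _, q, -, hqc, hQs, hQc, -, hd⟩ := hd
    haveI := hqc; haveI := hQs; haveI := hQc
    haveI : QuasiCompact Q.hom := by rw [← Over.w q]; infer_instance
    haveI : IsIntegral Q.left := Euler.isIntegral_of_smooth_connected k Q.hom
    exact_mod_cast hd.trans (hN Q q)
  obtain ⟨Φ, hΦ, Q, _, q, hq, hqc, hQs, hQc, hQsub, hQd⟩ : D (Nat.findGreatest D N) :=
    Nat.findGreatest_spec (Nat.zero_le N) hD0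
  haveI := hq; haveI := hqc; haveI := hQs; haveI := hQc
  haveI : Mono q := Over.mono_of_mono_left q
  haveI : IsReduced Q.left := GrothLib.RedSmooth.isReduced_of_smooth Q.hom
  -- what a closure of a larger group knows about the component
  have big : ∀ Φ' : Subgroup (pt₁ ⟶ G), Φ'.FG → Φ ≤ Φ' →
      ∃ (P : Over (Spec (CommRingCat.of k))) (_ : GrpObj P) (i : P ⟶ G) (c : Q ⟶ P), IsMonHom i ∧
        IsClosedImmersion i.left ∧ Smooth P.hom ∧ QuasiCompact P.hom ∧ Set.range i.left = closure (ptsSet Φ') ∧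
        c ≫ i = q ∧ IsMonHom c ∧ IsOpen (Set.range c.left) ∧
        ∀ (R : Over (Spec (CommRingCat.of k))) (x : R ⟶ P), IsReduced R.left → ConnectedSpace R.left →
          η[P].left (IsLocalRing.closedPoint k) ∈ Set.range x.left → ∃ x' : R ⟶ Q, x' ≫ c = x := by
    intro Φ' hΦ' hle
    obtain ⟨P, _, i, hi, hic, hPs, hPr⟩ := Groth.Agent.S15608.result k G Φ'
    haveI := hi; haveI := hic; haveI := hPs
    haveI : QuasiCompact P.hom := by rw [← Over.w i]; infer_instance
    haveI : Mono i := Over.mono_of_mono_left i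
    obtain ⟨c, hc⟩ : ∃ c : Q ⟶ P, c ≫ i = q := by
      refine GrothLib.Flag27.exists_lift_of_pts q i fun v => ?_
      obtain ⟨z, -, hz⟩ := exists_cl_lift i (E := Set.univ) isClosed_univ.isLocallyClosed (w := v ≫ q) (by
        rw [Set.image_univ, cl_comp]
        exact hPr.ge (closure_mono (Set.image_mono hle) (hQsub ⟨cl v, rfl⟩)))
      exact ⟨z, hz⟩
    haveI : IsMonHom (c ≫ i) := by rw [hc]; infer_instance
    haveI : IsMonHom c := GrothLib.Flag27.isMonHom_of_comp c i
    obtain ⟨Q', _, j, hj, hjc, hQ's, hQ'c, hjo, hlift⟩ := exists_openRedNeutral P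
    haveI := hj; haveI := hjc; haveI := hQ's; haveI := hQ'c
    obtain ⟨a, ha⟩ := hlift Q c inferInstance inferInstance ⟨η[Q].left (IsLocalRing.closedPoint k), by
      rw [← IsMonHom.one_hom c]; rfl⟩
    haveI : IsClosedImmersion c.left := by
      haveI : IsClosedImmersion (c.left ≫ i.left) := by rw [← Over.comp_left, hc]; infer_instance
      exact IsClosedImmersion.of_comp c.left i.left
    haveI : IsClosedImmersion a.left := by
      haveI : IsClosedImmersion (a.left ≫ j.left) := by rw [← Over.comp_left, ha]; infer_instance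
      exact IsClosedImmersion.of_comp a.left j.left
    haveI : QuasiCompact Q'.hom := by rw [← Over.w j]; infer_instance
    haveI : IsIntegral Q'.left := Euler.isIntegral_of_smooth_connected k Q'.hom
    haveI : IsClosedImmersion (j ≫ i).left := inferInstanceAs (IsClosedImmersion (j.left ≫ i.left))
    obtain ⟨m, hm⟩ := exists_nat_dim (k := k) Q'
    have hmd : m ≤ Nat.findGreatest D N := Nat.le_findGreatest
      (by exact_mod_cast hm.ge.trans (hN Q' (j ≫ i)))
      ⟨Φ', hΦ', Q', inferInstance, j ≫ i, inferInstance, inferInstance, inferInstance, inferInstance, (by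
        rintro _ ⟨x, rfl⟩
        exact hPr.le ⟨j.left x, (Scheme.Hom.comp_apply j.left i.left x).symm⟩), hm.ge⟩
    have hdim : topologicalKrullDim Q.left = topologicalKrullDim Q'.left := by
      refine le_antisymm a.left.isClosedEmbedding.isInducing.topologicalKrullDim_le ?_
      rw [hm]
      exact le_trans (by exact_mod_cast hmd) hQd
    haveI : Smooth (a.left ≫ Q'.hom) := by rw [Over.w a]; infer_instance
    haveI : IsIso a.left := GrothLib.MinParablead.isIso_of_dim_eq a.left Q'.hom hdim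
    haveI : IsIso ((Over.forget _).map a) := ‹IsIso a.left›
    haveI : IsIso a := isIso_of_reflects_iso a (Over.forget _)
    refine ⟨P, inferInstance, i, c, hi, hic, hPs, inferInstance, hPr, hc, inferInstance, ?_, fun R x hR hRc hx => ?_⟩
    · rw [show Set.range c.left = Set.range j.left by
        rw [← ha]
        show Set.range (fun y => (a.left ≫ j.left) y) = _
        exact (Set.range_comp j.left a.left).trans (by rw [a.left.surjective.range_eq, Set.image_univ])]
      exact hjo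
    · obtain ⟨x', hx'⟩ := hlift R x hR hRc hx
      exact ⟨x' ≫ inv a, by rw [Category.assoc, (IsIso.inv_comp_eq a).2 ha.symm, hx']⟩
  -- one further point
  have one : ∀ g : pt₁ ⟶ G, (∀ y : pt₁ ⟶ Q, ∃ y' : pt₁ ⟶ Q, y' ≫ q = g * (y ≫ q) * g⁻¹) ∧
      ∃ (n : ℕ) (y : pt₁ ⟶ Q), n ≠ 0 ∧ y ≫ q = g ^ n := by
    intro g
    obtain ⟨P, _, i, c, hi, hic, hPs, hPq, hPr, hc, hcm, hco, hlift⟩ :=
      big (Φ ⊔ Subgroup.zpowers g) (hΦ.sup ⟨{g}, by simp [Subgroup.zpowers_eq_closure]⟩) le_sup_left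
    haveI := hi; haveI := hic; haveI := hPs; haveI := hPq; haveI := hcm
    haveI : Mono i := Over.mono_of_mono_left i
    obtain ⟨g', -, hg'⟩ := exists_cl_lift i (E := Set.univ) isClosed_univ.isLocallyClosed (w := g) (by
      rw [Set.image_univ]
      exact hPr.ge (subset_closure ⟨g, Subgroup.mem_sup_right (Subgroup.mem_zpowers g), rfl⟩))
    refine ⟨fun y => ?_, ?_⟩
    · let x : Q ⟶ P := (toUnit Q ≫ g') * c * (toUnit Q ≫ g')⁻¹
      have hx : ∀ y : pt₁ ⟶ Q, y ≫ x = g' * (y ≫ c) * g'⁻¹ := fun y => by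
        simp only [x, MonObj.comp_mul, GrpObj.comp_inv]
        rw [← Category.assoc, toUnit_unique (y ≫ toUnit Q) (𝟙 _), Category.id_comp]
      obtain ⟨x', hx'⟩ := hlift Q x inferInstance inferInstance ⟨η[Q].left (IsLocalRing.closedPoint k), by
        have h1 : η[Q] ≫ x = η[P] := by
          rw [hx, IsMonHom.one_hom c, MonObj.one_eq_one, _root_.mul_one, mul_inv_cancel]
        rw [← h1]; rfl⟩
      refine ⟨y ≫ x', ?_⟩
      rw [← hc, ← Category.assoc, Category.assoc y x' c, hx', hx, MonObj.mul_comp, MonObj.mul_comp, GrpObj.inv_comp,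
        Category.assoc, hg']
    · obtain ⟨t, ht, hcos⟩ := exists_finite_cosets c hco
      choose w hw y hy using fun m : ℕ => hcos (g' ^ m)
      haveI := ht.to_subtype
      obtain ⟨a, b, hne, hab⟩ := Finite.exists_ne_map_eq_of_infinite fun m : ℕ => (⟨w m, hw m⟩ : t)
      have hab' : w a = w b := congrArg Subtype.val hab
      rcases lt_or_gt_of_ne hne with hlt | hlt
      · refine ⟨b - a, (y a)⁻¹ * y b, by omega, ?_⟩
        rw [← hc, ← Category.assoc, MonObj.mul_comp, GrpObj.inv_comp,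
          show y a ≫ c = (w a)⁻¹ * g' ^ a by rw [hy a, inv_mul_cancel_left],
          show y b ≫ c = (w a)⁻¹ * g' ^ b by rw [hy b, hab', inv_mul_cancel_left],
          show ((w a)⁻¹ * g' ^ a)⁻¹ * ((w a)⁻¹ * g' ^ b) = g' ^ (b - a) by
            rw [pow_sub g' hlt.le]; group,
          MonObj.pow_comp, hg']
      · refine ⟨a - b, (y b)⁻¹ * y a, by omega, ?_⟩
        rw [← hc, ← Category.assoc, MonObj.mul_comp, GrpObj.inv_comp,
          show y b ≫ c = (w b)⁻¹ * g' ^ b by rw [hy b, inv_mul_cancel_left],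
          show y a ≫ c = (w b)⁻¹ * g' ^ a by rw [hy a, hab', inv_mul_cancel_left],
          show ((w b)⁻¹ * g' ^ b)⁻¹ * ((w b)⁻¹ * g' ^ a) = g' ^ (a - b) by
            rw [pow_sub g' hlt.le]; group,
          MonObj.pow_comp, hg']
  have hn : AlgGrp.IsNormalHom q := isNormalHom_of_pts q fun g x => (one g).1 x
  obtain ⟨F, _, p, hp, hFs, hFq, hpf, hps, -, hker⟩ := exists_quot q hn
  haveI := hp; haveI := hFs; haveI := hFq; haveI := hps
  haveI : IsSeparated F.hom := GrpSchField.isSeparated F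
  haveI : IsAffine F.left := GrothLib.Chevalley.isAffine_of_surjective_hom p
  have hFtor : ∀ z : pt₁ ⟶ F, ∃ n : ℕ, n ≠ 0 ∧ z ^ n = 1 := fun z => by
    obtain ⟨g, rfl⟩ := GrothLib.IsogProps19.ptMap_surjective p z
    obtain ⟨n, y, hn, hy⟩ := (one g).2
    refine ⟨n, hn, ?_⟩
    show (g ≫ p) ^ n = 1
    rw [← MonObj.pow_comp, ← hy, Category.assoc, GrothLib.GrpSchField.comp_eq_one hker, MonObj.comp_one]
  obtain ⟨F₀, _, j, hj, hjc, hF₀s, hF₀c, hjo, -⟩ := exists_openRedNeutral F
  haveI := hj; haveI := hjc; haveI := hF₀s; haveI := hF₀c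
  haveI : IsAffine F₀.left := isAffine_of_isAffineHom j.left
  haveI : Mono j := Over.mono_of_mono_left j
  have hF₀ : ∀ z : pt₁ ⟶ F₀, z = 1 := pts_eq_one_of_torsion fun z => by
    obtain ⟨n, hn, hz⟩ := hFtor (z ≫ j)
    exact ⟨n, hn, (cancel_mono j).1 (by rw [MonObj.pow_comp, hz, MonObj.one_comp])⟩
  obtain ⟨t, ht, hcos⟩ := exists_finite_cosets j hjo
  choose s hs using fun z : pt₁ ⟶ F =>
    (show ∃ g : pt₁ ⟶ G, g ≫ p = z from GrothLib.IsogProps19.ptMap_surjective p z)
  have hfgΦ : (Φ ⊔ Subgroup.closure (s '' t)).FG :=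
    hΦ.sup ((Subgroup.fg_iff _).2 ⟨s '' t, rfl, ht.image s⟩)
  refine ⟨Φ ⊔ Subgroup.closure (s '' t), hfgΦ, ?_⟩
  obtain ⟨P, _, i, c, hi, hic, hPs, -, hPr, hc, -, -, -⟩ := big _ hfgΦ le_sup_left
  haveI := hi; haveI := hic; haveI := hPs
  haveI : Mono i := Over.mono_of_mono_left i
  have hall : ∀ g : pt₁ ⟶ G, cl g ∈ Set.range i.left := fun g => by
    obtain ⟨w, hw, y, hy⟩ := hcos (g ≫ p)
    rw [hF₀ y, MonObj.one_comp, _root_.mul_one] at hy
    have h1 : ((s w)⁻¹ * g) ≫ p = 1 := by
      rw [MonObj.mul_comp, GrpObj.inv_comp, show s w ≫ p = w from hs w, hy, inv_mul_cancel]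
    obtain ⟨y', hy'⟩ := GrothLib.GrpSchField.exists_lift_of_comp_eq_one hker _ h1
    obtain ⟨w', -, hw'⟩ := exists_cl_lift i (E := Set.univ) isClosed_univ.isLocallyClosed (w := s w) (by
      rw [Set.image_univ]
      exact hPr.ge (subset_closure ⟨s w, Subgroup.mem_sup_right (Subgroup.subset_closure ⟨w, hw, rfl⟩), rfl⟩))
    refine ⟨cl (w' * (y' ≫ c)), ?_⟩
    rw [← cl_comp, MonObj.mul_comp, hw', Category.assoc, hc, hy', mul_inv_cancel_left]
  haveI : JacobsonSpace G.left := LocallyOfFiniteType.jacobsonSpace G.hom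
  rw [dense_iff_closure_eq, ← hPr]
  by_contra hne
  obtain ⟨y, hy, hyc⟩ := nonempty_inter_closedPoints (Set.nonempty_compl.2 hne)
    i.left.isClosedEmbedding.isClosed_range.isOpen_compl.isLocallyClosed
  obtain ⟨z, rfl⟩ := exists_cl hyc
  exact hy (hall z)

end GrothLib.Chev24
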