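import Groth.Agent.Lib.Chev24.SolvSec
import Groth.Agent.Lib.Flag27.MaxToriConj
import Groth.Agent.Lib.OneMotFaith14.Points
import Groth.Agent.Lib.AlbTors16.Main
import Groth.Agent.S11412

/-!
# Tori of connected groups which need not be affine
-/

set_option autoImplicit false
set_option linter.all false
set_option backward.isDefEq.respectTransparency false
set_option maxHeartbeats 1000000
set_option synthInstance.maxHeartbeats 200000

universe u

open CategoryTheory CategoryTheory.Limits MonoidalCategory CartesianMonoidalCategory MonObj GrpObj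
open AlgebraicGeometry

noncomputable section

namespace GrothLib.Chev24

variable {k : Type u} [Field k] [IsAlgClosed k]

/-- A torus over a field is smooth, connected, affine, and embeds as a closed subgroup. -/
theorem torus_facts' {G T : Over (Spec (CommRingCat.of k))} [GrpObj G] [GrpObj T] [LocallyOfFiniteType G.hom]
    (hT : Red.IsTorus T) (i : T ⟶ G) [IsMonHom i] [Mono i] :
    IsClosedImmersion i.left ∧ IsAffine T.left ∧ Smooth T.hom ∧ ConnectedSpace T.left := by
  obtain ⟨hTa, hTl⟩ := GrothLib.OneMotFaith14.isAffine_of_isTorus hT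
  haveI := hTa; haveI := hTl
  haveI : IsSeparated G.hom := GrpSchField.isSeparated G
  haveI : QuasiCompact i.left := by
    haveI : QuasiCompact (i.left ≫ G.hom) := by
      rw [Over.w i]
      haveI : IsAffineHom T.hom := isAffineHom_of_isAffine _
      infer_instance
    exact QuasiCompact.of_comp _ G.hom
  exact ⟨Neutral.isClosedImmersion_of_mono_quasiCompact i, hTa, Rigidity.smooth_connected_of_isTorus T hT⟩

/-- Over an algebraically closed field a maximal torus is maximal among the tori. -/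
theorem isMaxTorus_of_isMaximalTorus {G T : Over (Spec (CommRingCat.of k))} [GrpObj G] [GrpObj T]
    [LocallyOfFiniteType G.hom] {i : T ⟶ G} (h : Red.IsMaximalTorus i) : AGF.IsMaxTorus i := by
  obtain ⟨hm, hmono, hT, hmax⟩ := h
  haveI := hm; haveI := hmono
  refine ⟨hm, hmono, hT, fun T' _ j _ _ f hT' hf => ?_⟩
  let x₀ : ↥(Spec (CommRingCat.of k)) := IsLocalRing.closedPoint k
  let q := Red.geomPt x₀
  haveI : (Over.pullback q).IsRightAdjoint := (Over.mapPullbackAdj _).isRightAdjoint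
  haveI : IsIso ((Over.pullback q).map f) := hmax x₀ (Red.bc q T') ((Over.pullback q).map j) ((Over.pullback q).map f)
    (GrothLib.Flag27.isTorus_bc_field q hT') (by rw [← Functor.map_comp, hf])
  obtain ⟨hic, -⟩ := torus_facts' hT i
  obtain ⟨hjc, -⟩ := torus_facts' hT' j
  haveI := hic; haveI := hjc
  haveI : IsClosedImmersion f.left := by
    haveI : IsClosedImmersion (f.left ≫ j.left) := by rw [← Over.comp_left, hf]; infer_instance
    exact IsClosedImmersion.of_comp f.left j.left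
  haveI : Surjective q := GrothLib.Flag27.surjective_to_field _
  haveI : Flat q := GrothLib.Flag27.flat_to_field _
  haveI : IsIso f.left := GrothLib.MonoMT14.isIso_of_bc q f
    (inferInstanceAs (IsIso ((Over.forget _).map ((Over.pullback q).map f))))
  haveI : IsIso ((Over.forget _).map f) := ‹IsIso f.left›
  exact isIso_of_reflects_iso f (Over.forget _)

variable {G : Over (Spec (CommRingCat.of k))} [GrpObj G] [Smooth G.hom] [QuasiCompact G.hom] [ConnectedSpace G.left]

/-- Maximal tori of a connected group are conjugate. -/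
theorem exists_conj_maxTori' {T₁ T₂ : Over (Spec (CommRingCat.of k))} [GrpObj T₁] [GrpObj T₂] (i₁ : T₁ ⟶ G)
    (i₂ : T₂ ⟶ G) (h₁ : Red.IsMaximalTorus i₁) (h₂ : Red.IsMaximalTorus i₂) :
    ∃ g : 𝟙_ (Over (Spec (CommRingCat.of k))) ⟶ G, SGA3x.ConjBy i₁ i₂ g := by
  haveI : IsSeparated G.hom := GrpSchField.isSeparated G
  obtain ⟨N, _, i, hi, hic, hNs, hNc, hNa, hNn, hmax⟩ := exists_affPart (G := G)
  haveI := hi; haveI := hic; haveI := hNs; haveI := hNc; haveI := hNa
  haveI : Mono i := Over.mono_of_mono_left i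
  obtain ⟨hm₁, hmono₁, hT₁, hmax₁⟩ := isMaxTorus_of_isMaximalTorus h₁
  obtain ⟨hm₂, hmono₂, hT₂, hmax₂⟩ := isMaxTorus_of_isMaximalTorus h₂
  haveI := hm₁; haveI := hm₂; haveI := hmono₁; haveI := hmono₂
  obtain ⟨hc₁, ha₁, hs₁, hk₁⟩ := torus_facts' hT₁ i₁
  obtain ⟨hc₂, ha₂, hs₂, hk₂⟩ := torus_facts' hT₂ i₂
  haveI := hc₁; haveI := ha₁; haveI := hs₁; haveI := hk₁; haveI := hc₂; haveI := ha₂; haveI := hs₂; haveI := hk₂
  obtain ⟨t₁, ht₁⟩ := factor_affine i hmax hNn T₁ i₁
  obtain ⟨t₂, ht₂⟩ := factor_affine i hmax hNn T₂ i₂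
  haveI : IsMonHom (t₁ ≫ i) := by rw [ht₁]; infer_instance
  haveI : IsMonHom (t₂ ≫ i) := by rw [ht₂]; infer_instance
  haveI : IsMonHom t₁ := GrothLib.CentMT14.isMonHom_of_comp t₁ i
  haveI : IsMonHom t₂ := GrothLib.CentMT14.isMonHom_of_comp t₂ i
  haveI : Mono (t₁ ≫ i) := by rw [ht₁]; infer_instance
  haveI : Mono t₁ := mono_of_mono t₁ i
  haveI : Mono (t₂ ≫ i) := by rw [ht₂]; infer_instance
  haveI : Mono t₂ := mono_of_mono t₂ i
  have H₁ : AGF.IsMaxTorus t₁ := ⟨inferInstance, inferInstance, hT₁, fun R _ r _ _ f hR hf =>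
    hmax₁ R (r ≫ i) f hR (by rw [reassoc_of% hf, ht₁])⟩
  have H₂ : AGF.IsMaxTorus t₂ := ⟨inferInstance, inferInstance, hT₂, fun R _ r _ _ f hR hf =>
    hmax₂ R (r ≫ i) f hR (by rw [reassoc_of% hf, ht₂])⟩
  obtain ⟨g, f, hf⟩ := GrothLib.Flag27.exists_conj_maxTori_connected H₁ H₂
  refine ⟨g ≫ i, f, ?_⟩
  rw [← ht₂, reassoc_of% hf, ← ht₁]
  simp only [AGF.conjBy, MonObj.mul_comp, GrpObj.inv_comp, Category.assoc]

/-- The centralizer of a torus in a connected group is smooth and connected. -/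
theorem smooth_connected_centralizer {T C : Over (Spec (CommRingCat.of k))} [GrpObj T] [GrpObj C] (j : T ⟶ G)
    [IsMonHom j] [Mono j] (hT : Red.IsTorus T) (c : C ⟶ G) (hC : Red.IsCentralizerOf j c) :
    Smooth C.hom ∧ ConnectedSpace C.left := by
  haveI : IsSeparated G.hom := GrpSchField.isSeparated G
  obtain ⟨hcm, hcmono, hciff⟩ := hC
  haveI := hcm; haveI := hcmono
  obtain ⟨N, _, i, hi, hic, hNs, hNc, hNa, hNn, hmax⟩ := exists_affPart (G := G)
  haveI := hi; haveI := hic; haveI := hNs; haveI := hNc; haveI := hNa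
  haveI : Mono i := Over.mono_of_mono_left i
  obtain ⟨Q, _, q, hq, hQs, hQq, hqf, hqs, -, hker⟩ := exists_quot i hNn
  haveI := hq; haveI := hQs; haveI := hQq; haveI := hqf; haveI := hqs
  haveI := isProper_quotient i hmax q hker
  obtain ⟨M, _, jM, hjM, hjMc, hM, -, hMmax, -⟩ := AntMax16.exists_ant G
  haveI := hjM; haveI := hjMc
  obtain ⟨hlM, hqM⟩ := AntMax16.props_of_mono jM
  haveI := hlM; haveI := hqM
  haveI hψs : Surjective ((i ⊗ₘ jM) ≫ μ[G]).left :=
    (AntMax16.ant_generates i q hker jM hM (fun K' _ _ _ b _ _ hb => hMmax K' b hb)).1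
  have hcen : ∀ {W : Over (Spec (CommRingCat.of k))} (a : W ⟶ M) (b : W ⟶ G), (a ≫ jM) * b = b * (a ≫ jM) :=
    fun a b => hM.central jM a b
  obtain ⟨hjc, hTa, hTs, hTc⟩ := torus_facts' hT j
  haveI := hjc; haveI := hTa; haveI := hTs; haveI := hTc
  obtain ⟨t, ht⟩ := factor_affine i hmax hNn T j
  haveI : IsMonHom (t ≫ i) := by rw [ht]; infer_instance
  haveI : IsMonHom t := GrothLib.CentMT14.isMonHom_of_comp t i
  haveI : Mono (t ≫ i) := by rw [ht]; infer_instance
  haveI : Mono t := mono_of_mono t i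
  obtain ⟨CN, _, cN, hcN, -⟩ := GrothLib.MultDef14.exists_centralizer
    (GrothLib.DiagGrp.hasChartsFpqc_of_isTorus hT) (inferInstance : Smooth N.hom) (isAffineHom_of_isAffine _) t
  obtain ⟨hNcc, hCNa, hCNs, hCNc⟩ := GrothLib.Flag27.centralizer_facts t hT hcN
  haveI := hNcc; haveI := hCNa; haveI := hCNs; haveI := hCNc
  obtain ⟨hcNm, hcNmono, hcNiff⟩ := hcN
  haveI := hcNm; haveI := hcNmono
  haveI : Smooth M.hom := (Groth.Agent.S11412.result k M hM).1
  haveI : ConnectedSpace M.left := hM.connectedSpace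
  -- the product subgroup
  let E := CN ⊗ M
  let φ : E ⟶ G := (fst CN M ≫ cN ≫ i) * (snd CN M ≫ jM)
  haveI : IsMonHom φ := GrothLib.GrpSchField.isMonHom_of_mul φ (by
    have e₁ : μ[CN ⊗ M] = fst E E * snd E E := by rw [Hom.mul_def, lift_fst_snd, Category.id_comp]
    have e₂ : (φ ⊗ₘ φ) ≫ μ[G] = (fst E E ≫ φ) * (snd E E ≫ φ) := by
      rw [Hom.mul_def, ← lift_map, lift_fst_snd, Category.id_comp]
    rw [e₁, e₂]
    simp only [φ, MonObj.comp_mul, ← Category.assoc]
    rw [show (fst E E * snd E E) ≫ fst CN M = (fst E E ≫ fst CN M) * (snd E E ≫ fst CN M) from MonObj.mul_comp _ _ _,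
      show (fst E E * snd E E) ≫ snd CN M = (fst E E ≫ snd CN M) * (snd E E ≫ snd CN M) from MonObj.mul_comp _ _ _]
    simp only [MonObj.mul_comp, Category.assoc]
    rw [_root_.mul_assoc, _root_.mul_assoc, ← _root_.mul_assoc ((snd E E) ≫ fst CN M ≫ cN ≫ i),
      ← Category.assoc (fst E E) (snd CN M), ← hcen, _root_.mul_assoc, Category.assoc])
  haveI : Smooth E.hom := by
    rw [show E.hom = pullback.fst CN.hom M.hom ≫ CN.hom from rfl]
    infer_instance
  haveI : ConnectedSpace ↥E.left :=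
    GrothLib.Neutral.connectedSpace_pullback CN.hom M.hom (η[CN]).left (Over.w η[CN])
  haveI : QuasiCompact CN.hom := by
    haveI : IsAffineHom CN.hom := isAffineHom_of_isAffine _
    infer_instance
  haveI : QuasiCompact E.hom := by
    rw [show E.hom = pullback.fst CN.hom M.hom ≫ CN.hom from rfl]; infer_instance
  obtain ⟨H, _, p, h, hp, hh, hph, hps, hpf, hplfp, hmono, hHlft, -⟩ := Neutral.exists_factor_field φ
  haveI := hp; haveI := hh; haveI := hmono; haveI := hps; haveI := hpf; haveI := hplfp; haveI := hHlft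
  haveI : Smooth H.hom := GrothLib.FppfSource.fppfSourceDescends_smooth p.left H.hom hpf hplfp hps
    (by rw [Over.w p]; infer_instance)
  haveI : ConnectedSpace H.left := p.left.surjective.connectedSpace p.left.continuous
  -- it is contained in the centralizer
  obtain ⟨a, ha⟩ : ∃ a : H ⟶ C, a ≫ c = h := by
    refine (hciff H h).2 fun X' x y => ?_
    have hu : (fst H T ≫ h) * (snd H T ≫ j) = (snd H T ≫ j) * (fst H T ≫ h) := by
      have hcov : Chevalley.IsCover (p ⊗ₘ 𝟙 T) :=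
        Chevalley.cover_tensor ⟨hpf, hps, hplfp⟩ ⟨inferInstanceAs (Flat (𝟙 T.left)),
          inferInstanceAs (Surjective (𝟙 T.left)), inferInstanceAs (LocallyOfFinitePresentation (𝟙 T.left))⟩
      haveI : Epi (p ⊗ₘ 𝟙 T) := Chevalley.epi_of_cover _ hcov
      refine (cancel_epi (p ⊗ₘ 𝟙 T)).1 ?_
      simp only [MonObj.comp_mul, tensorHom_fst_assoc, tensorHom_snd_assoc, Category.id_comp, hph, φ, Category.assoc]
      have h1 : (fst E T ≫ fst CN M ≫ cN) * (snd E T ≫ t) = (snd E T ≫ t) * (fst E T ≫ fst CN M ≫ cN) :=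
        (hcNiff _ (fst E T ≫ fst CN M ≫ cN)).1 ⟨fst E T ≫ fst CN M, Category.assoc _ _ _⟩ (E ⊗ T) (𝟙 _)
          (snd E T) |> fun e => by simpa using e
      have h2 := congrArg (· ≫ i) h1
      simp only [MonObj.mul_comp, Category.assoc, ht] at h2
      rw [_root_.mul_assoc, ← Category.assoc (fst E T) (snd CN M), hcen, ← _root_.mul_assoc, h2,
        _root_.mul_assoc]
    have := congrArg (lift x y ≫ ·) hu
    simpa only [MonObj.comp_mul, lift_fst_assoc, lift_snd_assoc] using this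
  -- and contains it
  haveI : IsReduced G.left := GrothLib.RedSmooth.isReduced_of_smooth G.hom
  obtain ⟨ψ, hψ, hψ0⟩ : ∃ ψ : N ⊗ M ⟶ G, ψ = (fst N M ≫ i) * (snd N M ≫ jM) ∧ ψ = (i ⊗ₘ jM) ≫ μ[G] :=
    ⟨_, rfl, by rw [Hom.mul_def, lift_fst_comp_snd_comp]⟩
  haveI : IsMonHom ψ := GrothLib.GrpSchField.isMonHom_of_mul ψ (by
    have e₁ : μ[N ⊗ M] = fst (N ⊗ M) (N ⊗ M) * snd (N ⊗ M) (N ⊗ M) := by
      rw [Hom.mul_def, lift_fst_snd, Category.id_comp]
    have e₂ : (ψ ⊗ₘ ψ) ≫ μ[G] = (fst (N ⊗ M) (N ⊗ M) ≫ ψ) * (snd (N ⊗ M) (N ⊗ M) ≫ ψ) := by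
      rw [Hom.mul_def, ← lift_map, lift_fst_snd, Category.id_comp]
    rw [e₁, e₂, hψ]
    simp only [MonObj.comp_mul, ← Category.assoc]
    rw [show (fst (N ⊗ M) (N ⊗ M) * snd (N ⊗ M) (N ⊗ M)) ≫ fst N M = _ from MonObj.mul_comp _ _ _,
      show (fst (N ⊗ M) (N ⊗ M) * snd (N ⊗ M) (N ⊗ M)) ≫ snd N M = _ from MonObj.mul_comp _ _ _]
    simp only [MonObj.mul_comp, Category.assoc]
    rw [_root_.mul_assoc, _root_.mul_assoc, ← _root_.mul_assoc ((snd (N ⊗ M) (N ⊗ M)) ≫ fst N M ≫ i),
      ← Category.assoc (fst (N ⊗ M) (N ⊗ M)) (snd N M), ← hcen, _root_.mul_assoc, Category.assoc])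
  haveI : Surjective ψ.left := hψ0 ▸ hψs
  haveI : QuasiCompact N.hom := by
    haveI : IsAffineHom N.hom := isAffineHom_of_isAffine _
    infer_instance
  haveI : LocallyOfFiniteType (N ⊗ M).hom := by
    rw [show (N ⊗ M).hom = pullback.fst N.hom M.hom ≫ N.hom from rfl]; infer_instance
  haveI : QuasiCompact (N ⊗ M).hom := by
    rw [show (N ⊗ M).hom = pullback.fst N.hom M.hom ≫ N.hom from rfl]; infer_instance
  haveI : QuasiCompact ψ.left := by
    haveI : QuasiCompact (ψ.left ≫ G.hom) := by rw [Over.w]; infer_instance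
    exact QuasiCompact.of_comp _ G.hom
  haveI : Flat ψ.left := GrothLib.GrpSchField.flat_hom ψ
  haveI : LocallyOfFinitePresentation ψ.left := GrothLib.AlbTors16.lfp_of_surj ψ
  let p' := pullback.snd ψ c
  let e := pullback.fst ψ c
  have sq := (IsPullback.of_hasPullback ψ c).map (Over.forget _)
  haveI : Flat p'.left := MorphismProperty.of_isPullback (P := @Flat) sq ‹Flat ψ.left›
  haveI : Surjective p'.left := MorphismProperty.of_isPullback (P := @Surjective) sq ‹Surjective ψ.left›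
  haveI : LocallyOfFinitePresentation p'.left :=
    MorphismProperty.of_isPullback (P := @LocallyOfFinitePresentation) sq ‹LocallyOfFinitePresentation ψ.left›
  have hc' : ∀ {X' : Over (Spec (CommRingCat.of k))} (x : X' ⟶ pullback ψ c) (y : X' ⟶ T),
      (x ≫ e ≫ ψ) * (y ≫ j) = (y ≫ j) * (x ≫ e ≫ ψ) := by
    intro X' x y
    rw [pullback.condition]
    exact (hciff _ (p' ≫ c)).1 ⟨p', rfl⟩ X' x y
  obtain ⟨n₀, hn₀⟩ : ∃ n₀ : pullback ψ c ⟶ CN, n₀ ≫ cN = e ≫ fst N M := by
    refine (hcNiff _ _).2 fun X' x y => (cancel_mono i).1 ?_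
    have h1 := hc' x y
    simp only [hψ, MonObj.comp_mul] at h1
    simp only [MonObj.mul_comp, Category.assoc, ht]
    rw [show x ≫ e ≫ snd N M ≫ jM = (x ≫ e ≫ snd N M) ≫ jM by simp only [Category.assoc],
      _root_.mul_assoc, hcen, ← _root_.mul_assoc, ← _root_.mul_assoc] at h1
    exact mul_right_cancel h1
  haveI : Mono h := hmono
  have hdn : (lift n₀ (e ≫ snd N M) ≫ p) ≫ h = p' ≫ c := by
    rw [Category.assoc, hph]
    refine Eq.trans ?_ (pullback.condition (f := ψ) (g := c))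
    rw [show pullback.fst ψ c ≫ ψ = pullback.fst ψ c ≫ ((fst N M ≫ i) * (snd N M ≫ jM)) from congrArg _ hψ]
    simp only [φ, e, MonObj.comp_mul, lift_fst_assoc, lift_snd_assoc, reassoc_of% hn₀, Category.assoc]
  obtain ⟨d, hd⟩ := QuotTorus14.exists_desc p' (lift n₀ (e ≫ snd N M) ≫ p) fun R _ u v v' hvv' =>
    (cancel_mono h).1 (by rw [Category.assoc v, Category.assoc v', hdn, ← Category.assoc, hvv', Category.assoc])
  haveI : Epi p' := Chevalley.epi_of_cover p' ⟨inferInstance, inferInstance, inferInstance⟩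
  have hdh : d ≫ h = c := (cancel_epi p').1 (by rw [← Category.assoc, hd, hdn])
  haveI : IsIso a := ⟨d, by rw [← cancel_mono h, Category.assoc, hdh, ha, Category.id_comp],
    by rw [← cancel_mono c, Category.assoc, ha, hdh, Category.id_comp]⟩
  haveI : IsIso a.left := inferInstanceAs (IsIso ((Over.forget _).map a))
  haveI : IsIso (inv a).left := inferInstanceAs (IsIso ((Over.forget _).map (inv a)))
  exact ⟨by rw [← Over.w (inv a)]; infer_instance, a.left.surjective.connectedSpace a.left.continuous⟩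

end GrothLib.Chev24
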