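import Groth.Agent.Lib.Flag27.BorelGeneral
import Groth.Agent.Lib.Flag27.BorelTori
import Groth.Agent.Lib.Flag27.Preimage
import Groth.Agent.Lib.Flag27.BorelUnion
import Groth.Agent.Lib.Flag27.More
import Groth.Agent.Lib.Chev24.TorusQuot
import Groth.Agent.Lib.Chev24.SepDesc
import Groth.Agent.Lib.Chev24.FgDense
import Groth.Agent.Lib.FppfSource.Scheme

/-!
# Borel subgroups and quotients by a subgroup of the radical
-/

set_option autoImplicit false
set_option linter.all false
set_option backward.isDefEq.respectTransparency false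
set_option maxHeartbeats 2000000
set_option synthInstance.maxHeartbeats 400000

universe u

open CategoryTheory CategoryTheory.Limits MonoidalCategory CartesianMonoidalCategory MonObj GrpObj
open AlgebraicGeometry VecGrp Topology

noncomputable section

namespace GrothLib.Chev24

open GrothLib.Flag27

attribute [-instance] Hom.commGroup Hom.commMonoid CommGrpObj.toIsCommMonObj

section Field

variable {k : Type u} [Field k]

/-- A smooth connected source has a closed smooth connected image. -/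
theorem exists_image_sm {A G : Over (Spec (CommRingCat.of k))} [GrpObj A] [GrpObj G] [Smooth A.hom]
    [QuasiCompact A.hom] [ConnectedSpace A.left] [LocallyOfFiniteType G.hom] (j : A ⟶ G) [IsMonHom j] :
    ∃ (I : Over (Spec (CommRingCat.of k))) (_ : GrpObj I) (jI : I ⟶ G) (p : A ⟶ I), IsMonHom jI ∧ IsMonHom p ∧
      IsClosedImmersion jI.left ∧ Smooth I.hom ∧ QuasiCompact I.hom ∧ ConnectedSpace I.left ∧ Surjective p.left ∧
      p ≫ jI = j := by
  haveI : IsSeparated G.hom := GrpSchField.isSeparated G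
  haveI : QuasiCompact j.left := by
    haveI : QuasiCompact (j.left ≫ G.hom) := by rw [Over.w]; infer_instance
    exact QuasiCompact.of_comp _ G.hom
  obtain ⟨I, _, p, jI, hp, hjI, hpj, hps, hpf, hpl, hm, hIl, -⟩ := Neutral.exists_factor_field j
  haveI := hp; haveI := hjI; haveI := hm; haveI := hps; haveI := hpf; haveI := hpl; haveI := hIl
  haveI := (Neutral.isClosedImmersion_factor j hpj).1
  haveI : Smooth I.hom := GrothLib.FppfSource.fppfSourceDescends_smooth p.left I.hom hpf hpl hps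
    (by rw [Over.w p]; infer_instance)
  haveI : CompactSpace A.left := QuasiCompact.compactSpace_of_compactSpace A.hom
  haveI : CompactSpace I.left := p.left.surjective.compactSpace p.left.continuous
  exact ⟨I, inferInstance, jI, p, hjI, hp, inferInstance, inferInstance,
    (quasiCompact_iff_compactSpace I.hom).2 inferInstance,
    p.left.surjective.connectedSpace p.left.continuous, hps, hpj⟩

/-- Factorisation through a monomorphism descends along a faithfully flat quasi-compact morphism. -/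
theorem factor_of_cover {S : Scheme.{u}} {T' T B G : Over S} (c : T' ⟶ T) [Flat c.left] [Surjective c.left]
    [QuasiCompact c.left] (b : B ⟶ G) [Mono b.left] (x : T ⟶ G) (y : T' ⟶ B) (hy : y ≫ b = c ≫ x) :
    ∃ z : T ⟶ B, z ≫ b = x := by
  have hy' : y.left ≫ b.left = c.left ≫ x.left := by rw [← Over.comp_left, hy, Over.comp_left]
  obtain ⟨t, ht⟩ : ∃ t : T.left ⟶ B.left, c.left ≫ t = y.left :=
    ⟨EffectiveEpi.desc c.left y.left (fun g₁ g₂ h => by
      rw [← cancel_mono b.left, Category.assoc, Category.assoc, hy', ← Category.assoc, h, Category.assoc]),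
      EffectiveEpi.fac _ _ _⟩
  have ht' : t ≫ b.left = x.left := by rw [← cancel_epi c.left, reassoc_of% ht, hy']
  exact ⟨Over.homMk t (by rw [← Over.w b, reassoc_of% ht']; exact Over.w x), Over.OverMorphism.ext ht'⟩

/-- A point whose image comes from a subgroup containing the kernel lies in that subgroup. -/
theorem factor_of_kernel {G G' B B' T : Over (Spec (CommRingCat.of k))} [GrpObj G] [GrpObj G'] [GrpObj B]
    (u : G ⟶ G') [IsMonHom u] (b : B ⟶ G) [IsMonHom b] [Mono b.left] (b' : B' ⟶ G') (v : B ⟶ B')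
    [Flat v.left] [Surjective v.left] [QuasiCompact v.left] (hv : v ≫ b' = b ≫ u)
    (hK : ∀ (X : Over (Spec (CommRingCat.of k))) (g : X ⟶ G), g ≫ u = 1 → ∃ y : X ⟶ B, y ≫ b = g)
    (x : T ⟶ G) (w : T ⟶ B') (h : x ≫ u = w ≫ b') : ∃ z : T ⟶ B, z ≫ b = x := by
  let T' : Over (Spec (CommRingCat.of k)) := Over.mk (pullback.fst w.left v.left ≫ T.hom)
  let c : T' ⟶ T := Over.homMk (pullback.fst w.left v.left) rfl
  let y : T' ⟶ B := Over.homMk (pullback.snd w.left v.left) (by
    show pullback.snd w.left v.left ≫ B.hom = pullback.fst w.left v.left ≫ T.hom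
    rw [← Over.w v, ← pullback.condition_assoc, Over.w w])
  haveI : Flat c.left := MorphismProperty.pullback_fst (P := @Flat) _ _ ‹_›
  haveI : Surjective c.left := MorphismProperty.pullback_fst (P := @Surjective) _ _ ‹_›
  haveI : QuasiCompact c.left := MorphismProperty.pullback_fst (P := @QuasiCompact) _ _ ‹_›
  have hsq : c ≫ w = y ≫ v := Over.OverMorphism.ext pullback.condition
  obtain ⟨z, hz⟩ := hK T' ((c ≫ x) * (y ≫ b)⁻¹) (by
    rw [MonObj.mul_comp, GrpObj.inv_comp, Category.assoc, Category.assoc, h, ← hv, reassoc_of% hsq, mul_inv_cancel])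
  exact factor_of_cover c b x (z * y) (by rw [MonObj.mul_comp, hz, inv_mul_cancel_right])

/-- The square of a subgroup containing the kernel and its image is cartesian. -/
theorem isPullback_of_kernel {G G' B B' : Over (Spec (CommRingCat.of k))} [GrpObj G] [GrpObj G'] [GrpObj B]
    (u : G ⟶ G') [IsMonHom u] (b : B ⟶ G) [IsMonHom b] [Mono b.left] (b' : B' ⟶ G') [Mono b'] (v : B ⟶ B')
    [Flat v.left] [Surjective v.left] [QuasiCompact v.left] (hv : v ≫ b' = b ≫ u)
    (hK : ∀ (X : Over (Spec (CommRingCat.of k))) (g : X ⟶ G), g ≫ u = 1 → ∃ y : X ⟶ B, y ≫ b = g) :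
    IsPullback b v u b' := by
  haveI : Mono b := Over.mono_of_mono_left b
  choose l hl using fun s : PullbackCone u b' =>
    factor_of_kernel u b b' v hv hK s.fst s.snd s.condition
  refine ⟨⟨hv.symm⟩, ⟨PullbackCone.IsLimit.mk _ l hl (fun s => ?_) fun s m h₁ _ => ?_⟩⟩
  · rw [← cancel_mono b', Category.assoc, hv, reassoc_of% (hl s)]
    exact s.condition
  · rw [← cancel_mono b, h₁, hl s]

end Field

section AlgClosed

variable {k : Type u} [Field k] [IsAlgClosed k]

local notation "pt₁" => 𝟙_ (Over (Spec (CommRingCat.of k)))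

theorem exists_lift_of_pt {A G : Over (Spec (CommRingCat.of k))} [LocallyOfFiniteType A.hom]
    [LocallyOfFiniteType G.hom] (p : A ⟶ G) [Surjective p.left] (w : pt₁ ⟶ G) : ∃ z : pt₁ ⟶ A, z ≫ p = w := by
  obtain ⟨z, -, hz⟩ := exists_cl_lift p (E := Set.univ) isClosed_univ.isLocallyClosed (w := w)
    (by rw [Set.image_univ]; exact p.left.surjective _)
  exact ⟨z, hz⟩

theorem isSolvableGrp_of_surjective {A I : Over (Spec (CommRingCat.of k))} [GrpObj A] [GrpObj I] [Smooth I.hom]
    [LocallyOfFiniteType A.hom] (p : A ⟶ I) [IsMonHom p] [Surjective p.left] (h : Red.IsSolvableGrp A) :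
    Red.IsSolvableGrp I := by
  haveI : IsSeparated I.hom := GrpSchField.isSeparated I
  exact isSolvableGrp_of_points (isSolvable_of_surjective p (isSolvable_points h))

/-- A solvable connected subgroup normalized by all points lies in every Borel subgroup. -/
theorem factor_borel_of_normal {G R B : Over (Spec (CommRingCat.of k))} [GrpObj G] [GrpObj R] [GrpObj B]
    [Smooth G.hom] [QuasiCompact G.hom] [ConnectedSpace G.left] (j : R ⟶ G) [IsMonHom j] [Smooth R.hom]
    [QuasiCompact R.hom] [ConnectedSpace R.left] (hs : Red.IsSolvableGrp R)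
    (hn : ∀ (g : pt₁ ⟶ G) (y : pt₁ ⟶ R), ∃ y' : pt₁ ⟶ R, g * (y ≫ j) * g⁻¹ = y' ≫ j)
    {b : B ⟶ G} (hB : Red.IsBorelOver k b) : ∃ f : R ⟶ B, f ≫ b = j := by
  obtain ⟨H, _, _, _, _, ρ, _, _, _, N, _, _, _, _, i, _, _, hker, hcen⟩ := exists_affine_part (G := G)
  obtain ⟨B₀, _, iB₀, π, hB₀, sq⟩ := exists_isPullback_of_borel ρ i hker hcen hB
  obtain ⟨I, _, jI, p, hjI, hp, hjIc, hIs, hIq, hIc, hps, hpj⟩ := exists_image_sm (j ≫ ρ)
  haveI := hjI; haveI := hp; haveI := hjIc; haveI := hIs; haveI := hIq; haveI := hIc; haveI := hps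
  obtain ⟨B₁, _, i₁, f₁, hB₁, hf₁⟩ := exists_borel_containing_solvable jI (isSolvableGrp_of_surjective p hs)
  obtain ⟨h, e, he⟩ := borel_conj hB₁ hB₀
  obtain ⟨g, hg⟩ := exists_lift_of_pt ρ h
  haveI := hB.2.1
  haveI : IsReduced R.left := GrothLib.RedSmooth.isReduced_of_smooth R.hom
  refine GrothLib.Flag27.exists_lift_of_pts j b fun y => ?_
  obtain ⟨y', hy'⟩ := hn g⁻¹ y
  have key : ((y' ≫ p ≫ f₁) ≫ e.hom) ≫ iB₀ = (y ≫ j) ≫ ρ := by
    rw [Category.assoc, he, comp_conjBy', Category.assoc, Category.assoc, hf₁, hpj, conjBy_pt, ← Category.assoc,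
      ← hy']
    simp only [MonObj.mul_comp, GrpObj.inv_comp, hg]
    group
  exact ⟨sq.lift (y ≫ j) _ key.symm, sq.lift_fst _ _ _⟩

variable {G G' R : Over (Spec (CommRingCat.of k))} [GrpObj G] [GrpObj G'] [GrpObj R] [Smooth G.hom]
  [QuasiCompact G.hom] [ConnectedSpace G.left] [Smooth G'.hom] [QuasiCompact G'.hom] [ConnectedSpace G'.left]
  (u : G ⟶ G') [IsMonHom u] [Surjective u.left] (r : R ⟶ G) [IsMonHom r] [Smooth R.hom] [QuasiCompact R.hom]
  [ConnectedSpace R.left]

include u r

/-- The preimage of a smooth connected solvable subgroup containing the image of the radical is of that kind. -/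
theorem preimage_props (hRs : Red.IsSolvableGrp R)
    (hK : ∀ (X : Over (Spec (CommRingCat.of k))) (g : X ⟶ G), g ≫ u = 1 → ∃ y : X ⟶ R, y ≫ r = g)
    {B B' : Over (Spec (CommRingCat.of k))} [GrpObj B] [GrpObj B'] (b : B ⟶ G) [IsMonHom b] (b' : B' ⟶ G')
    [IsMonHom b'] [IsClosedImmersion b'.left] [Smooth B'.hom] [ConnectedSpace B'.left] (hs : Red.IsSolvableGrp B')
    (v : B ⟶ B') [IsMonHom v] (sq : IsPullback b v u b') (a : R ⟶ B') (ha : a ≫ b' = r ≫ u) :
    IsClosedImmersion b.left ∧ Smooth B.hom ∧ ConnectedSpace B.left ∧ Red.IsSolvableGrp B ∧ Surjective v.left := by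
  haveI : IsSeparated G.hom := GrpSchField.isSeparated G
  haveI : Mono b' := Over.mono_of_mono_left b'
  have sqL : IsPullback b.left v.left u.left b'.left := sq.map (Over.forget _)
  haveI : IsClosedImmersion b.left := MorphismProperty.of_isPullback sqL.flip ‹IsClosedImmersion b'.left›
  haveI : Mono b := Over.mono_of_mono_left b
  haveI : Surjective v.left := MorphismProperty.of_isPullback sqL ‹Surjective u.left›
  haveI : LocallyOfFiniteType B.hom := by rw [← Over.w b]; infer_instance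
  haveI : QuasiCompact B.hom := by rw [← Over.w b]; infer_instance
  haveI : QuasiCompact B'.hom := by rw [← Over.w b']; infer_instance
  haveI : IsReduced R.left := GrothLib.RedSmooth.isReduced_of_smooth R.hom
  let rB : R ⟶ B := sq.lift r a ha.symm
  have hrB : rB ≫ b = r := sq.lift_fst _ _ _
  haveI : IsMonHom (rB ≫ b) := by rw [hrB]; infer_instance
  haveI : IsMonHom rB := GrothLib.Flag27.isMonHom_of_comp rB b
  obtain ⟨P, _, j, hj, hjc, hPs, hPc, hjo, hlift⟩ := exists_openRedNeutral B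
  haveI := hj; haveI := hjc; haveI := hPs; haveI := hPc
  haveI : Mono j := Over.mono_of_mono_left j
  haveI : QuasiCompact P.hom := by rw [← Over.w j]; infer_instance
  obtain ⟨rP, hrP⟩ := hlift R rB inferInstance inferInstance ⟨η[R].left (IsLocalRing.closedPoint k), by
    rw [← IsMonHom.one_hom rB]; rfl⟩
  obtain ⟨I, _, jI, p, hjI, hp, hjIc, hIs, hIq, hIc, hps, hpj⟩ := exists_image_sm (j ≫ v)
  haveI := hjI; haveI := hp; haveI := hjIc; haveI := hIs; haveI := hIq; haveI := hIc; haveI := hps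
  -- finitely many translates of the image cover
  obtain ⟨t, ht, hcos⟩ := exists_finite_cosets j hjo
  let τ : (pt₁ ⟶ B') → (B' ⟶ B') := fun w => (toUnit B' ≫ w)⁻¹ * 𝟙 B'
  have hτ : ∀ w x : pt₁ ⟶ B', x ≫ τ w = w⁻¹ * x := fun w x => by
    simp only [τ, MonObj.comp_mul, GrpObj.comp_inv, Category.comp_id]
    rw [← Category.assoc, toUnit_unique (x ≫ toUnit B') (𝟙 _), Category.id_comp]
  haveI : JacobsonSpace B'.left := LocallyOfFiniteType.jacobsonSpace B'.hom
  haveI : IrreducibleSpace B'.left := GrothLib.Rigidity.irreducibleSpace_of_connected B'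
  let O : (pt₁ ⟶ B) → Set B'.left := fun w => (τ (w ≫ v)).left ⁻¹' Set.range jI.left
  have hOcl : ∀ w, IsClosed (O w) := fun w =>
    jI.left.isClosedEmbedding.isClosed_range.preimage (τ (w ≫ v)).left.continuous
  have hcov : (Set.univ : Set B'.left) ⊆ ⋃₀ ↑(ht.toFinset.image O) := by
    intro y _
    by_contra hy
    have hcl : IsClosed (⋃₀ (↑(ht.toFinset.image O) : Set (Set B'.left))) := by
      rw [Set.sUnion_eq_biUnion]
      refine (Finset.finite_toSet _).isClosed_biUnion fun C hC => ?_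
      obtain ⟨w, -, rfl⟩ := Finset.mem_image.1 (Finset.mem_coe.1 hC)
      exact hOcl w
    obtain ⟨z, hz, hzc⟩ := nonempty_inter_closedPoints ⟨y, hy⟩ hcl.isOpen_compl.isLocallyClosed
    obtain ⟨x, rfl⟩ := exists_cl hzc
    obtain ⟨x₀, hx₀⟩ := exists_lift_of_pt v x
    obtain ⟨w, hw, e, he⟩ := hcos x₀
    refine hz ⟨O w, Finset.mem_coe.2 (Finset.mem_image.2 ⟨w, ht.mem_toFinset.2 hw, rfl⟩), cl (e ≫ p), ?_⟩
    rw [← cl_comp, ← cl_comp, Category.assoc, hpj, hτ, ← hx₀, he, MonObj.mul_comp, Category.assoc, inv_mul_cancel_left]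
  obtain ⟨C, hC, huniv⟩ := (isIrreducible_iff_sUnion_isClosed.1 (IrreducibleSpace.isIrreducible_univ B'.left))
    (ht.toFinset.image O) (fun C hC => by obtain ⟨w, -, rfl⟩ := Finset.mem_image.1 hC; exact hOcl w) hcov
  obtain ⟨w, -, rfl⟩ := Finset.mem_image.1 hC
  haveI : Surjective (j ≫ v).left := by
    have hI : Set.range jI.left = Set.univ := by
      by_contra hne
      obtain ⟨z, hz, hzc⟩ := nonempty_inter_closedPoints (Set.nonempty_compl.2 hne)
        jI.left.isClosedEmbedding.isClosed_range.isOpen_compl.isLocallyClosed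
      obtain ⟨x, rfl⟩ := exists_cl hzc
      have h := huniv (Set.mem_univ (cl ((w ≫ v) * x)))
      have e : cl (((w ≫ v) * x) ≫ τ (w ≫ v)) = cl x := by rw [hτ, inv_mul_cancel_left]
      rw [cl_comp] at e
      exact hz (e ▸ h)
    haveI : Surjective jI.left := ⟨Set.range_eq_univ.1 hI⟩
    rw [← hpj, Over.comp_left]
    infer_instance
  haveI : IsReduced B'.left := GrothLib.RedSmooth.isReduced_of_smooth B'.hom
  haveI : IsSeparated B'.hom := GrpSchField.isSeparated B'
  haveI : QuasiCompact (j ≫ v).left := by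
    haveI : QuasiCompact ((j ≫ v).left ≫ B'.hom) := by rw [Over.w]; infer_instance
    exact QuasiCompact.of_comp _ B'.hom
  haveI : Flat (j ≫ v).left := GrothLib.GrpSchField.flat_hom (j ≫ v)
  haveI : Mono (j ≫ b).left := inferInstanceAs (Mono (j.left ≫ b.left))
  obtain ⟨s, hs'⟩ := factor_of_kernel u (j ≫ b) b' (j ≫ v) (by rw [Category.assoc, ← sq.w, Category.assoc])
    (fun X g hg => by
      obtain ⟨y, hy⟩ := hK X g hg
      exact ⟨y ≫ rP, by rw [Category.assoc, reassoc_of% hrP, hrB, hy]⟩) b v sq.w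
  have hsj : s ≫ j = 𝟙 B := by rw [← cancel_mono b, Category.assoc, hs', Category.id_comp]
  haveI : IsIso j := ⟨s, by rw [← cancel_mono j, Category.assoc, hsj, Category.comp_id, Category.id_comp], hsj⟩
  haveI : IsIso j.left := inferInstanceAs (IsIso ((Over.forget _).map j))
  haveI : Smooth B.hom := by
    rw [show B.hom = inv j.left ≫ P.hom by rw [← Over.w j, IsIso.inv_hom_id_assoc]]
    infer_instance
  haveI : IsSeparated B.hom := GrpSchField.isSeparated B
  refine ⟨inferInstance, inferInstance, j.left.surjective.connectedSpace j.left.continuous, ?_, inferInstance⟩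
  refine isSolvableGrp_of_points ?_
  let φ : (pt₁ ⟶ R) →* (pt₁ ⟶ B) := MonoidHom.mk' (· ≫ rB) fun c d => MonObj.mul_comp c d rB
  let ψ : (pt₁ ⟶ B) →* (pt₁ ⟶ B') := MonoidHom.mk' (· ≫ v) fun c d => MonObj.mul_comp c d v
  haveI : Group.IsSolvable (pt₁ ⟶ R) := isSolvable_points hRs
  haveI : Group.IsSolvable (pt₁ ⟶ B') := isSolvable_points hs
  refine solvable_of_ker_le_range φ ψ fun x hx => ?_
  have hx' : x ≫ v = 1 := hx
  obtain ⟨y, hy⟩ := hK _ (x ≫ b) (by rw [Category.assoc, sq.w, reassoc_of% hx', MonObj.one_comp])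
  exact ⟨y, (cancel_mono b).1 (by show (y ≫ rB) ≫ b = _; rw [Category.assoc, hrB, hy])⟩

variable (hRs : Red.IsSolvableGrp R)
  (hn : ∀ (g : 𝟙_ (Over (Spec (CommRingCat.of k))) ⟶ G) (y : 𝟙_ (Over (Spec (CommRingCat.of k))) ⟶ R),
    ∃ y' : 𝟙_ (Over (Spec (CommRingCat.of k))) ⟶ R, g * (y ≫ r) * g⁻¹ = y' ≫ r)
  (hK : ∀ (X : Over (Spec (CommRingCat.of k))) (g : X ⟶ G), g ≫ u = 1 → ∃ y : X ⟶ R, y ≫ r = g)

include hRs hn hK

/-- Preimages of Borel subgroups are Borel subgroups. -/
theorem isBorelOver_preimage {B B' : Over (Spec (CommRingCat.of k))} [GrpObj B] [GrpObj B'] (b : B ⟶ G)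
    [IsMonHom b] {b' : B' ⟶ G'} (hB' : Red.IsBorelOver k b') (v : B ⟶ B') [IsMonHom v] (sq : IsPullback b v u b') :
    Red.IsBorelOver k b := by
  obtain ⟨hm', hc', hs', hconn', hsolv', hmax'⟩ := id hB'
  haveI := hm'; haveI := hc'; haveI := hs'; haveI := hconn'
  obtain ⟨a, ha⟩ := factor_borel_of_normal (r ≫ u) hRs (fun g y => by
    obtain ⟨g₀, rfl⟩ := exists_lift_of_pt u g
    obtain ⟨y', hy'⟩ := hn g₀ y
    refine ⟨y', ?_⟩
    rw [← Category.assoc y' r u, ← hy', MonObj.mul_comp, MonObj.mul_comp, GrpObj.inv_comp, Category.assoc]) hB'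
  obtain ⟨hbc, hbs, hbconn, hbsolv, hv⟩ := preimage_props u r hRs hK b b' hsolv' v sq a ha
  haveI := hbc; haveI := hbs; haveI := hbconn; haveI := hv
  refine ⟨inferInstance, hbc, hbs, hbconn, hbsolv, fun B₂ _ i₂ _ f hi₂ hs₂ hc₂ hsolv₂ hf => ?_⟩
  haveI := hi₂; haveI := hs₂; haveI := hc₂
  haveI : QuasiCompact B₂.hom := by rw [← Over.w i₂]; infer_instance
  obtain ⟨I, _, jI, p, hjI, hp, hjIc, hIs, hIq, hIc, hps, hpj⟩ := exists_image_sm (i₂ ≫ u)
  haveI := hjI; haveI := hp; haveI := hjIc; haveI := hIs; haveI := hIq; haveI := hIc; haveI := hps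
  haveI : Mono jI := Over.mono_of_mono_left jI
  haveI : IsReduced B'.left := GrothLib.RedSmooth.isReduced_of_smooth B'.hom
  haveI : LocallyOfFiniteType B.hom := inferInstance
  obtain ⟨l, hl⟩ : ∃ l : B' ⟶ I, l ≫ jI = b' := by
    refine GrothLib.Flag27.exists_lift_of_pts b' jI fun w => ?_
    obtain ⟨z, hz⟩ := exists_lift_of_pt v w
    exact ⟨z ≫ f ≫ p, by rw [← hz, Category.assoc, Category.assoc, hpj, reassoc_of% hf, Category.assoc, ← sq.w]⟩
  haveI : IsIso l := hmax' I jI l hjIc hIs hIc (isSolvableGrp_of_surjective p hsolv₂) hl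
  let s : B₂ ⟶ B := sq.lift i₂ (p ≫ inv l) (by rw [Category.assoc, (IsIso.inv_comp_eq l).2 hl.symm, hpj])
  have hs : s ≫ b = i₂ := sq.lift_fst _ _ _
  haveI : Mono b := Over.mono_of_mono_left b
  haveI : Mono i₂ := Over.mono_of_mono_left i₂
  exact ⟨s, by rw [← cancel_mono b, Category.assoc, hs, hf, Category.id_comp],
    by rw [← cancel_mono i₂, Category.assoc, hf, hs, Category.id_comp]⟩

/-- Images of Borel subgroups are Borel subgroups. -/
theorem isBorelOver_image_rad {B B' : Over (Spec (CommRingCat.of k))} [GrpObj B] [GrpObj B'] {b : B ⟶ G}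
    (hB : Red.IsBorelOver k b) (b' : B' ⟶ G') [IsMonHom b'] [IsClosedImmersion b'.left] [Smooth B'.hom]
    (v : B ⟶ B') [IsMonHom v] [Surjective v.left] (hv : v ≫ b' = b ≫ u) : Red.IsBorelOver k b' := by
  obtain ⟨hm, hc, hs, hconn, hsolv, hmax⟩ := id hB
  haveI := hm; haveI := hc; haveI := hs; haveI := hconn
  haveI : QuasiCompact B.hom := by rw [← Over.w b]; infer_instance
  haveI : ConnectedSpace B'.left := v.left.surjective.connectedSpace v.left.continuous
  refine ⟨inferInstance, inferInstance, inferInstance, inferInstance, isSolvableGrp_of_surjective v hsolv,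
    fun I _ => ?_⟩
  intro i₂ _ f hi₂ hs₂ hc₂ hsolv₂ hf
  haveI := hi₂; haveI := hs₂; haveI := hc₂
  obtain ⟨fR, hfR⟩ := factor_borel_of_normal r hRs hn hB
  -- the preimage of the bigger subgroup
  haveI : Mono i₂ := Over.mono_of_mono_left i₂
  let P : Over (Spec (CommRingCat.of k)) := Over.mk (pullback.snd i₂.left u.left ≫ G.hom)
  let iP : P ⟶ G := Over.homMk (pullback.snd i₂.left u.left) rfl
  let a : P ⟶ I := Over.homMk (pullback.fst i₂.left u.left) (by
    show pullback.fst i₂.left u.left ≫ I.hom = pullback.snd i₂.left u.left ≫ G.hom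
    rw [← Over.w i₂, pullback.condition_assoc, Over.w u])
  have hsqL : IsPullback a.left iP.left i₂.left u.left := IsPullback.of_hasPullback i₂.left u.left
  have hsq : IsPullback a iP i₂ u := IsPullback.of_map (Over.forget _) (Over.OverMorphism.ext hsqL.w) hsqL
  obtain ⟨hP, ha, hiP⟩ := GrothLib.SubPre14.exists_grpObj_pullback u i₂ a iP hsq
  haveI := ha; haveI := hiP
  obtain ⟨hPc, hPs, hPconn, hPsolv, -⟩ := preimage_props u r hRs hK iP i₂ hsolv₂ a hsq.flip (fR ≫ v ≫ f) (by
    rw [Category.assoc, Category.assoc, hf, hv, reassoc_of% hfR])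
  let g : B ⟶ P := hsq.flip.lift b (v ≫ f) (by rw [Category.assoc, hf, hv])
  have hg : g ≫ iP = b := hsq.flip.lift_fst _ _ _
  haveI : IsIso g := hmax P iP g hPc hPs hPconn hPsolv hg
  haveI : IsReduced I.left := GrothLib.RedSmooth.isReduced_of_smooth I.hom
  obtain ⟨l, hl⟩ : ∃ l : I ⟶ B', l ≫ b' = i₂ := by
    refine GrothLib.Flag27.exists_lift_of_pts i₂ b' fun w => ?_
    obtain ⟨x, hx⟩ := exists_lift_of_pt u (w ≫ i₂)
    refine ⟨hsq.flip.lift x w hx ≫ inv g ≫ v, ?_⟩
    rw [Category.assoc, Category.assoc, hv, ← Category.assoc (inv g) b u, (IsIso.inv_comp_eq g).2 hg.symm,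
      ← Category.assoc, hsq.flip.lift_fst, hx]
  haveI : Mono b' := Over.mono_of_mono_left b'
  exact ⟨l, by rw [← cancel_mono b', Category.assoc, hl, hf, Category.id_comp],
    by rw [← cancel_mono i₂, Category.assoc, hf, hl, Category.id_comp]⟩

end AlgClosed

end GrothLib.Chev24
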