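import Groth.Agent.Lib.Chev24.BorelRad
import Groth.Agent.Lib.Flag27.Geom
import Groth.Agent.Lib.Chev24.CommTorus

/-!
# Borel subgroups and quotients by a subgroup of the radical, over any field
-/

set_option autoImplicit false
set_option linter.all false
set_option backward.isDefEq.respectTransparency false
set_option maxHeartbeats 2000000
set_option synthInstance.maxHeartbeats 400000

universe u

open CategoryTheory CategoryTheory.Limits MonoidalCategory CartesianMonoidalCategory MonObj GrpObj
open AlgebraicGeometry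

noncomputable section

namespace GrothLib.Chev24

open GrothLib.Flag27

attribute [-instance] Hom.commGroup Hom.commMonoid CommGrpObj.toIsCommMonObj

variable {k K : Type u} [Field k] [Field K] [IsAlgClosed K] (q : Spec (CommRingCat.of K) ⟶ Spec (CommRingCat.of k))
  {G G' : Over (Spec (CommRingCat.of k))} [GrpObj G] [GrpObj G'] [Smooth G.hom] [QuasiCompact G.hom]
  [Smooth G'.hom] [QuasiCompact G'.hom] [ConnectedSpace G.left] [ConnectedSpace G'.left]
  (u : G ⟶ G') [IsMonHom u] [Surjective u.left]
  {R : Over (Spec (CommRingCat.of K))} [GrpObj R] (r : R ⟶ Red.bc q G) [IsMonHom r] [IsClosedImmersion r.left]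
  [Smooth R.hom] [ConnectedSpace R.left] (hRs : Red.IsSolvableGrp R)
  (hn : ∀ (X : Over (Spec (CommRingCat.of K))) (g : X ⟶ Red.bc q G) (x : X ⟶ R),
    ∃ x' : X ⟶ R, g * (x ≫ r) * g⁻¹ = x' ≫ r)
  (hK : ∀ (X : Over (Spec (CommRingCat.of K))) (g : X ⟶ Red.bc q G), g ≫ (Over.pullback q).map u = 1 →
    ∃ x : X ⟶ R, x ≫ r = g)

include u r hRs hn hK

/-- Preimages of geometric Borel subgroups are geometric Borel subgroups. -/
theorem isBorelOver_preimage_geom {B B' : Over (Spec (CommRingCat.of k))} [GrpObj B] [GrpObj B'] (b : B ⟶ G)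
    [IsMonHom b] (b' : B' ⟶ G') (v : B ⟶ B') [IsMonHom v] (sq : IsPullback b v u b')
    (hB' : Red.IsBorelOver K ((Over.pullback q).map b')) : Red.IsBorelOver K ((Over.pullback q).map b) := by
  haveI : Smooth (Red.bc q G).hom := smooth_bc q G
  haveI : Smooth (Red.bc q G').hom := smooth_bc q G'
  haveI : QuasiCompact (Red.bc q G).hom := MorphismProperty.pullback_snd (P := @QuasiCompact) _ _ ‹_›
  haveI : QuasiCompact (Red.bc q G').hom := MorphismProperty.pullback_snd (P := @QuasiCompact) _ _ ‹_›
  haveI : ConnectedSpace (Red.bc q G).left := connectedSpace_bc q G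
  haveI : ConnectedSpace (Red.bc q G').left := connectedSpace_bc q G'
  haveI : QuasiCompact R.hom := by rw [← Over.w r]; infer_instance
  haveI : Surjective ((Over.pullback q).map u).left := GrothLib.Flag27.surjective_map q u
  haveI : (Over.pullback q).IsRightAdjoint := (Over.mapPullbackAdj q).isRightAdjoint
  exact isBorelOver_preimage ((Over.pullback q).map u) r hRs (fun g y => hn _ g y) hK ((Over.pullback q).map b) hB'
    ((Over.pullback q).map v) (sq.map (Over.pullback q))

variable [Surjective q] [Flat q] [QuasiCompact q]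

/-- A geometric Borel subgroup is the preimage of its image. -/
theorem exists_image_borel_geom {B : Over (Spec (CommRingCat.of k))} [GrpObj B] [Smooth B.hom] [QuasiCompact B.hom]
    (b : B ⟶ G) [IsMonHom b] [Mono b] (hB : Red.IsBorelOver K ((Over.pullback q).map b)) :
    ∃ (B' : Over (Spec (CommRingCat.of k))) (_ : GrpObj B') (b' : B' ⟶ G') (v : B ⟶ B'), IsMonHom b' ∧
      IsMonHom v ∧ IsClosedImmersion b'.left ∧ Smooth B'.hom ∧ QuasiCompact B'.hom ∧ Surjective v.left ∧
      v ≫ b' = b ≫ u ∧ IsPullback b v u b' := by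
  haveI : Smooth (Red.bc q G).hom := smooth_bc q G
  haveI : QuasiCompact (Red.bc q G).hom := MorphismProperty.pullback_snd (P := @QuasiCompact) _ _ ‹_›
  haveI : ConnectedSpace (Red.bc q G).left := connectedSpace_bc q G
  haveI : QuasiCompact R.hom := by rw [← Over.w r]; infer_instance
  haveI : ConnectedSpace B.left := by
    haveI : ConnectedSpace (pullback B.hom q : Scheme) := hB.2.2.2.1
    haveI : Surjective (pullback.fst B.hom q) := MorphismProperty.pullback_fst (P := @Surjective) _ _ ‹_›
    exact (pullback.fst B.hom q).surjective.connectedSpace (pullback.fst B.hom q).continuous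
  obtain ⟨B', _, b', v, hb', hv', hb'c, hB's, hB'q, hB'conn, hvs, hvb⟩ := exists_image_sm (b ≫ u)
  haveI := hb'; haveI := hv'; haveI := hb'c; haveI := hB's; haveI := hB'q; haveI := hvs
  refine ⟨B', inferInstance, b', v, hb', hv', hb'c, hB's, hB'q, hvs, hvb, ?_⟩
  haveI : Mono b' := Over.mono_of_mono_left b'
  haveI : Mono b.left := inferInstance
  haveI : IsReduced B'.left := GrothLib.RedSmooth.isReduced_of_smooth B'.hom
  haveI : IsSeparated B'.hom := GrpSchField.isSeparated B'
  haveI : QuasiCompact v.left := by
    haveI : QuasiCompact (v.left ≫ B'.hom) := by rw [Over.w]; infer_instance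
    exact QuasiCompact.of_comp _ B'.hom
  haveI : Flat v.left := GrothLib.GrpSchField.flat_hom v
  refine isPullback_of_kernel u b b' v hvb fun X g hg => ?_
  obtain ⟨f, hf⟩ := factor_borel_of_normal r hRs (fun g y => hn _ g y) hB
  let g₀ : X ⟶ G := 1
  let y₀ : X ⟶ B := 1
  have hy₀ : y₀ ≫ b = g₀ := MonObj.one_comp b
  have h₀ : (Over.pullback q).map g ≫ (Over.pullback q).map u =
      (Over.pullback q).map g₀ ≫ (Over.pullback q).map u := by
    rw [← Functor.map_comp, ← Functor.map_comp, hg, MonObj.one_comp]
  obtain ⟨x, hx⟩ := hK _ ((Over.pullback q).map g * ((Over.pullback q).map g₀)⁻¹) (by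
    rw [MonObj.mul_comp, GrpObj.inv_comp, h₀, mul_inv_cancel])
  refine factor_of_bc q b g (x ≫ f * (Over.pullback q).map y₀) ?_
  rw [MonObj.mul_comp, Category.assoc, hf, hx, ← Functor.map_comp, hy₀, inv_mul_cancel_right]

/-- The image of a geometric Borel subgroup is a geometric Borel subgroup. -/
theorem isBorelOver_image_geom {B B' : Over (Spec (CommRingCat.of k))} [GrpObj B] [GrpObj B'] {b : B ⟶ G}
    (hB : Red.IsBorelOver K ((Over.pullback q).map b)) (b' : B' ⟶ G') [IsMonHom b'] [IsClosedImmersion b'.left]
    [Smooth B'.hom] (v : B ⟶ B') [IsMonHom v] [Surjective v.left] (hv : v ≫ b' = b ≫ u) :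
    Red.IsBorelOver K ((Over.pullback q).map b') := by
  haveI : Smooth (Red.bc q G).hom := smooth_bc q G
  haveI : Smooth (Red.bc q G').hom := smooth_bc q G'
  haveI : QuasiCompact (Red.bc q G).hom := MorphismProperty.pullback_snd (P := @QuasiCompact) _ _ ‹_›
  haveI : QuasiCompact (Red.bc q G').hom := MorphismProperty.pullback_snd (P := @QuasiCompact) _ _ ‹_›
  haveI : ConnectedSpace (Red.bc q G).left := connectedSpace_bc q G
  haveI : ConnectedSpace (Red.bc q G').left := connectedSpace_bc q G'
  haveI : QuasiCompact R.hom := by rw [← Over.w r]; infer_instance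
  haveI : Surjective ((Over.pullback q).map u).left := GrothLib.Flag27.surjective_map q u
  haveI : Smooth (Red.bc q B').hom := smooth_bc q B'
  haveI : Surjective ((Over.pullback q).map v).left := GrothLib.Flag27.surjective_map q v
  haveI : IsClosedImmersion ((Over.pullback q).map b').left := GrothLib.Flag27.isClosedImmersion_map q b'
  exact isBorelOver_image_rad ((Over.pullback q).map u) r hRs (fun g y => hn _ g y) hK hB ((Over.pullback q).map b')
    ((Over.pullback q).map v) (by rw [← Functor.map_comp, hv, Functor.map_comp])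

end GrothLib.Chev24
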