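import Groth.Agent.Lib.Chev24.Setup
import Groth.Agent.Lib.Chow.Prod
import Groth.Agent.Lib.CycP1.Graph
import Groth.Agent.Lib.Japanese.Field
import Groth.Agent.S0025

/-!
# A non-proper variety has a divisor of a model without centre
-/

set_option autoImplicit false
set_option linter.all false
set_option backward.isDefEq.respectTransparency false
set_option maxHeartbeats 1000000
set_option synthInstance.maxHeartbeats 200000

universe u

open CategoryTheory CategoryTheory.Limits
open AlgebraicGeometry VecGrp Topology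

noncomputable section

namespace GrothLib.Chev24

variable {k : Type u} [Field k]

/-- The algebra of sections over the base field. -/
def sectAlg {X : Scheme.{u}} (f : X ⟶ Spec (CommRingCat.of k)) (U : X.Opens) : Algebra k Γ(X, U) :=
  ((Scheme.ΓSpecIso (CommRingCat.of k)).inv ≫ f.appLE ⊤ U le_top).hom.toAlgebra

theorem finiteType_sectAlg {X : Scheme.{u}} (f : X ⟶ Spec (CommRingCat.of k)) [LocallyOfFiniteType f]
    {U : X.Opens} (hU : IsAffineOpen U) :
    letI := sectAlg f U
    Algebra.FiniteType k Γ(X, U) := by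
  letI := sectAlg f U
  have h1 : (f.appLE ⊤ U le_top).hom.FiniteType :=
    HasRingHomProperty.appLE @LocallyOfFiniteType f inferInstance ⟨⊤, isAffineOpen_top _⟩ ⟨U, hU⟩ le_top
  have h2 : (Scheme.ΓSpecIso (CommRingCat.of k)).inv.hom.FiniteType :=
    RingHom.FiniteType.of_surjective _
      (Scheme.ΓSpecIso (CommRingCat.of k)).commRingCatIsoToRingEquiv.symm.surjective
  rw [← RingHom.finiteType_algebraMap]
  exact h1.comp h2

/-- An affine open as a point over the base. -/
def affPt {X : Scheme.{u}} (f : X ⟶ Spec (CommRingCat.of k)) {U : X.Opens} (hU : IsAffineOpen U) :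
    letI := sectAlg f U
    pt k Γ(X, U) ⟶ Over.mk f :=
  letI := sectAlg f U
  Over.homMk hU.fromSpec (by
    show hU.fromSpec ≫ (Over.mk f).hom = Spec.map (CommRingCat.ofHom (algebraMap k Γ(X, U)))
    exact fromSpec_comp_eq (X := Over.mk f) hU)

/-- The valuation ring of a prime element of a Noetherian model. -/
theorem inO_or_inv {B K : Type u} [CommRing B] [IsDomain B] [IsNoetherianRing B] [Field K] [Algebra B K]
    [IsFractionRing B K] {π : B} (hπ : Prime π) (x : K) : InO π x ∨ InO π x⁻¹ := by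
  obtain ⟨a, b, hb, rfl⟩ := IsFractionRing.div_surjective B x
  rcases eq_or_ne a 0 with rfl | ha
  · exact Or.inl ⟨0, 1, fun h => hπ.not_unit (isUnit_of_dvd_one h), by simp⟩
  obtain ⟨i, a', ha', rfl⟩ := WfDvdMonoid.max_power_factor ha hπ.irreducible
  obtain ⟨j, b', hb', rfl⟩ := WfDvdMonoid.max_power_factor (nonZeroDivisors.ne_zero hb) hπ.irreducible
  have hπK : algebraMap B K π ≠ 0 := fun e => hπ.ne_zero (IsFractionRing.injective B K (e.trans (map_zero _).symm))
  have ha'K : algebraMap B K a' ≠ 0 := fun e => ha'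
    ((show a' = 0 from IsFractionRing.injective B K (e.trans (map_zero _).symm)) ▸ dvd_zero π)
  have hb'K : algebraMap B K b' ≠ 0 := fun e => hb'
    ((show b' = 0 from IsFractionRing.injective B K (e.trans (map_zero _).symm)) ▸ dvd_zero π)
  rcases le_total j i with h | h
  · obtain ⟨d, rfl⟩ := Nat.exists_eq_add_of_le h
    refine Or.inl ⟨π ^ d * a', b', hb', ?_⟩
    simp only [map_mul, map_pow, pow_add]
    field_simp
  · obtain ⟨d, rfl⟩ := Nat.exists_eq_add_of_le h
    refine Or.inr ⟨π ^ d * b', a', ha', ?_⟩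
    simp only [map_mul, map_pow, pow_add]
    field_simp

/-- A valuation ring of a model centred at an ideal. -/
theorem exists_model {K : Type u} [Field K] [Algebra k K] {D : Type u} [CommRing D] [Algebra k D]
    [Algebra.FiniteType k D] (φ : D →ₐ[k] K) (hφ : Function.Injective φ) (I : Ideal D) (hI : I ≠ ⊤) (hI0 : I ≠ ⊥)
    (S : Finset K) (hS : ∀ x : K, x ∈ Subfield.closure (((algebraMap k K).range : Set K) ∪ (S : Set K))) :
    ∃ (B : Type u) (_ : CommRing B) (_ : Algebra k B) (_ : IsDomain B) (_ : Algebra B K) (_ : IsScalarTower k B K)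
      (_ : IsFractionRing B K) (_ : Algebra.FiniteType k B) (π : B), Prime π ∧
      ∃ ψ : D →ₐ[k] B, (∀ d, algebraMap B K (ψ d) = φ d) ∧ ∀ d ∈ I, π ∣ ψ d := by
  classical
  haveI : IsNoetherianRing D := Algebra.FiniteType.isNoetherianRing k D
  haveI : IsDomain D := hφ.isDomain φ
  obtain ⟨s, hs⟩ := (IsNoetherian.noetherian I : I.FG)
  -- the valuation
  let ρ : D →+* φ.range.toSubring := φ.rangeRestrict.toRingHom
  have hρ : Function.Surjective ρ := φ.rangeRestrict_surjective
  have hρinj : Function.Injective ρ := fun x y h => hφ (congrArg Subtype.val h)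
  have hIρ : I.map ρ ≠ ⊤ := by
    intro h
    obtain ⟨x, hx, h1⟩ := (Ideal.mem_map_iff_of_surjective ρ hρ).1 (h ▸ Submodule.mem_top : (1 : φ.range.toSubring) ∈ I.map ρ)
    rw [← map_one ρ] at h1
    exact hI ((Ideal.eq_top_iff_one I).2 (hρinj h1 ▸ hx))
  obtain ⟨V, hDV, hIV⟩ := Ideal.image_subset_nonunits_valuationSubring (I.map ρ) hIρ
  have hφV : ∀ d, φ d ∈ V := fun d => hDV (ρ d).2
  have hIval : ∀ d ∈ I, φ d ∈ V.nonunits := fun d hd => hIV ⟨ρ d, Ideal.mem_map_of_mem _ hd, rfl⟩
  -- a generator of largest value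
  have hsne : (s.filter fun d => φ d ≠ 0).Nonempty := by
    by_contra hempty
    refine hI0 ?_
    rw [← hs, Ideal.span_eq_bot]
    intro x hx
    by_contra hx0
    exact hempty ⟨x, Finset.mem_filter.2 ⟨hx, fun h => hx0 (hφ (h.trans (map_zero φ).symm))⟩⟩
  obtain ⟨i₀, hi₀, hmax⟩ := Finset.exists_max_image (s.filter fun d => φ d ≠ 0) (fun d => V.valuation (φ d)) hsne
  rw [Finset.mem_filter] at hi₀
  have hi₀I : i₀ ∈ I := hs ▸ Ideal.subset_span hi₀.1
  have hdivV : ∀ d ∈ s, φ d / φ i₀ ∈ V := by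
    intro d hd
    by_cases h0 : φ d = 0
    · rw [h0, zero_div]; exact zero_mem _
    rw [← V.valuation_le_one_iff, map_div₀]
    exact (div_le_one₀ (zero_lt_iff.2 ((map_ne_zero V.valuation).2 hi₀.2))).2 (hmax d (Finset.mem_filter.2 ⟨hd, h0⟩))
  obtain ⟨t, ht⟩ := (inferInstance : Algebra.FiniteType k D).out
  let pick : K → K := fun a => if a ∈ V then a else a⁻¹
  have hpick : ∀ a, pick a ∈ V := by
    intro a
    simp only [pick]
    split_ifs with h
    · exact h
    · exact (V.mem_or_inv_mem a).resolve_left h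
  let T₀ : Finset K := t.image φ ∪ s.image (fun d => φ d / φ i₀) ∪ S.image pick
  let A₀ : Subalgebra k K := Algebra.adjoin k (T₀ : Set K)
  have hA₀V : ∀ x ∈ A₀, x ∈ V := by
    intro x hx
    induction hx using Algebra.adjoin_induction with
    | mem y hy =>
      simp only [T₀, Finset.coe_union, Finset.coe_image, Set.mem_union, Set.mem_image, Finset.mem_coe] at hy
      rcases hy with (⟨d, -, rfl⟩ | ⟨d, hd, rfl⟩) | ⟨c, -, rfl⟩
      · exact hφV d
      · exact hdivV d hd
      · exact hpick c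
    | algebraMap r => rw [← φ.commutes r]; exact hφV _
    | add a b _ _ ha hb => exact add_mem ha hb
    | mul a b _ _ ha hb => exact mul_mem ha hb
  have hφA : ∀ d, φ d ∈ A₀ := by
    intro d
    have hd : d ∈ Algebra.adjoin k (t : Set D) := ht.symm ▸ Algebra.mem_top
    induction hd using Algebra.adjoin_induction with
    | mem y hy =>
      refine Algebra.subset_adjoin ?_
      simp only [T₀, Finset.coe_union, Finset.coe_image]
      exact Or.inl (Or.inl ⟨y, hy, rfl⟩)
    | algebraMap r => rw [φ.commutes]; exact A₀.algebraMap_mem r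
    | add a b _ _ ha hb => rw [map_add]; exact add_mem ha hb
    | mul a b _ _ ha hb => rw [map_mul]; exact mul_mem ha hb
  haveI : Algebra.FiniteType k A₀ := Subalgebra.fg_iff_finiteType A₀ |>.1 ⟨T₀, rfl⟩
  have hclos : ∀ x : K, x ∈ Subfield.closure (A₀ : Set K) := by
    intro x
    refine Subfield.closure_le.2 ?_ (hS x)
    rintro y (⟨r, rfl⟩ | hy)
    · exact Subfield.subset_closure (A₀.algebraMap_mem r)
    · have hp : pick y ∈ A₀ := Algebra.subset_adjoin (by
        simp only [T₀, Finset.coe_union, Finset.coe_image]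
        exact Or.inr ⟨y, hy, rfl⟩)
      simp only [pick] at hp
      split_ifs at hp with h
      · exact Subfield.subset_closure hp
      · simpa using inv_mem (Subfield.subset_closure hp : y⁻¹ ∈ Subfield.closure (A₀ : Set K))
  have hfrac : ∀ (A : Subalgebra k K), A₀ ≤ A → IsFractionRing A K := by
    intro A hA
    haveI : FaithfulSMul A K := (faithfulSMul_iff_algebraMap_injective A K).2 Subtype.val_injective
    refine IsFractionRing.of_field A K fun x => ?_
    obtain ⟨a, ha, b, hb, rfl⟩ := Subfield.mem_closure_iff.1 (hclos x)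
    have hcl : Subring.closure (A₀ : Set K) ≤ A.toSubring := Subring.closure_le.2 fun y hy => hA hy
    exact ⟨⟨a, hcl ha⟩, ⟨b, hcl hb⟩, rfl⟩
  haveI : IsFractionRing A₀ K := hfrac A₀ le_rfl
  haveI : Module.Finite A₀ (integralClosure A₀ K) := Japanese.finite_integralClosure (k := k) A₀ K K
  let A₁ : Subalgebra k K := (integralClosure A₀ K).restrictScalars k
  have hA₀₁ : A₀ ≤ A₁ := fun x hx => (integralClosure A₀ K).algebraMap_mem ⟨x, hx⟩
  haveI : Algebra.FiniteType k A₁ := Algebra.FiniteType.trans (R := k) (S := A₀) (A := integralClosure A₀ K)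
    inferInstance inferInstance
  haveI : IsFractionRing A₁ K := hfrac A₁ hA₀₁
  have hA₁V : ∀ x ∈ A₁, x ∈ V := by
    intro x hx
    have hint : IsIntegral A₀ x := hx
    let incl : A₀ →+* V := (A₀.val : A₀ →+* K).codRestrict V.toSubring fun a => hA₀V _ a.2
    have h2 : IsIntegral V x := hint.map_of_comp_eq incl (RingHom.id K) (RingHom.ext fun a => rfl)
    obtain ⟨v, hv⟩ := (IsIntegrallyClosed.isIntegral_iff).1 h2
    rw [← hv]
    exact v.2
  haveI : IsNoetherianRing A₁ := Algebra.FiniteType.isNoetherianRing k A₁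
  haveI : IsIntegrallyClosed A₁ := (isIntegrallyClosed_iff K).2 fun {x} hx => by
    refine ⟨⟨x, ?_⟩, rfl⟩
    haveI : Algebra.IsIntegral A₀ (integralClosure A₀ K) := IsIntegralClosure.isIntegral_algebra A₀ K
    exact isIntegral_trans (R := A₀) (A := integralClosure A₀ K) x hx
  -- the boundary generator and a divisor through it
  let a : A₁ := ⟨φ i₀, hA₀₁ (hφA i₀)⟩
  have ha0 : a ≠ 0 := fun h => hi₀.2 (congrArg Subtype.val h)
  have hanu : ¬ IsUnit a := by
    intro h
    obtain ⟨b, hb⟩ := h.exists_right_inv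
    have hbV : (b : K) ∈ V := hA₁V _ b.2
    have hb' : φ i₀ * (b : K) = 1 := congrArg Subtype.val hb
    obtain ⟨hmem, hlt⟩ := ValuationSubring.mem_nonunits_iff_exists_mem_maximalIdeal.1 (hIval i₀ hi₀I)
    exact (IsLocalRing.mem_maximalIdeal _).1 hlt (IsUnit.of_mul_eq_one (a := (⟨φ i₀, hmem⟩ : V)) ⟨b, hbV⟩ (Subtype.ext hb'))
  obtain ⟨q, hq⟩ := Ideal.nonempty_minimalPrimes (I := Ideal.span {a})
    (fun h => hanu (Ideal.span_singleton_eq_top.1 h))
  haveI hqp : q.IsPrime := hq.1.1
  have haq : a ∈ q := hq.1.2 (Ideal.mem_span_singleton_self a)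
  have hq0 : q ≠ ⊥ := fun h => ha0 (by rwa [h, Ideal.mem_bot] at haq)
  have hq1 : q.height = 1 := by
    refine le_antisymm (Ideal.height_le_one_of_isPrincipal_of_mem_minimalPrimes _ q hq) ?_
    rw [Order.one_le_iff_pos, pos_iff_ne_zero]
    exact fun h => hq0 (Ideal.height_eq_zero_iff_eq_bot.1 h)
  -- the local ring is principal
  let R₁ := Localization.AtPrime q
  haveI : IsNoetherianRing R₁ := IsLocalization.isNoetherianRing q.primeCompl R₁ inferInstance
  haveI : IsIntegrallyClosed R₁ := isIntegrallyClosed_of_isLocalization R₁ q.primeCompl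
    (Ideal.primeCompl_le_nonZeroDivisors q)
  have hdim₁ : ringKrullDim R₁ = 1 := by
    rw [IsLocalization.AtPrime.ringKrullDim_eq_height q R₁, hq1]; rfl
  have hpr : (IsLocalRing.maximalIdeal R₁).IsPrincipal := by
    refine (((tfae_of_isNoetherianRing_of_isLocalRing_of_isDomain R₁).out 3 4 : IsIntegrallyClosed R₁ ∧
      (∀ P : Ideal R₁, P ≠ ⊥ → P.IsPrime → P = IsLocalRing.maximalIdeal R₁) ↔
      (IsLocalRing.maximalIdeal R₁).IsPrincipal)).1 ⟨inferInstance, fun P hP hP' => ?_⟩
    haveI := hP'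
    by_contra hne'
    have hlt : P < IsLocalRing.maximalIdeal R₁ := lt_of_le_of_ne (IsLocalRing.le_maximalIdeal hP'.ne_top) hne'
    have h1 := Ideal.height_strict_mono_of_isPrime hlt
    have h2 : (IsLocalRing.maximalIdeal R₁).height = 1 := by
      have := IsLocalRing.maximalIdeal_height_eq_ringKrullDim (R := R₁)
      rw [hdim₁] at this
      exact_mod_cast this
    rw [h2, Order.lt_one_iff, Ideal.height_eq_zero_iff_eq_bot] at h1
    exact hP h1
  obtain ⟨π₀, hπ₀⟩ := hpr
  obtain ⟨⟨π₁, s₁⟩, hπ₁⟩ := IsLocalization.surj q.primeCompl π₀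
  have hgen : ∀ y ∈ q, ∃ u : A₁, u ∉ q ∧ π₁ ∣ u * y := by
    intro y hy
    have h1 : algebraMap A₁ R₁ y ∈ IsLocalRing.maximalIdeal R₁ := by
      rw [← Localization.AtPrime.map_eq_maximalIdeal]; exact Ideal.mem_map_of_mem _ hy
    rw [hπ₀, Ideal.submodule_span_eq, Ideal.mem_span_singleton'] at h1
    obtain ⟨c, hc⟩ := h1
    obtain ⟨⟨c₀, w⟩, hct⟩ := IsLocalization.surj q.primeCompl c
    refine ⟨s₁ * w, fun h => (Ideal.IsPrime.mem_or_mem ‹_› h).elim s₁.2 w.2, ⟨c₀, ?_⟩⟩
    apply IsLocalization.injective R₁ (Ideal.primeCompl_le_nonZeroDivisors q)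
    simp only [map_mul]
    linear_combination (algebraMap A₁ R₁ (w : A₁) * algebraMap A₁ R₁ (s₁ : A₁)) * (-hc) + (c * algebraMap A₁ R₁ (w : A₁)) * hπ₁ + (algebraMap A₁ R₁ π₁) * hct
  have hπ₁q : π₁ ∈ q := by
    have h1 : algebraMap A₁ R₁ π₁ ∈ IsLocalRing.maximalIdeal R₁ := by
      rw [← hπ₁, hπ₀]
      exact Ideal.mul_mem_right _ _ (Submodule.mem_span_singleton_self π₀)
    exact (IsLocalization.AtPrime.to_map_mem_maximal_iff R₁ q π₁).1 h1
  obtain ⟨Sq, hSq⟩ := (IsNoetherian.noetherian q : q.FG)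
  choose σ hσ hdvd using fun y : Sq => hgen y.1 (hSq ▸ Ideal.subset_span y.2)
  let h : A₁ := ∏ y, σ y
  have hh : h ∉ q := fun hm => by
    obtain ⟨y, -, hy⟩ := (Ideal.IsPrime.prod_mem_iff (p := q)).1 hm
    exact hσ y hy
  have hall : ∀ y ∈ q, π₁ ∣ h * y := by
    intro y hy
    rw [← hSq] at hy
    induction hy using Submodule.span_induction with
    | mem x hx => exact (hdvd ⟨x, hx⟩).trans (mul_dvd_mul_right (Finset.dvd_prod_of_mem σ (Finset.mem_univ _)) x)
    | zero => rw [mul_zero]; exact dvd_zero _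
    | add x y _ _ hx hy => rw [mul_add]; exact dvd_add hx hy
    | smul c x _ hx => rw [smul_eq_mul, mul_left_comm]; exact dvd_mul_of_dvd_right hx c
  have hh0 : h ≠ 0 := fun e => hh (e ▸ zero_mem q)
  -- the model
  let Sh : Submonoid A₁ := Submonoid.powers h
  have hSh : Sh ≤ nonZeroDivisors A₁ := powers_le_nonZeroDivisors_of_noZeroDivisors hh0
  let B := Localization.subalgebra.ofField K Sh hSh
  haveI : IsLocalization.Away h B := inferInstanceAs (IsLocalization Sh B)
  haveI : Algebra.FiniteType A₁ B := IsLocalization.finiteType_of_monoid_fg Sh B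
  haveI : Algebra.FiniteType k B := Algebra.FiniteType.trans (R := k) (S := A₁) (A := B) inferInstance inferInstance
  have hdisj : Disjoint (Sh : Set A₁) (q : Set A₁) := by
    rw [Set.disjoint_left]
    rintro _ ⟨i, rfl⟩ hi
    exact hh (hqp.mem_of_pow_mem i hi)
  have hmap : q.map (algebraMap A₁ B) = Ideal.span {algebraMap A₁ B π₁} := by
    refine le_antisymm (Ideal.map_le_iff_le_comap.2 fun y hy => ?_)
      ((Ideal.span_singleton_le_iff_mem _).2 (Ideal.mem_map_of_mem _ hπ₁q))
    rw [Ideal.mem_comap, Ideal.mem_span_singleton]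
    have h1 := map_dvd (algebraMap A₁ B) (hall y hy)
    rw [map_mul] at h1
    exact (IsLocalization.map_units B (⟨h, 1, pow_one h⟩ : Sh)).dvd_mul_left.1 h1
  have hπB0 : algebraMap A₁ B π₁ ≠ 0 := by
    intro e
    refine hq0 ((Ideal.map_eq_bot_iff_of_injective (IsLocalization.injective B hSh)).1 ?_)
    rw [hmap, e, Ideal.span_singleton_eq_bot]
  have hprime : Prime (algebraMap A₁ B π₁) := by
    rw [← Ideal.span_singleton_prime hπB0, ← hmap]
    exact IsLocalization.isPrime_of_isPrime_disjoint Sh B q hqp hdisj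
  let ψ₁ : D →ₐ[k] A₁ := φ.codRestrict A₁ fun d => hA₀₁ (hφA d)
  refine ⟨B, inferInstance, inferInstance, inferInstance, inferInstance, inferInstance, inferInstance, inferInstance,
    algebraMap A₁ B π₁, hprime, (IsScalarTower.toAlgHom k A₁ B).comp ψ₁, fun d => rfl, fun d hd => ?_⟩
  show algebraMap A₁ B π₁ ∣ algebraMap A₁ B (ψ₁ d)
  rw [← Ideal.mem_span_singleton, ← hmap]
  refine Ideal.mem_map_of_mem _ ?_
  rw [← hs] at hd
  induction hd using Submodule.span_induction with
  | mem x hx =>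
    have e : ψ₁ x = ⟨φ x / φ i₀, hA₀₁ (Algebra.subset_adjoin (by
        simp only [T₀, Finset.coe_union, Finset.coe_image]
        exact Or.inl (Or.inr ⟨x, hx, rfl⟩)))⟩ * a :=
      Subtype.ext (div_mul_cancel₀ _ hi₀.2).symm
    rw [e]
    exact Ideal.mul_mem_left _ _ haq
  | zero => rw [map_zero]; exact zero_mem _
  | add x y _ _ hx hy => rw [map_add]; exact add_mem hx hy
  | smul c x _ hx => rw [smul_eq_mul, map_mul]; exact Ideal.mul_mem_left _ _ hx

variable {X : Over (Spec (CommRingCat.of k))}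

/-- An integral separated variety which is not proper has a divisor of a model without a centre on it. -/
theorem exists_boundary [IsIntegral X.left] [LocallyOfFiniteType X.hom] [QuasiCompact X.hom] [IsSeparated X.hom]
    (hX : ¬ IsProper X.hom) :
    ∃ (C : Type u) (_ : CommRing C) (_ : Algebra k C) (_ : IsDomain C) (_ : Algebra.FiniteType k C)
      (jC : pt k C ⟶ X) (_ : IsOpenImmersion jC.left)
      (B : Type u) (_ : CommRing B) (_ : Algebra k B) (_ : IsDomain B) (_ : Algebra B (FractionRing C))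
      (_ : IsScalarTower k B (FractionRing C)) (_ : IsFractionRing B (FractionRing C))
      (_ : Algebra.FiniteType k B) (πB : B), Prime πB ∧
      ¬ ∃ (O : Subalgebra k (FractionRing C)) (w : pt k O ⟶ X),
        (∀ x : FractionRing C, x ∈ O ↔ InO πB x) ∧ ptMap O.val ≫ w = gen (FractionRing C) jC := by
  classical
  obtain ⟨n, X', π, j, hj, hjb, hπ, hπs, U, hUd, hiso⟩ := Groth.Agent.S0025.result X.hom
  haveI := hj; haveI := hπ; haveI := hπs; haveI := hiso
  let S := Spec (CommRingCat.of k)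
  let Q := CohB1.ProjSpaceOver n S
  let qb : Q ⟶ S := CohB1.ProjSpaceOver.toBase n S
  haveI : IsProper qb := GrothLib.Chow.isProper_toBase n S
  haveI : Q.IsSeparated := ⟨by
    rw [show terminal.from Q = qb ≫ terminal.from S from Subsingleton.elim _ _]
    infer_instance⟩
  obtain ⟨x₀, hx₀⟩ := hUd.nonempty
  obtain ⟨_, ⟨U₀, hU₀, rfl⟩, hxU₀, hU₀U⟩ := X.left.isBasis_affineOpens.exists_subset_of_mem_open hx₀ U.2
  have hU₀ : IsAffineOpen U₀ := hU₀
  haveI : Nonempty U₀ := ⟨⟨x₀, hxU₀⟩⟩
  let C := Γ(X.left, U₀)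
  letI : Algebra k C := sectAlg X.hom U₀
  haveI : IsDomain C := inferInstance
  haveI : Algebra.FiniteType k C := finiteType_sectAlg X.hom hU₀
  let K := FractionRing C
  let jC : pt k C ⟶ X := affPt X.hom hU₀
  haveI : IsOpenImmersion jC.left := inferInstanceAs (IsOpenImmersion hU₀.fromSpec)
  -- lift the chart to the Chow model
  let l₀ : Spec (CommRingCat.of C) ⟶ U.toScheme := IsOpenImmersion.lift U.ι hU₀.fromSpec (fun x hx => by
    have hx' : x ∈ (U₀ : Set X.left) := hU₀.range_fromSpec.subset hx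
    exact U.range_ι.superset (hU₀U hx'))
  let s₀ : Spec (CommRingCat.of C) ⟶ X' := l₀ ≫ inv (π ∣_ U) ≫ (π ⁻¹ᵁ U).ι
  have hs₀ : s₀ ≫ π = hU₀.fromSpec := by
    simp only [s₀, Category.assoc]
    rw [← morphismRestrict_ι, IsIso.inv_hom_id_assoc, IsOpenImmersion.lift_fac]
  haveI : IsOpenImmersion l₀ := by
    haveI : IsOpenImmersion (l₀ ≫ U.ι) := by rw [IsOpenImmersion.lift_fac]; infer_instance
    exact IsOpenImmersion.of_comp l₀ U.ι
  haveI : IsImmersion (s₀ ≫ j) := inferInstance
  let g₀ : Spec (CommRingCat.of C) ⟶ Q := s₀ ≫ j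
  have hg₀ : g₀ ≫ qb = hU₀.fromSpec ≫ X.hom := by
    simp only [g₀, qb, Category.assoc]
    rw [hjb, ← Category.assoc, hs₀]
  haveI : QuasiCompact (g₀ ≫ qb) := by rw [hg₀]; infer_instance
  haveI : QuasiCompact g₀ := QuasiCompact.of_comp g₀ qb
  haveI : IsIntegral (Spec (CommRingCat.of C)) := inferInstance
  haveI hXb : IsIntegral g₀.image := GrothLib.CycP1.isIntegral_image g₀
  let e := g₀.toImage
  let ib := g₀.imageι
  have he : e ≫ ib = g₀ := Scheme.Hom.toImage_imageι g₀
  let Xb : Over S := Over.mk (ib ≫ qb)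
  -- the good part
  let P : Set g₀.image := ib ⁻¹' Set.range j
  have hPe : Set.range e ⊆ P := by
    rintro _ ⟨c, rfl⟩
    refine ⟨s₀ c, ?_⟩
    show j (s₀ c) = ib (e c)
    rw [← Scheme.Hom.comp_apply, ← Scheme.Hom.comp_apply, he]
  have hPopen : IsOpen P := by
    obtain ⟨O, Z, hO, hZ, hOZ⟩ := (Scheme.Hom.isLocallyClosed_range j).preimage ib.continuous
    have hZu : Z = Set.univ := by
      refine Set.eq_univ_of_univ_subset ?_
      rw [← e.denseRange.closure_range]
      exact closure_minimal ((hPe.trans hOZ.le).trans Set.inter_subset_right) hZ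
    show IsOpen (ib ⁻¹' Set.range j)
    rw [hOZ, hZu, Set.inter_univ]
    exact hO
  have hPne : P ≠ Set.univ := by
    intro hPu
    refine hX ?_
    let Z := pullback j ib
    let fz : Z ⟶ X' := pullback.fst j ib
    let sz : Z ⟶ g₀.image := pullback.snd j ib
    haveI : IsImmersion sz := inferInstance
    haveI : IsClosedImmersion sz := by
      refine IsClosedImmersion.of_isPreimmersion sz ?_
      rw [Scheme.Pullback.range_snd, show ib ⁻¹' Set.range j = P from rfl, hPu]
      exact isClosed_univ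
    have hsur : Surjective (fz ≫ π) := by
      constructor
      haveI : IsClosedImmersion fz := inferInstance
      have hcl : IsClosed (Set.range (fz ≫ π)) := (fz ≫ π).isClosedMap.isClosed_range
      have hsub : (U₀ : Set X.left) ⊆ Set.range (fz ≫ π) := by
        intro x hx
        rw [← hU₀.range_fromSpec] at hx
        obtain ⟨c, rfl⟩ := hx
        refine ⟨pullback.lift s₀ e he.symm c, ?_⟩
        rw [← Scheme.Hom.comp_apply, ← Category.assoc, pullback.lift_fst, hs₀]
        rfl
      rw [← Set.range_eq_univ]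
      refine Set.eq_univ_of_univ_subset ?_
      rw [← (U₀.2.dense ⟨x₀, hxU₀⟩).closure_eq]
      exact closure_minimal hsub hcl
    haveI := hsur
    have hcomp : (fz ≫ π) ≫ X.hom = sz ≫ ib ≫ qb := by
      rw [Category.assoc, ← hjb, ← Category.assoc, pullback.condition, Category.assoc]
    haveI : UniversallyClosed ((fz ≫ π) ≫ X.hom) := by rw [hcomp]; infer_instance
    haveI : UniversallyClosed X.hom := UniversallyClosed.of_comp_surjective (fz ≫ π) X.hom
    exact { }
  obtain ⟨y, hy⟩ := (Set.ne_univ_iff_exists_notMem P).1 hPne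
  obtain ⟨_, ⟨D₀, hD₀, rfl⟩, hyD, -⟩ := g₀.image.isBasis_affineOpens.exists_subset_of_mem_open (Set.mem_univ y) isOpen_univ
  have hD₀ : IsAffineOpen D₀ := hD₀
  haveI : Nonempty D₀ := ⟨⟨y, hyD⟩⟩
  let D := Γ(g₀.image, D₀)
  letI : Algebra k D := sectAlg (ib ≫ qb) D₀
  haveI : LocallyOfFiniteType (ib ≫ qb) := inferInstance
  haveI : Algebra.FiniteType k D := finiteType_sectAlg (ib ≫ qb) hD₀
  let jD : pt k D ⟶ Xb := affPt (ib ≫ qb) hD₀
  haveI : IsOpenImmersion jD.left := inferInstanceAs (IsOpenImmersion hD₀.fromSpec)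
  let I : Ideal D := (hD₀.primeIdealOf ⟨y, hyD⟩).asIdeal
  have hyI : hD₀.fromSpec (hD₀.primeIdealOf ⟨y, hyD⟩) = y := hD₀.fromSpec_primeIdealOf ⟨y, hyD⟩
  -- the generic point of the image
  let gK : pt k K ⟶ Xb := Over.homMk (Spec.map (CommRingCat.ofHom (algebraMap C K)) ≫ e) (by
    show (Spec.map (CommRingCat.ofHom (algebraMap C K)) ≫ e) ≫ ib ≫ qb = _
    rw [Category.assoc, ← Category.assoc e, he, hg₀, fromSpec_comp_eq hU₀, ← Spec.map_comp]
    show Spec.map _ = Spec.map (CommRingCat.ofHom (algebraMap k K))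
    congr 1)
  have hgKmem : ∀ (W : g₀.image.Opens), (W : Set g₀.image).Nonempty → ∀ z, gK.left z ∈ W := by
    intro W hW z
    obtain ⟨c, hc⟩ := e.denseRange.exists_mem_open W.2 hW
    show e ((Spec.map (CommRingCat.ofHom (algebraMap C K))) z) ∈ W
    have hb : ((Spec.map (CommRingCat.ofHom (algebraMap C K))) z : PrimeSpectrum C) = ⟨⊥, Ideal.isPrime_bot⟩ := by
      refine PrimeSpectrum.ext ?_
      have hs : (z : PrimeSpectrum K).asIdeal = ⊥ := (Ideal.eq_bot_or_top _).resolve_right (Ideal.IsPrime.ne_top inferInstance)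
      show Ideal.comap (algebraMap C K) (z : PrimeSpectrum K).asIdeal = ⊥
      rw [hs, ← RingHom.ker_eq_comap_bot, RingHom.injective_iff_ker_eq_bot _ |>.1 (IsFractionRing.injective C K)]
    rw [hb]
    have hsp : (⟨⊥, Ideal.isPrime_bot⟩ : PrimeSpectrum C) ⤳ c := by
      rw [← PrimeSpectrum.le_iff_specializes]
      exact bot_le (a := (c : PrimeSpectrum C).asIdeal)
    exact hsp.mem_open (W.2.preimage e.continuous) hc
  obtain ⟨φ, hφ⟩ := exists_alg jD gK (by
    rintro _ ⟨z, rfl⟩
    rw [show Set.range jD.left = (D₀ : Set g₀.image) from hD₀.range_fromSpec]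
    exact hgKmem D₀ ⟨y, hyD⟩ z)
  have hφleft : Spec.map (CommRingCat.ofHom φ.toRingHom) ≫ hD₀.fromSpec =
      Spec.map (CommRingCat.ofHom (algebraMap C K)) ≫ e := congrArg (fun t => t.left) hφ
  have hφinj : Function.Injective φ := by
    rw [injective_iff_map_eq_zero]
    intro d hd
    by_contra hd0
    have hb0 : g₀.image.basicOpen d ≠ ⊥ := fun h => hd0 ((basicOpen_eq_bot_iff d).1 h)
    have hne : (g₀.image.basicOpen d : Set g₀.image).Nonempty :=
      Set.nonempty_iff_ne_empty.2 fun h => hb0 (TopologicalSpace.Opens.ext h)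
    have h1 := hgKmem _ hne (IsLocalRing.closedPoint K)
    rw [← hφ] at h1
    have h2 : (Spec.map (CommRingCat.ofHom φ.toRingHom)) (IsLocalRing.closedPoint K) ∈ hD₀.fromSpec ⁻¹ᵁ g₀.image.basicOpen d := h1
    rw [hD₀.fromSpec_preimage_basicOpen] at h2
    refine (PrimeSpectrum.mem_basicOpen d _).1 h2 ?_
    show φ d ∈ IsLocalRing.maximalIdeal K
    rw [hd]; exact zero_mem _
  have hI0 : I ≠ ⊥ := by
    intro hI
    refine hy ?_
    have hz : (Spec.map (CommRingCat.ofHom φ.toRingHom)) (IsLocalRing.closedPoint K) = hD₀.primeIdealOf ⟨y, hyD⟩ := by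
      refine PrimeSpectrum.ext ?_
      show Ideal.comap φ.toRingHom (IsLocalRing.maximalIdeal K) = I
      rw [hI, IsLocalRing.isField_iff_maximalIdeal_eq.1 (Field.toIsField K), ← RingHom.ker_eq_comap_bot,
        (RingHom.injective_iff_ker_eq_bot φ.toRingHom).1 hφinj]
    rw [← hyI, ← hz]
    let zK : Spec (CommRingCat.of K) := IsLocalRing.closedPoint K
    refine Set.mem_of_eq_of_mem ?_ (hPe ⟨(Spec.map (CommRingCat.ofHom (algebraMap C K))) zK, rfl⟩)
    exact congrArg (fun t : Spec (CommRingCat.of K) ⟶ g₀.image => t zK) hφleft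
  obtain ⟨tC, htC⟩ := (inferInstance : Algebra.FiniteType k C).out
  have hgenK : ∀ x : K, x ∈ Subfield.closure (((algebraMap k K).range : Set K) ∪ ((tC.image (algebraMap C K) : Finset K) : Set K)) := by
    intro x
    obtain ⟨a, b, -, rfl⟩ := IsFractionRing.div_surjective C x
    have hC : ∀ c : C, algebraMap C K c ∈ Subfield.closure (((algebraMap k K).range : Set K) ∪ ((tC.image (algebraMap C K) : Finset K) : Set K)) := by
      intro c
      have hc : c ∈ Algebra.adjoin k (tC : Set C) := htC.symm ▸ Algebra.mem_top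
      induction hc using Algebra.adjoin_induction with
      | mem z hz => exact Subfield.subset_closure (Or.inr (Finset.mem_image_of_mem _ hz))
      | algebraMap r =>
        rw [← IsScalarTower.algebraMap_apply k C K]
        exact Subfield.subset_closure (Or.inl ⟨r, rfl⟩)
      | add s t _ _ hs ht => rw [map_add]; exact add_mem hs ht
      | mul s t _ _ hs ht => rw [map_mul]; exact mul_mem hs ht
    exact div_mem (hC a) (hC b)
  obtain ⟨B, _, _, _, _, _, _, _, πB, hπB, ψ, hψ, hψI⟩ :=
    exists_model φ hφinj I (hD₀.primeIdealOf ⟨y, hyD⟩).isPrime.ne_top hI0 (tC.image (algebraMap C K)) hgenK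
  haveI : IsNoetherianRing B := Algebra.FiniteType.isNoetherianRing k B
  refine ⟨C, inferInstance, inferInstance, inferInstance, inferInstance, jC, inferInstance, B, inferInstance,
    inferInstance, inferInstance, inferInstance, inferInstance, inferInstance, inferInstance, πB, hπB, ?_⟩
  rintro ⟨O, w, hO, hw⟩
  -- O is a valuation ring of the function field
  let VO : ValuationSubring K :=
    { O.toSubring with
      mem_or_inv_mem' := fun x => (inO_or_inv hπB x).imp (hO x).2 (hO x⁻¹).2 }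
  haveI : ValuationRing O := inferInstanceAs (ValuationRing VO)
  haveI : IsFractionRing O K := inferInstanceAs (IsFractionRing VO K)
  let rO := Spec.map (CommRingCat.ofHom (algebraMap O K))
  have hwl : rO ≫ w.left = Spec.map (CommRingCat.ofHom (algebraMap C K)) ≫ hU₀.fromSpec :=
    congrArg (fun t => t.left) hw
  have hex : ValuativeCriterion.Existence π := by
    have h : UniversallyClosed π := inferInstance
    rw [UniversallyClosed.eq_valuativeCriterion] at h
    exact h.1
  obtain ⟨⟨⟨ℓ, hℓ₁, hℓ₂⟩⟩⟩ := hex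
    { R := O, K := K, i₁ := Spec.map (CommRingCat.ofHom (algebraMap C K)) ≫ s₀, i₂ := w.left,
      commSq := ⟨by rw [Category.assoc, hs₀]; exact hwl.symm⟩ }
  have hφO : ∀ d, φ d ∈ O := fun d => (hO _).2 ⟨ψ d, 1, fun h => hπB.not_unit (isUnit_of_dvd_one h), by rw [map_one, mul_one, hψ]⟩
  let φO : D →ₐ[k] O := φ.codRestrict O hφO
  let m : Spec (CommRingCat.of O) ⟶ Q := Spec.map (CommRingCat.ofHom φO.toRingHom) ≫ hD₀.fromSpec ≫ ib
  haveI : IsDominant rO := by
    refine ⟨(PrimeSpectrum.denseRange_comap_iff_ker_le_nilRadical (algebraMap O K)).2 ?_⟩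
    rw [RingHom.injective_iff_ker_eq_bot _ |>.1 (IsFractionRing.injective O K)]
    exact bot_le
  have heq : ℓ ≫ j = m := by
    refine ext_of_isDominant rO ?_
    rw [← Category.assoc, hℓ₁]
    have h1 : rO ≫ Spec.map (CommRingCat.ofHom φO.toRingHom) = Spec.map (CommRingCat.ofHom φ.toRingHom) := by
      rw [← Spec.map_comp]
      rfl
    show _ = rO ≫ Spec.map (CommRingCat.ofHom φO.toRingHom) ≫ hD₀.fromSpec ≫ ib
    rw [← Category.assoc rO, h1, ← Category.assoc (Spec.map (CommRingCat.ofHom φ.toRingHom)), hφleft,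
      Category.assoc (Spec.map (CommRingCat.ofHom (algebraMap C K))) e ib, he]
    exact Category.assoc _ _ _
  let z := IsLocalRing.closedPoint O
  have hzP : hD₀.fromSpec ((Spec.map (CommRingCat.ofHom φO.toRingHom)) z) ∈ P := by
    refine ⟨ℓ z, ?_⟩
    rw [← Scheme.Hom.comp_apply, heq]
    rfl
  have hIz : I ≤ ((Spec.map (CommRingCat.ofHom φO.toRingHom)) z : PrimeSpectrum D).asIdeal := by
    intro d hd
    show φO d ∈ IsLocalRing.maximalIdeal O
    rw [IsLocalRing.mem_maximalIdeal]
    intro hu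
    obtain ⟨v, hv⟩ := hu.exists_right_inv
    obtain ⟨c, b, hb, hcb⟩ := (hO _).1 v.2
    obtain ⟨r, hr⟩ := hψI d hd
    refine hb ⟨r * c, IsFractionRing.injective B K ?_⟩
    have hv' : φ d * (v : K) = 1 := congrArg Subtype.val hv
    rw [map_mul, map_mul, ← hcb, ← mul_assoc, ← map_mul, ← hr, hψ, ← mul_assoc, hv', one_mul]
  refine hy ?_
  have hsp : hD₀.primeIdealOf ⟨y, hyD⟩ ⤳ (Spec.map (CommRingCat.ofHom φO.toRingHom)) z :=
    (PrimeSpectrum.le_iff_specializes _ _).1 hIz
  rw [← hyI]
  exact (hsp.map hD₀.fromSpec.continuous).mem_open hPopen hzP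

/-- A group variety which is not proper contains a positive dimensional smooth affine subgroup. -/
theorem exists_affine_of_not_isProper [IsAlgClosed k] [GrpObj X] [IsIntegral X.left] [LocallyOfFiniteType X.hom]
    [QuasiCompact X.hom] (hX : ¬ IsProper X.hom) :
    ∃ (H : Over (Spec (CommRingCat.of k))) (_ : GrpObj H) (j : H ⟶ X), IsMonHom j ∧ IsClosedImmersion j.left ∧
      Smooth H.hom ∧ IsAffine H.left ∧ 0 < topologicalKrullDim ↥H.left := by
  haveI : IsSeparated X.hom := GrpSchField.isSeparated X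
  obtain ⟨C, _, _, _, _, jC, hjC, B, _, _, _, _, _, _, _, πB, hπB, hB⟩ := exists_boundary hX
  haveI := hjC
  haveI : Mono jC := Over.mono_of_mono_left jC
  exact exists_affine_of_boundary jC hπB hB

end GrothLib.Chev24
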