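import Groth.Agent.Lib.Chev24.NormContain
import Groth.Agent.Lib.Chev24.SepDesc

/-!
# Normalizers and central subgroups, for subgroups whose fibres contain Cartan subgroups
-/

set_option autoImplicit false
set_option linter.all false
set_option backward.isDefEq.respectTransparency false
set_option maxHeartbeats 1600000
set_option synthInstance.maxHeartbeats 200000

universe u

open CategoryTheory CategoryTheory.Limits MonoidalCategory CartesianMonoidalCategory MonObj GrpObj AlgebraicGeometry

noncomputable section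

namespace GrothLib.Chev24

attribute [-instance] Hom.commGroup Hom.commMonoid CommGrpObj.toIsCommMonObj

variable {S : Scheme.{u}} {G H : Over S} [GrpObj G] [GrpObj H]

/-- A monomorphism which is an open immersion on a geometric fibre is one on the fibre. -/
theorem isOpenImmersion_fibre_of_geom {A B : Over S} (v : A ⟶ B) [Mono v.left] (s : S)
    (h : IsOpenImmersion ((Over.pullback (Red.geomPt s)).map v).left) :
    IsOpenImmersion (pullback.snd v.left (B.hom.fiberι s)) := by
  let σ : Spec (CommRingCat.of (AlgebraicClosure (S.residueField s))) ⟶ Spec (S.residueField s) :=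
    Spec.map (CommRingCat.ofHom (algebraMap (S.residueField s) (AlgebraicClosure (S.residueField s))))
  let v' := (Over.pullback (S.fromSpecResidueField s)).map v
  have h' : IsOpenImmersion ((Over.pullback σ).map v').left := by
    let e := Over.pullbackComp σ (S.fromSpecResidueField s)
    haveI : IsIso (e.hom.app A).left := inferInstanceAs (IsIso ((Over.forget _).map (e.hom.app A)))
    haveI : IsIso (e.hom.app B).left := inferInstanceAs (IsIso ((Over.forget _).map (e.hom.app B)))
    have hn := congrArg (fun f => f.left) (e.hom.naturality v)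
    simp only [Over.comp_left] at hn
    have h1 : IsOpenImmersion ((e.hom.app A).left ≫ ((Over.pullback σ).map v').left) := by
      refine hn ▸ ?_
      haveI := h
      infer_instance
    exact (MorphismProperty.cancel_left_of_respectsIso (P := @IsOpenImmersion) (e.hom.app A).left _).1 h1
  haveI := h'
  haveI : Surjective σ := Flag27.surjective_to_field σ
  haveI : Flat σ := Flag27.flat_to_field σ
  have hQ : (@Surjective ⊓ @Flat ⊓ @QuasiCompact : MorphismProperty Scheme.{u})
      (pullback.fst (Red.bc (S.fromSpecResidueField s) B).hom σ) :=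
    ⟨⟨MorphismProperty.pullback_fst _ _ ‹_›, MorphismProperty.pullback_fst _ _ ‹_›⟩,
      MorphismProperty.pullback_fst _ _ (inferInstance : QuasiCompact σ)⟩
  haveI : Etale v'.left :=
    MorphismProperty.of_isPullback_of_descendsAlong (P := @Etale)
      (Q := @Surjective ⊓ @Flat ⊓ @QuasiCompact) (Flag27.isPullback_map σ v').flip hQ
      (inferInstance : Etale ((Over.pullback σ).map v').left)
  haveI : Mono v'.left := MorphismProperty.of_isPullback (P := MorphismProperty.monomorphisms Scheme.{u})
    (Flag27.isPullback_map (S.fromSpecResidueField s) v) ‹Mono v.left›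
  have hv' : IsOpenImmersion v'.left := IsOpenImmersion.of_flat_of_mono v'.left
  have e := Flag27.isPullback_map (S.fromSpecResidueField s) v
  exact (MorphismProperty.arrow_mk_iso_iff @IsOpenImmersion
    (Arrow.isoMk e.isoPullback (Iso.refl _) (by
      simp only [Arrow.mk_hom, Iso.refl_hom]
      exact (IsPullback.isoPullback_hom_snd e).trans (Category.comp_id _).symm))).1 hv'

variable [Smooth G.hom] [Smooth H.hom] (i : H ⟶ G) [IsMonHom i] [Mono i]
  (hHconn : ∀ s : S, ConnectedSpace ↥(Red.geomFibre s H).left)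
  (hHC : ∀ s : S, ∃ (C' : Over (Spec (CommRingCat.of (AlgebraicClosure (S.residueField s))))) (_ : GrpObj C')
    (c' : C' ⟶ Red.geomFibre s H), SGA3x.IsCartanOver _ (c' ≫ (Over.pullback (Red.geomPt s)).map i))

include hHconn hHC

/-- A subgroup whose fibres contain Cartan subgroups is open in its normalizer, which is closed. -/
theorem exists_normalizer_open :
    ∃ (N : Over S) (_ : GrpObj N) (n : N ⟶ G) (f : H ⟶ N), Red.IsNormalizerOf i n ∧ IsClosedImmersion n.left ∧
      LocallyOfFinitePresentation n.left ∧ f ≫ n = i ∧ IsOpenImmersion f.left := by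
  haveI : GeometricallyConnected H.hom := DescentHom.geometricallyConnected_of_geomPt H.hom hHconn
  haveI : GeometricallyIrreducible H.hom := SecLocus.geometricallyIrreducible_of_smooth H.hom
  haveI : LocallyOfFiniteType G.hom := inferInstance
  obtain ⟨N, _, n, hN, hnc, hnfp⟩ := GrothLib.SecLocus.exists_normalizer i
  haveI := hnc; haveI := hnfp
  obtain ⟨hnm, hnmono, hniff⟩ := id hN
  haveI := hnm; haveI := hnmono
  obtain ⟨v, hv⟩ := (hniff H i).2 fun X' x h =>
    ⟨⟨x * h * x⁻¹, by simp only [MonObj.mul_comp, GrpObj.inv_comp]⟩,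
      ⟨x⁻¹ * h * x, by simp only [MonObj.mul_comp, GrpObj.inv_comp]⟩⟩
  refine ⟨N, inferInstance, n, v, hN, hnc, hnfp, hv, ?_⟩
  haveI : Mono (v ≫ n) := by rw [hv]; infer_instance
  haveI : Mono v := mono_of_mono v n
  haveI : Mono v.left := inferInstance
  haveI : LocallyOfFiniteType N.hom := by rw [← Over.w n]; infer_instance
  haveI : LocallyOfFinitePresentation (v.left ≫ N.hom) := by rw [Over.w v]; infer_instance
  haveI : Flat (v.left ≫ N.hom) := by rw [Over.w v]; infer_instance
  refine FibreFlat.isOpenImmersion_of_fibrewise v.left N.hom fun s => isOpenImmersion_fibre_of_geom v s ?_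
  obtain ⟨C', _, c', hm, hmono, T, _, iT, hT, hC⟩ := hHC s
  obtain ⟨hTm, hTmono, hTt, -⟩ := hT
  haveI := hTm; haveI := hTmono
  haveI : Smooth (Red.bc (Red.geomPt s) H).hom := Flag27.smooth_bc (Red.geomPt s) H
  haveI : LocallyOfFiniteType (Red.bc (Red.geomPt s) N).hom :=
    MorphismProperty.pullback_snd (P := @LocallyOfFiniteType) _ _ ‹_›
  haveI : Mono ((Over.pullback (Red.geomPt s)).map i) := mono_bc (Red.geomPt s) i
  obtain ⟨z, hz⟩ := (hC.2.2 T iT).2 fun X x h => by
    rw [← MonObj.mul_comp, ← MonObj.mul_comp, DiagGrp.mul_comm_of_charts (DiagGrp.hasChartsFpqc_of_isTorus hTt)]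
  haveI : IsMonHom ((z ≫ c') ≫ (Over.pullback (Red.geomPt s)).map i) := by
    rw [Category.assoc, hz]; infer_instance
  haveI : IsMonHom (z ≫ c') := DiagGrp.isMonHom_of_comp_mono (z ≫ c') ((Over.pullback (Red.geomPt s)).map i)
  refine isOpenImmersion_normalizer_field ((Over.pullback (Red.geomPt s)).map i)
    ((Over.pullback (Red.geomPt s)).map n) (Flag27.isNormalizerOf_bc _ hN) hTt (z ≫ c') c' ?_
    ((Over.pullback (Red.geomPt s)).map v) (by rw [← Functor.map_comp, hv])
  rw [Category.assoc, hz]
  exact hC

/-- Central subgroups lie in subgroups whose fibres contain Cartan subgroups. -/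
theorem exists_factor_central {Z : Over S} (z : Z ⟶ G)
    (hc : ∀ (X : Over S) (x : X ⟶ Z) (g : X ⟶ G), (x ≫ z) * g = g * (x ≫ z)) : ∃ f : Z ⟶ H, f ≫ i = z := by
  obtain ⟨N, _, n, v, hN, -, -, hv, hvo⟩ := exists_normalizer_open i hHconn hHC
  haveI := hN.1; haveI := hN.2.1; haveI := hvo
  obtain ⟨y, hy⟩ := (hN.2.2 Z z).2 fun X x h =>
    ⟨⟨h, by rw [hc X x (h ≫ i)]; group⟩, ⟨h, by rw [_root_.mul_assoc, ← hc X x (h ≫ i)]; group⟩⟩
  have hr : Set.range y.left ⊆ Set.range v.left := by
    rintro _ ⟨p, rfl⟩
    let q := Red.geomPt (Z.hom p)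
    obtain ⟨p', hp'⟩ : p ∈ Set.range (pullback.fst Z.hom q) := by
      rw [Scheme.Pullback.range_fst]
      exact ⟨IsLocalRing.closedPoint _, by
        show ((Spec.map _) ≫ S.fromSpecResidueField _) _ = _
        rw [Scheme.Hom.comp_apply, Scheme.fromSpecResidueField_apply]⟩
    obtain ⟨C', _, c', hm, hmono, T, _, iT, hT, hC⟩ := hHC (Z.hom p)
    obtain ⟨w, hw⟩ := (hC.2.2 _ ((Over.pullback q).map z)).2 fun X x a => by
      obtain ⟨x₀, rfl⟩ := (DiagGrp.bcPoint q Z X).surjective x
      obtain ⟨b, hb⟩ := (DiagGrp.bcPointMulEquiv q G X).surjective (a ≫ iT)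
      rw [← DiagGrp.bcPoint_comp_right]
      show DiagGrp.bcPointMulEquiv q G X (x₀ ≫ z) * (a ≫ iT) = (a ≫ iT) * DiagGrp.bcPointMulEquiv q G X (x₀ ≫ z)
      rw [← hb, ← map_mul, ← map_mul, hc _ x₀ b]
    haveI : Mono ((Over.pullback q).map n) := mono_bc q n
    have e : (Over.pullback q).map y = (w ≫ c') ≫ (Over.pullback q).map v := by
      rw [← cancel_mono ((Over.pullback q).map n), ← Functor.map_comp, hy, Category.assoc, ← Functor.map_comp, hv,
        Category.assoc, hw]
    refine ⟨pullback.fst H.hom q ((w ≫ c').left p'), ?_⟩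
    refine Eq.trans ?_ (congrArg y.left hp')
    suffices hfe : (w ≫ c').left ≫ pullback.fst H.hom q ≫ v.left = pullback.fst Z.hom q ≫ y.left from
      congrArg (fun f : pullback Z.hom q ⟶ N.left => f p') hfe
    have h1 : ((Over.pullback q).map y).left ≫ pullback.fst N.hom q = pullback.fst Z.hom q ≫ y.left :=
      pullback.lift_fst _ _ _
    have h2 : ((Over.pullback q).map v).left ≫ pullback.fst N.hom q = pullback.fst H.hom q ≫ v.left :=
      pullback.lift_fst _ _ _
    rw [← h1, e, ← h2]
    simp only [Over.comp_left, Category.assoc]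
  have hl := IsOpenImmersion.lift_fac v.left y.left hr
  refine ⟨Over.homMk (IsOpenImmersion.lift v.left y.left hr) ?_, ?_⟩
  · rw [← Over.w v, reassoc_of% hl, Over.w y]
  · rw [← hy, ← hv]
    apply Over.OverMorphism.ext
    simp only [Over.comp_left, Over.homMk_left]
    rw [reassoc_of% hl]

end GrothLib.Chev24
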