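import Groth.Agent.Lib.Chev24.CartanTorusField
import Groth.Agent.Lib.Chev24.NormContainS
import Groth.Agent.Lib.MultDef14.CocycleLift

/-!
# Maximal tori of subgroups whose fibres contain Cartan subgroups
-/

set_option autoImplicit false
set_option linter.all false
set_option backward.isDefEq.respectTransparency false
set_option maxHeartbeats 1600000
set_option synthInstance.maxHeartbeats 200000

universe u

open CategoryTheory CategoryTheory.Limits MonoidalCategory CartesianMonoidalCategory MonObj GrpObj AlgebraicGeometry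

noncomputable section

namespace GrothLib.Chev24

open GrothLib.MultDef14

attribute [-instance] Hom.commGroup Hom.commMonoid CommGrpObj.toIsCommMonObj

variable {S : Scheme.{u}}

/-- Containment after conjugation can be checked after viewing points over the base change. -/
theorem conjInto_of_bc {S' : Scheme.{u}} {f : S' ⟶ S} {H₁ H₂ G : Over S} [GrpObj G] {i₁ : H₁ ⟶ G} {i₂ : H₂ ⟶ G}
    {T : Over S'} (g : (Over.map f).obj T ⟶ G)
    (hg : ConjInto ((Over.pullback f).map i₁) ((Over.pullback f).map i₂) (DiagGrp.bcPoint f G T g)) :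
    ConjInto i₁ i₂ g := by
  intro X p h
  let Y : Over S' := Over.mk (p.left ≫ T.hom)
  have hw : X.hom = p.left ≫ T.hom ≫ f := (Over.w p).symm
  let e : (Over.map f).obj Y ⟶ X := Over.homMk (𝟙 X.left) (by simp [Y, hw])
  let e' : X ⟶ (Over.map f).obj Y := Over.homMk (𝟙 X.left) (by simp [Y, hw])
  have he : e' ≫ e = 𝟙 X := Over.OverMorphism.ext (Category.id_comp _)
  let p' : Y ⟶ T := Over.homMk p.left rfl
  have hp : (Over.map f).map p' ≫ g = e ≫ p ≫ g := by
    have : (Over.map f).map p' = e ≫ p := Over.OverMorphism.ext (Category.id_comp _).symm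
    rw [this, Category.assoc]
  have key : p' ≫ DiagGrp.bcPoint f G T g = DiagGrp.bcPointMulEquiv f G Y (e ≫ p ≫ g) := by
    rw [← hp]
    exact (DiagGrp.bcPoint_comp f p' g).symm
  obtain ⟨b, hb⟩ := hg Y p' (DiagGrp.bcPoint f H₁ Y (e ≫ h))
  obtain ⟨b₀, rfl⟩ := (DiagGrp.bcPoint f H₂ Y).surjective b
  rw [key, ← DiagGrp.bcPoint_comp_right, ← DiagGrp.bcPoint_comp_right] at hb
  change DiagGrp.bcPointMulEquiv f G Y _ * DiagGrp.bcPointMulEquiv f G Y _ * (DiagGrp.bcPointMulEquiv f G Y _)⁻¹ =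
    DiagGrp.bcPointMulEquiv f G Y _ at hb
  rw [← map_inv, ← map_mul, ← map_mul] at hb
  have h' := congrArg (e' ≫ ·) ((DiagGrp.bcPointMulEquiv f G Y).injective hb)
  simp only [MonObj.comp_mul, GrpObj.comp_inv, Category.assoc, reassoc_of% he] at h'
  exact ⟨e' ≫ b₀, by rw [Category.assoc]; exact h'⟩

/-- A torus conjugate into a subgroup is conjugate into each of its open subgroups. -/
theorem conjInto_open {G N H T : Over S} [GrpObj G] [GrpObj N] [GrpObj H] [GrpObj T] [LocallyOfFiniteType G.hom]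
    (i : H ⟶ G) [IsMonHom i] (n : N ⟶ G) [IsMonHom n] [Mono n] [IsClosedImmersion n.left] (v : H ⟶ N)
    [IsOpenImmersion v.left] (hv : v ≫ n = i) (hT : Red.IsTorus T) (iT : T ⟶ G) [IsMonHom iT] {X : Over S}
    (g : X ⟶ G) (hg : ConjInto iT n g) : ConjInto iT i g := by
  haveI : IsMonHom (v ≫ n) := by rw [hv]; infer_instance
  haveI : IsMonHom v := DiagGrp.isMonHom_of_comp_mono v n
  haveI : LocallyOfFiniteType N.hom := by rw [← Over.w n]; infer_instance
  intro Y p h
  obtain ⟨h', e⟩ := hg Y p h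
  suffices hr : Set.range h'.left.base ⊆ Set.range v.left.base by
    refine ⟨Over.homMk (IsOpenImmersion.lift v.left h'.left hr)
      (by rw [← Over.w v, ← Category.assoc, IsOpenImmersion.lift_fac]; exact Over.w h'), ?_⟩
    rw [e, ← hv, ← Category.assoc]
    exact congrArg (· ≫ n) (Over.OverMorphism.ext (IsOpenImmersion.lift_fac v.left h'.left hr).symm)
  rintro _ ⟨y, rfl⟩
  let q : Spec (CommRingCat.of (AlgebraicClosure (Y.left.residueField y))) ⟶ S := Red.geomPt y ≫ Y.hom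
  let P := (Over.map q).obj (𝟙_ (Over (Spec (CommRingCat.of (AlgebraicClosure (Y.left.residueField y))))))
  let pt : P ⟶ Y := Over.homMk (Red.geomPt y) (by simp [P, q])
  let gL : 𝟙_ _ ⟶ Red.bc q G := DiagGrp.bcPoint q G _ (pt ≫ p ≫ g)
  let Z := (Over.map q).obj (Red.bc q T)
  let y₀ : Z ⟶ T := (DiagGrp.bcPoint q T _).symm (𝟙 _)
  obtain ⟨w, hw⟩ := hg Z ((Over.map q).map (toUnit (Red.bc q T)) ≫ pt ≫ p) y₀
  let φ : Red.bc q T ⟶ Red.bc q N := DiagGrp.bcPoint q N _ w
  have hφ : φ ≫ (Over.pullback q).map n =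
      (toUnit _ ≫ gL) * (Over.pullback q).map iT * (toUnit _ ≫ gL)⁻¹ := by
    show DiagGrp.bcPoint q N _ w ≫ _ = _
    rw [← DiagGrp.bcPoint_comp_right, ← hw]
    show DiagGrp.bcPointMulEquiv q G _ _ = _
    rw [map_mul, map_mul, map_inv]
    show DiagGrp.bcPoint q G _ _ * DiagGrp.bcPoint q G _ (y₀ ≫ iT) * (DiagGrp.bcPoint q G _ _)⁻¹ = _
    rw [Category.assoc, Category.assoc, DiagGrp.bcPoint_comp, DiagGrp.bcPoint_comp_right q y₀ iT, Equiv.apply_symm_apply,
      Category.id_comp]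
  haveI : Mono ((Over.pullback q).map n) := mono_bc q n
  haveI : IsMonHom ((toUnit (Red.bc q T) ≫ gL) * (Over.pullback q).map iT * (toUnit _ ≫ gL)⁻¹) :=
    Flag27.isMonHom_conjBy gL ((Over.pullback q).map iT)
  haveI : IsMonHom (φ ≫ (Over.pullback q).map n) := by rw [hφ]; infer_instance
  haveI : IsMonHom φ := DiagGrp.isMonHom_of_comp_mono φ ((Over.pullback q).map n)
  haveI : LocallyOfFiniteType (Red.bc q N).hom :=
    MorphismProperty.pullback_snd (P := @LocallyOfFiniteType) _ _ ‹_›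
  haveI : IsOpenImmersion ((Over.pullback q).map v).left := Flag27.property_map q v ‹_›
  haveI : IsAffine (Red.bc q T).left := (OneMotFaith14.isAffine_of_isTorus (MaxTorBC14.isTorus_bc q hT)).1
  haveI : LocallyOfFiniteType (Red.bc q T).hom := (OneMotFaith14.isAffine_of_isTorus (MaxTorBC14.isTorus_bc q hT)).2
  haveI : ConnectedSpace (Red.bc q T).left :=
    (Rigidity.smooth_connected_of_isTorus _ (MaxTorBC14.isTorus_bc q hT)).2
  obtain ⟨φ', hφ'⟩ := exists_factor_open_subgroup ((Over.pullback q).map v) φ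
  let tL : 𝟙_ _ ⟶ Red.bc q T := DiagGrp.bcPoint q T _ (pt ≫ h)
  obtain ⟨z, hz⟩ := (DiagGrp.bcPoint q H _).surjective (tL ≫ φ')
  have key : z ≫ v = pt ≫ h' := by
    refine (DiagGrp.bcPoint q N _).injective ?_
    rw [DiagGrp.bcPoint_comp_right, hz, Category.assoc, hφ', ← cancel_mono ((Over.pullback q).map n),
      Category.assoc, hφ, ← DiagGrp.bcPoint_comp_right, Category.assoc, ← e]
    show _ = DiagGrp.bcPointMulEquiv q G _ _
    rw [MonObj.comp_mul, MonObj.comp_mul, GrpObj.comp_inv, MonObj.comp_mul, MonObj.comp_mul, GrpObj.comp_inv,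
      map_mul, map_mul, map_inv, ← Category.assoc, toUnit_unique (tL ≫ toUnit _) (𝟙 _), Category.id_comp,
      ← DiagGrp.bcPoint_comp_right, Category.assoc]
    rfl
  have hy : pt.left (IsLocalRing.closedPoint _) = y := Scheme.fromSpecResidueField_apply y _
  refine ⟨z.left (IsLocalRing.closedPoint _), ?_⟩
  have h1 : (z ≫ v).left (IsLocalRing.closedPoint _) = (pt ≫ h').left (IsLocalRing.closedPoint _) := by rw [key]
  simp only [Over.comp_left, Scheme.Hom.comp_apply] at h1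
  rw [h1, hy]

/-- The square-zero step for conjugating into a smooth subgroup. -/
theorem exists_conjInto_step_smooth {Q : ∀ (M : Type), AddCommGroup M → Prop} {H₁ H₂ G : Over S} [GrpObj H₁]
    [GrpObj H₂] [GrpObj G] (hH₁ : DiagGrp.HasChartsFpqc Q H₁) (hH₂ : MoreMor.IsFormallySmoothHom H₂.hom)
    (i₁ : H₁ ⟶ G) [IsMonHom i₁] (i₂ : H₂ ⟶ G) [IsMonHom i₂] [Mono i₂] {R : Type u} [CommRing R]
    (q : Spec (CommRingCat.of R) ⟶ S) (J : Ideal R)
    (hJ : J ^ 2 = ⊥) (g₁ : aff q R ⟶ G) (h0 : ConjInto i₁ i₂ (affMap q (Ideal.Quotient.mkₐ R J) ≫ g₁)) :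
    ∃ g : aff q R ⟶ G, affMap q (Ideal.Quotient.mkₐ R J) ≫ g = affMap q (Ideal.Quotient.mkₐ R J) ≫ g₁ ∧
      ConjInto i₁ i₂ g := by
  obtain ⟨A, _, _, h, hu⟩ := exists_isUniv q H₁ (EssFree.isAffineHom_of_charts hH₁)
  obtain ⟨a₀, ha₀⟩ := h0 _ (affMap q (quotA (A := A) J)) (affMap q (Ideal.Quotient.mkₐ R (J.map (algebraMap R A))) ≫ h)
  have hq : (quotA (A := A) J).comp (Ideal.Quotient.mkₐ R J) = Algebra.ofId R (A ⧸ (J.map (algebraMap R A))) :=
    AlgHom.ext fun _ => rfl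
  rw [affMap_comp_assoc, hq] at ha₀
  have hhom : IsHomPt (affMap q (Ideal.Quotient.mkₐ R (J.map (algebraMap R A))) ≫ h) a₀ := fun B _ _ f k l e => by
    have := isHomPt_conj i₁ h (Ideal.Quotient.mkₐ R (J.map (algebraMap R A))) g₁ B f k l e
    rw [ha₀] at this
    rw [← cancel_mono i₂, MonObj.mul_comp, Category.assoc, Category.assoc, Category.assoc]
    exact this
  obtain ⟨a, hared, ha⟩ := exists_homPt_nil hH₁ hH₂ hu J ⟨2, hJ⟩ a₀ hhom
  have hconj : IsHomPt h ((affMap q (Algebra.ofId R A) ≫ g₁) * (h ≫ i₁) * (affMap q (Algebra.ofId R A) ≫ g₁)⁻¹) := by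
    have := isHomPt_conj i₁ h (AlgHom.id R A) g₁
    rwa [affMap_id, Category.id_comp] at this
  have hai : IsHomPt h (a ≫ i₂) := fun B _ _ f k l e => by
    rw [← Category.assoc, ha B f k l e, MonObj.mul_comp, Category.assoc, Category.assoc]
  obtain ⟨x, hx, hxa⟩ := exists_conjPt_step hH₁ hu J hJ _ _ hconj hai (by
    have e₀ : (Ideal.Quotient.mkₐ R (J.map (algebraMap R A))).comp (Algebra.ofId R A) = Algebra.ofId R (A ⧸ (J.map (algebraMap R A))) :=
      AlgHom.ext fun _ => rfl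
    rw [← Category.assoc, hared, ← ha₀]
    simp only [MonObj.comp_mul, GrpObj.comp_inv, affMap_comp_assoc, Category.assoc, e₀])
  refine ⟨x * g₁, by rw [MonObj.comp_mul, hx, _root_.one_mul], conjInto_of_univ i₁ i₂ hu (a := a) ?_⟩
  rw [hxa, MonObj.comp_mul]
  group

/-- The transporter of a torus into a smooth subgroup open in a closed one is smooth. -/
theorem exists_transporter_smooth {G N H T : Over S} [GrpObj G] [GrpObj N] [GrpObj H] [GrpObj T] [Smooth G.hom]
    [Smooth H.hom] (i : H ⟶ G) [IsMonHom i] [Mono i] (n : N ⟶ G) [IsMonHom n] [Mono n] [IsClosedImmersion n.left]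
    [LocallyOfFinitePresentation n.left] (v : H ⟶ N) [IsOpenImmersion v.left] (hv : v ≫ n = i)
    (hT : Red.IsTorus T) (iT : T ⟶ G) [IsMonHom iT] :
    ∃ (Y : Over S) (j : Y ⟶ G), Smooth Y.hom ∧ ∀ (X : Over S) (g : X ⟶ G), (∃ t : X ⟶ Y, t ≫ j = g) ↔ ConjInto iT i g := by
  have hH₁ := UnipFix19.isMultTypeFT_of_isTorus hT
  haveI := EssFree.isAffineHom_multTypeFT T hH₁
  have hNfp : LocallyOfFinitePresentation N.hom := by rw [← Over.w n]; infer_instance
  obtain ⟨Y, j, hj, hfp, hY⟩ := EssFree.exists_closed_transporter G T N inferInstance iT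
    (EssFree.of_multTypeFT T hH₁) n hNfp
  have hY' : ∀ (X : Over S) (g : X ⟶ G), (∃ t : X ⟶ Y, t ≫ j = g) ↔ ConjInto iT i g := fun X g => by
    rw [hY]
    refine ⟨fun h => conjInto_open i n v hv hT iT g h, fun h X' x a => ?_⟩
    obtain ⟨b, hb⟩ := h X' x a
    exact ⟨b ≫ v, by rw [hb, Category.assoc, hv]⟩
  haveI := hj
  have hjm : Mono j := (Over.forget S).mono_of_mono_map (show Mono j.left from inferInstance)
  refine ⟨Y, j, smooth_of_lift Y hfp fun q J hJ t₀ => ?_, hY'⟩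
  obtain ⟨g₁, hg₁⟩ := exists_lift_point ((Groth.Agent.S1488.result G.hom).mp ‹_›).2 q J hJ (t₀ ≫ j)
  obtain ⟨g, hg, hgc⟩ := exists_conjInto_step_smooth (DiagGrp.hasChartsFpqc_of_isMultTypeFT hH₁)
    ((Groth.Agent.S1488.result H.hom).mp ‹_›).2 iT i q J hJ g₁ (by rw [hg₁]; exact (hY' _ _).mp ⟨t₀, rfl⟩)
  obtain ⟨t, rfl⟩ := (hY' _ g).mpr hgc
  exact ⟨t, by rw [← cancel_mono j, Category.assoc, hg, hg₁]⟩

end GrothLib.Chev24
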