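import Groth.Agent.Lib.Chev24.ToriConjEt
import Groth.Agent.Lib.Flag27.CentralizerReductive
import Groth.Agent.Lib.Flag27.CentBC
import Groth.Agent.Lib.MaxTorBC14.Geom

/-!
# Subtori, open subgroups, and maximality of tori, over algebraically closed fields
-/

set_option autoImplicit false
set_option linter.all false
set_option backward.isDefEq.respectTransparency false
set_option maxHeartbeats 1600000
set_option synthInstance.maxHeartbeats 200000

universe u

open CategoryTheory CategoryTheory.Limits MonoidalCategory CartesianMonoidalCategory MonObj GrpObj AlgebraicGeometry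

noncomputable section

namespace GrothLib.Chev24

attribute [-instance] Hom.commGroup Hom.commMonoid CommGrpObj.toIsCommMonObj

variable {k : Type u} [Field k] [IsAlgClosed k]

/-- Every subtorus of a smooth algebraic group lies in a maximal torus. -/
theorem exists_maxTorus_above_general {G R : Over (Spec (CommRingCat.of k))} [GrpObj G] [GrpObj R] [Smooth G.hom]
    [QuasiCompact G.hom] (j : R ⟶ G) [IsMonHom j] [Mono j] (hR : Red.IsTorus R) :
    ∃ (M : Over (Spec (CommRingCat.of k))) (_ : GrpObj M) (iM : M ⟶ G) (e : R ⟶ M),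
      AGF.IsMaxTorus iM ∧ e ≫ iM = j := by
  haveI : IsSeparated G.hom := GrpSchField.isSeparated G
  obtain ⟨G₀, _, j₀, hj, hjc, hs, hc, -, hlift⟩ := exists_openRedNeutral G
  haveI := hj; haveI := hjc; haveI := hs; haveI := hc
  haveI : Mono j₀ := Over.mono_of_mono_left j₀
  haveI : QuasiCompact G₀.hom := by rw [← Over.w j₀]; infer_instance
  obtain ⟨N, _, a, ha, hac, hNs, hNc, hNa, hNn, hmax⟩ := exists_affPart (G := G₀)
  haveI := ha; haveI := hac; haveI := hNs; haveI := hNc; haveI := hNa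
  haveI : Mono a := Over.mono_of_mono_left a
  have hl : ∀ (R' : Over (Spec (CommRingCat.of k))) [GrpObj R'] (j' : R' ⟶ G) [IsMonHom j'] [Mono j'],
      Red.IsTorus R' → ∃ r : R' ⟶ N, r ≫ a ≫ j₀ = j' ∧ IsMonHom r ∧ Mono r := by
    intro R' _ j' _ _ hR'
    obtain ⟨hc', ha', hs', hk'⟩ := torus_facts' hR' j'
    haveI := hc'; haveI := ha'; haveI := hs'; haveI := hk'
    obtain ⟨t, ht⟩ := hlift R' j' (RedSmooth.isReduced_of_smooth R'.hom) inferInstance
      ⟨η[R'].left (IsLocalRing.closedPoint k), by rw [← IsMonHom.one_hom j']; rfl⟩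
    haveI : IsMonHom (t ≫ j₀) := by rw [ht]; infer_instance
    haveI : Mono (t ≫ j₀) := by rw [ht]; infer_instance
    haveI : IsMonHom t := DiagGrp.isMonHom_of_comp_mono t j₀
    haveI : Mono t := mono_of_mono t j₀
    obtain ⟨hc'', -, -, -⟩ := torus_facts' hR' t
    haveI := hc''
    obtain ⟨r, hr⟩ := factor_affine a hmax hNn R' t
    haveI : IsMonHom (r ≫ a) := by rw [hr]; infer_instance
    haveI : Mono (r ≫ a) := by rw [hr]; infer_instance
    exact ⟨r, by rw [reassoc_of% hr, ht], DiagGrp.isMonHom_of_comp_mono r a, mono_of_mono r a⟩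
  obtain ⟨r, hr, hrm, hrmono⟩ := hl R j hR
  haveI := hrm; haveI := hrmono
  obtain ⟨M, _, iM, e, ⟨hMm, hMmono, hMt, hMmax⟩, he⟩ := Flag27.exists_maxTorus_above r hR
  haveI := hMm; haveI := hMmono
  haveI : Mono (a ≫ j₀) := mono_comp a j₀
  haveI : Mono (iM ≫ a ≫ j₀) := mono_comp iM (a ≫ j₀)
  refine ⟨M, inferInstance, iM ≫ a ≫ j₀, e, ⟨inferInstance, inferInstance, hMt,
    fun T' _ u _ _ f hT' hf => ?_⟩, by rw [reassoc_of% he, hr]⟩
  obtain ⟨u', hu', hu'm, hu'mono⟩ := hl T' u hT'
  haveI := hu'm; haveI := hu'mono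
  exact hMmax T' u' f hT' (by rw [← cancel_mono (a ≫ j₀), Category.assoc, hu', hf])

omit [IsAlgClosed k] in
/-- A connected group lands in every open subgroup. -/
theorem exists_factor_open_subgroup {H N T : Over (Spec (CommRingCat.of k))} [GrpObj H] [GrpObj N] [GrpObj T]
    [LocallyOfFiniteType N.hom] [ConnectedSpace T.left] (v : H ⟶ N) [IsMonHom v] [IsOpenImmersion v.left]
    (φ : T ⟶ N) [IsMonHom φ] : ∃ φ' : T ⟶ H, φ' ≫ v = φ := by
  have hcl : IsClosed (Set.range v.left.base) :=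
    GrothLib.GrpSchField.isClosed_range_of_isLocallyClosed v v.left.isOpenEmbedding.isOpen_range.isLocallyClosed
  have hclopen : IsClopen (φ.left.base ⁻¹' Set.range v.left.base) :=
    ⟨hcl.preimage φ.left.continuous, v.left.isOpenEmbedding.isOpen_range.preimage φ.left.continuous⟩
  have hne : (φ.left.base ⁻¹' Set.range v.left.base).Nonempty := by
    let z : ↥(𝟙_ (Over (Spec (CommRingCat.of k)))).left := IsLocalRing.closedPoint k
    refine ⟨η[T].left.base z, η[H].left.base z, ?_⟩
    show (η[H].left ≫ v.left).base z = (η[T].left ≫ φ.left).base z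
    rw [← Over.comp_left, ← Over.comp_left]
    erw [IsMonHom.one_hom, IsMonHom.one_hom]
  have hr : Set.range φ.left.base ⊆ Set.range v.left.base := by
    rintro _ ⟨y, rfl⟩
    exact (Set.eq_univ_iff_forall.1 (IsClopen.eq_univ hclopen hne)) y
  refine ⟨Over.homMk (IsOpenImmersion.lift v.left φ.left hr) ?_, Over.OverMorphism.ext (IsOpenImmersion.lift_fac _ _ _)⟩
  rw [← Over.w v, ← Category.assoc, IsOpenImmersion.lift_fac]
  exact Over.w φ

/-- Maximality is unaffected by base change along an isomorphism. -/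
theorem isMaxTorus_bc_iso {L : Type u} [Field L] (q : Spec (CommRingCat.of L) ⟶ Spec (CommRingCat.of k)) [IsIso q]
    {G T : Over (Spec (CommRingCat.of k))} [GrpObj G] [GrpObj T] {i : T ⟶ G} (h : AGF.IsMaxTorus i) :
    AGF.IsMaxTorus ((Over.pullback q).map i) := by
  obtain ⟨hm, hmono, hT, -⟩ := id h
  haveI := hm; haveI := hmono
  refine ⟨inferInstance, mono_bc q i, MaxTorBC14.isTorus_bc q hT, fun T' _ j _ _ f hT' hf => ?_⟩
  let R := Red.bc (inv q) T'
  let eG := (Flag27.bcBackIso q).app (Grp.mk G)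
  let eT := (Flag27.bcBackIso q).app (Grp.mk T)
  have hnat : (Over.pullback (inv q)).map ((Over.pullback q).map i) ≫ eG.hom.hom.hom = eT.hom.hom.hom ≫ i :=
    congrArg (fun m : Grp.mk (Red.bc (inv q) (Red.bc q T)) ⟶ Grp.mk G => m.hom.hom)
      ((Flag27.bcBackIso q).hom.naturality (Grp.homMk i : Grp.mk T ⟶ Grp.mk G))
  haveI : IsMonHom eG.hom.hom.hom := eG.hom.hom.isMonHom_hom
  haveI : Mono eG.hom.hom.hom := inferInstanceAs (Mono ((Grp.forget _).mapIso eG).hom)
  haveI : (Over.pullback (inv q)).IsRightAdjoint := (Over.mapPullbackAdj _).isRightAdjoint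
  let j' : R ⟶ G := (Over.pullback (inv q)).map j ≫ eG.hom.hom.hom
  haveI : Mono j' := inferInstance
  haveI : IsMonHom j' := inferInstance
  let f' : T ⟶ R := eT.inv.hom.hom ≫ (Over.pullback (inv q)).map f
  have hf' : f' ≫ j' = i := by
    show (eT.inv.hom.hom ≫ (Over.pullback (inv q)).map f) ≫ (Over.pullback (inv q)).map j ≫ eG.hom.hom.hom = i
    rw [Category.assoc, ← Functor.map_comp_assoc, hf, hnat, ← Category.assoc]
    have : eT.inv.hom.hom ≫ eT.hom.hom.hom = 𝟙 _ := congrArg (fun m => m.hom.hom) eT.inv_hom_id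
    rw [this, Category.id_comp]
  haveI : IsIso f' := h.2.2.2 R j' f' (MaxTorBC14.isTorus_bc (inv q) hT') hf'
  haveI : IsIso eT.inv.hom.hom := inferInstanceAs (IsIso ((Grp.forget _).mapIso eT).inv)
  haveI : IsIso ((Over.pullback (inv q)).map f) := IsIso.of_isIso_comp_left eT.inv.hom.hom _
  let e : 𝟭 _ ≅ Over.pullback (inv q) ⋙ Over.pullback q :=
    Over.pullbackId.symm ≪≫ Flag27.pullbackEq (IsIso.hom_inv_id q).symm ≪≫ Over.pullbackComp q (inv q)
  exact (NatIso.isIso_map_iff e f).2 (inferInstanceAs (IsIso ((Over.pullback q).map ((Over.pullback (inv q)).map f))))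

/-- A conjugate of a maximal torus, over a bigger field, lies in a subgroup containing a Cartan subgroup. -/
theorem exists_conj_into_bc {G H C : Over (Spec (CommRingCat.of k))} [GrpObj G] [GrpObj H] [GrpObj C]
    [Smooth G.hom] [QuasiCompact G.hom] (i : H ⟶ G) (c' : C ⟶ H) (hC : SGA3x.IsCartanOver k (c' ≫ i))
    {L : Type u} [Field L] [IsAlgClosed L] (g : Spec (CommRingCat.of L) ⟶ Spec (CommRingCat.of k))
    {T : Over (Spec (CommRingCat.of L))} [GrpObj T] (iT : T ⟶ Red.bc g G) (hT : AGF.IsMaxTorus iT) :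
    ∃ (x : 𝟙_ (Over (Spec (CommRingCat.of L))) ⟶ Red.bc g G) (m : T ⟶ Red.bc g H),
      m ≫ (Over.pullback g).map i = (toUnit T ≫ x) * iT * (toUnit T ≫ x)⁻¹ := by
  obtain ⟨hcm, hcmono, R, _, iR, hR, hcen⟩ := hC
  obtain ⟨hRm, hRmono, hRt, -⟩ := hR
  haveI := hRm; haveI := hRmono; haveI := hcm; haveI := hcmono
  haveI : Smooth (Red.bc g G).hom := Flag27.smooth_bc g G
  haveI : QuasiCompact (Red.bc g G).hom := MorphismProperty.pullback_snd (P := @QuasiCompact) _ _ ‹_›
  haveI : Mono ((Over.pullback g).map iR) := mono_bc g iR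
  obtain ⟨M, _, iM, e, hM, he⟩ := exists_maxTorus_above_general ((Over.pullback g).map iR) (MaxTorBC14.isTorus_bc g hRt)
  obtain ⟨hMm, hMmono, hMt, -⟩ := id hM
  haveI := hMm; haveI := hMmono
  obtain ⟨x, φ, hφ⟩ := exists_conj_maxTori_general iT iM hT hM
  obtain ⟨z, hz⟩ := ((Flag27.isCentralizerOf_bc g hcen).2.2 M iM).2 fun X a r => by
    rw [← he, ← Category.assoc]
    exact (MonObj.mul_comp _ _ iM).symm.trans
      ((congrArg (· ≫ iM) (DiagGrp.mul_comm_of_charts (DiagGrp.hasChartsFpqc_of_isTorus hMt) X a (r ≫ e))).trans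
        (MonObj.mul_comp _ _ iM))
  refine ⟨x, φ.hom ≫ z ≫ (Over.pullback g).map c', ?_⟩
  rw [Category.assoc, Category.assoc, ← Functor.map_comp, hz, hφ]

end GrothLib.Chev24
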