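import Groth.Agent.Lib.Chev24.CartanTorus
import Groth.Agent.S3025

/-!
# Maximal tori of subgroups containing Cartan subgroups exist wherever those of the ambient group do
-/

set_option autoImplicit false
set_option linter.all false
set_option backward.isDefEq.respectTransparency false
set_option maxHeartbeats 1600000
set_option synthInstance.maxHeartbeats 200000

universe u

open CategoryTheory CategoryTheory.Limits MonoidalCategory CartesianMonoidalCategory MonObj GrpObj AlgebraicGeometry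

noncomputable section

namespace GrothLib.Chev24

open GrothLib.MultDef14

attribute [-instance] Hom.commGroup Hom.commMonoid CommGrpObj.toIsCommMonObj

variable {S : Scheme.{u}}

/-- The geometric points of an etale covering are those of the base. -/
theorem exists_geomPt_etale {S' : Scheme.{u}} (f : S' ⟶ S) [Etale f] (x : S') :
    ∃ g : Spec (CommRingCat.of (AlgebraicClosure (S'.residueField x))) ⟶
        Spec (CommRingCat.of (AlgebraicClosure (S.residueField (f.base x)))),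
      IsIso g ∧ g ≫ Red.geomPt (f.base x) = Red.geomPt x ≫ f := by
  let k := S.residueField (f.base x)
  let k' := S'.residueField x
  letI a₁ : Algebra k k' := (f.residueFieldMap x).hom.toAlgebra
  haveI : Algebra.IsSeparable k k' := inferInstance
  haveI : IsScalarTower k k' (AlgebraicClosure k') := inferInstance
  haveI : Algebra.IsAlgebraic k (AlgebraicClosure k') := Algebra.IsAlgebraic.trans k k' (AlgebraicClosure k')
  let φ : AlgebraicClosure k →ₐ[k] AlgebraicClosure k' := IsAlgClosed.lift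
  have hφi : φ.toRingHom.IsIntegral := fun y =>
    RingHom.IsIntegralElem.of_comp (f := algebraMap k (AlgebraicClosure k)) (g := φ.toRingHom)
      (by rw [show φ.toRingHom.comp (algebraMap k (AlgebraicClosure k)) = algebraMap k (AlgebraicClosure k') from
        φ.comp_algebraMap]; exact Algebra.IsIntegral.isIntegral (R := k) y)
  have hφ := IsAlgClosed.ringHom_bijective_of_isIntegral φ.toRingHom hφi
  haveI : IsIso (CommRingCat.ofHom φ.toRingHom) := (ConcreteCategory.isIso_iff_bijective _).2 hφ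
  refine ⟨Spec.map (CommRingCat.ofHom φ.toRingHom), inferInstance, ?_⟩
  show Spec.map _ ≫ Spec.map _ ≫ _ = (Spec.map _ ≫ _) ≫ f
  rw [← Spec.map_comp_assoc, Category.assoc, ← Scheme.Hom.SpecMap_residueFieldMap_fromSpecResidueField,
    ← Spec.map_comp_assoc]
  refine congrArg (fun m => Spec.map m ≫ S.fromSpecResidueField (f.base x)) ?_
  exact CommRingCat.hom_ext φ.comp_algebraMap

/-- Maximality at a point is maximality at an isomorphic point above it. -/
theorem isIso_of_max_square {S₁ : Scheme.{u}} (f : S₁ ⟶ S) {K L : Type u} [Field K] [IsAlgClosed K] [Field L]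
    (p : Spec (CommRingCat.of K) ⟶ S) (q : Spec (CommRingCat.of L) ⟶ S₁)
    (g : Spec (CommRingCat.of L) ⟶ Spec (CommRingCat.of K)) [IsIso g] (h : g ≫ p = q ≫ f)
    {G T : Over S} [GrpObj G] [GrpObj T] (i : T ⟶ G) [IsMonHom i]
    (hM : AGF.IsMaxTorus ((Over.pullback p).map i))
    {T' : Over (Spec (CommRingCat.of L))} [GrpObj T'] (hT' : Red.IsTorus T')
    (j : T' ⟶ Red.bc q (Red.bc f G)) [IsMonHom j] [Mono j] (f₀ : Red.bc q (Red.bc f T) ⟶ T')
    (hf : f₀ ≫ j = (Over.pullback q).map ((Over.pullback f).map i)) : IsIso f₀ := by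
  obtain ⟨-, -, -, hmax'⟩ := isMaxTorus_bc_iso g hM
  let eG := (MaxTorBC14.bcSquareIso f p q g h).app (Grp.mk G)
  let eT := (MaxTorBC14.bcSquareIso f p q g h).app (Grp.mk T)
  have hnat : (Over.pullback q).map ((Over.pullback f).map i) ≫ eG.hom.hom.hom =
      eT.hom.hom.hom ≫ (Over.pullback g).map ((Over.pullback p).map i) :=
    congrArg (fun m : Grp.mk (Red.bc q (Red.bc f T)) ⟶ Grp.mk (Red.bc g (Red.bc p G)) => m.hom.hom)
      ((MaxTorBC14.bcSquareIso f p q g h).hom.naturality (Grp.homMk i : Grp.mk T ⟶ Grp.mk G))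
  haveI : IsMonHom eG.hom.hom.hom := eG.hom.hom.isMonHom_hom
  haveI : Mono eG.hom.hom.hom := inferInstanceAs (Mono ((Grp.forget _).mapIso eG).hom)
  haveI : IsIso eT.inv.hom.hom := inferInstanceAs (IsIso ((Grp.forget _).mapIso eT).inv)
  have he : eT.inv.hom.hom ≫ eT.hom.hom.hom = 𝟙 (Red.bc g (Red.bc p T)) := congrArg (fun m => m.hom.hom) eT.inv_hom_id
  haveI : Mono (j ≫ eG.hom.hom.hom) := mono_comp j eG.hom.hom.hom
  haveI := hmax' T' (j ≫ eG.hom.hom.hom) (eT.inv.hom.hom ≫ f₀) hT'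
    (by rw [Category.assoc, ← Category.assoc f₀, hf, hnat, ← Category.assoc, he, Category.id_comp])
  exact IsIso.of_isIso_comp_left eT.inv.hom.hom f₀

/-- Maximal tori stay maximal after an etale base change. -/
theorem isMaximalTorus_bc_etale {S' : Scheme.{u}} (f : S' ⟶ S) [Etale f] {G T : Over S} [GrpObj G] [GrpObj T]
    {i : T ⟶ G} (hi : Red.IsMaximalTorus i) : Red.IsMaximalTorus ((Over.pullback f).map i) := by
  obtain ⟨hm, hmono, hT, hmax⟩ := hi
  haveI := hm; haveI := hmono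
  refine ⟨inferInstance, mono_bc f i, MaxTorBC14.isTorus_bc f hT, fun x T' _ j _ _ f₀ hT' hf => ?_⟩
  obtain ⟨g, hg, h⟩ := exists_geomPt_etale f x
  haveI := hg
  exact isIso_of_max_square f _ _ g h i
    ⟨inferInstance, mono_bc _ i, MaxTorBC14.isTorus_bc _ hT, hmax _⟩ hT' j f₀ hf

/-- Maximal tori go to maximal tori under isomorphisms. -/
theorem isMaximalTorus_comp_isIso {G G₁ T : Over S} [GrpObj G] [GrpObj G₁] [GrpObj T] {i : T ⟶ G}
    (hi : Red.IsMaximalTorus i) (a : G ⟶ G₁) [IsMonHom a] [IsIso a] : Red.IsMaximalTorus (i ≫ a) := by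
  obtain ⟨hm, hmono, hT, hmax⟩ := hi
  haveI := hm; haveI := hmono
  refine ⟨inferInstance, inferInstance, hT, fun s T' _ j _ _ f hT' hf => ?_⟩
  haveI : IsMonHom (inv a ≫ a) := by rw [IsIso.inv_hom_id]; infer_instance
  haveI : IsMonHom (inv a) := DiagGrp.isMonHom_of_comp_mono _ a
  haveI : Mono (j ≫ (Over.pullback (Red.geomPt s)).map (inv a)) := mono_comp j _
  exact hmax s T' (j ≫ (Over.pullback (Red.geomPt s)).map (inv a)) f hT'
    (by rw [reassoc_of% hf, ← Functor.map_comp, Category.assoc, IsIso.hom_inv_id, Category.comp_id])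

/-- A maximal torus contained in a subgroup is a maximal torus of it. -/
theorem isMaximalTorus_of_factor {G H T : Over S} [GrpObj G] [GrpObj H] [GrpObj T] (i : H ⟶ G) [IsMonHom i] [Mono i]
    {t : T ⟶ H} (hi : Red.IsMaximalTorus (t ≫ i)) : Red.IsMaximalTorus t := by
  obtain ⟨hm, hmono, hT, hmax⟩ := hi
  haveI := hm; haveI := hmono
  refine ⟨DiagGrp.isMonHom_of_comp_mono t i, mono_of_mono t i, hT, fun s T' _ j _ _ f hT' hf => ?_⟩
  haveI : Mono ((Over.pullback (Red.geomPt s)).map i) := mono_bc _ i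
  haveI : Mono (j ≫ (Over.pullback (Red.geomPt s)).map i) := mono_comp j _
  exact hmax s T' (j ≫ (Over.pullback (Red.geomPt s)).map i) f hT' (by rw [reassoc_of% hf, ← Functor.map_comp])

/-- Conjugation by a point as an automorphism of the group. -/
theorem isIso_conj {G : Over S} [GrpObj G] (x : 𝟙_ (Over S) ⟶ G) :
    IsMonHom ((toUnit G ≫ x) * 𝟙 G * (toUnit G ≫ x)⁻¹) ∧ IsIso ((toUnit G ≫ x) * 𝟙 G * (toUnit G ≫ x)⁻¹) := by
  have key : ∀ (y : 𝟙_ (Over S) ⟶ G) {Y : Over S} (a : Y ⟶ G), a ≫ ((toUnit G ≫ y) * 𝟙 G * (toUnit G ≫ y)⁻¹) =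
      (toUnit Y ≫ y) * a * (toUnit Y ≫ y)⁻¹ := fun y Y a => by
    rw [MonObj.comp_mul, MonObj.comp_mul, GrpObj.comp_inv, Category.comp_id, ← Category.assoc,
      toUnit_unique (a ≫ toUnit G) (toUnit Y)]
  refine ⟨DiagGrp.isMonHom_of_points _ fun Y a b => ?_, ⟨(toUnit G ≫ x⁻¹) * 𝟙 G * (toUnit G ≫ x⁻¹)⁻¹, ?_, ?_⟩⟩
  · rw [key, key, key]; group
  · rw [key, GrpObj.comp_inv]; group
  · rw [key, GrpObj.comp_inv]; group

/-- A conjugating point gives a conjugate subgroup after base change. -/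
theorem exists_bc_of_conjInto {S' : Scheme.{u}} {f : S' ⟶ S} {T H G X : Over S} [GrpObj G]
    {i₁ : T ⟶ G} {i₂ : H ⟶ G} {g : X ⟶ G} (hg : ConjInto i₁ i₂ g) (pt : (Over.map f).obj (𝟙_ (Over S')) ⟶ X) :
    ∃ φ : Red.bc f T ⟶ Red.bc f H, φ ≫ (Over.pullback f).map i₂ =
      (toUnit _ ≫ DiagGrp.bcPoint f G _ (pt ≫ g)) * (Over.pullback f).map i₁ *
        (toUnit _ ≫ DiagGrp.bcPoint f G _ (pt ≫ g))⁻¹ := by
  let y₀ : (Over.map f).obj (Red.bc f T) ⟶ T := (DiagGrp.bcPoint f T _).symm (𝟙 _)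
  obtain ⟨w, hw⟩ := hg _ ((Over.map f).map (toUnit (Red.bc f T)) ≫ pt) y₀
  refine ⟨DiagGrp.bcPoint f H _ w, ?_⟩
  rw [← DiagGrp.bcPoint_comp_right, ← hw]
  show DiagGrp.bcPointMulEquiv f G _ _ = _
  rw [map_mul, map_mul, map_inv]
  show DiagGrp.bcPoint f G _ _ * DiagGrp.bcPoint f G _ (y₀ ≫ i₁) * (DiagGrp.bcPoint f G _ _)⁻¹ = _
  rw [Category.assoc, DiagGrp.bcPoint_comp, DiagGrp.bcPoint_comp_right f y₀ i₁, Equiv.apply_symm_apply,
    Category.id_comp]

variable {G H : Over S} [GrpObj G] [GrpObj H] [Smooth G.hom] [Smooth H.hom] (i : H ⟶ G) [IsMonHom i] [Mono i]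

/-- The geometric points where a torus can be conjugated into a subgroup containing Cartan subgroups. -/
theorem exists_conjInto_point [QuasiCompact G.hom]
    (hHC : ∀ s : S, ∃ (C' : Over (Spec (CommRingCat.of (AlgebraicClosure (S.residueField s))))) (_ : GrpObj C')
      (c' : C' ⟶ Red.geomFibre s H), SGA3x.IsCartanOver _ (c' ≫ (Over.pullback (Red.geomPt s)).map i))
    {S' : Scheme.{u}} (f : S' ⟶ S) {T : Over S'} [GrpObj T] (iT : T ⟶ Red.bc f G) (hT : Red.IsMaximalTorus iT)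
    (s' : S') : ∃ g : (Over.map (Red.geomPt s')).obj (𝟙_ _) ⟶ Red.bc f G,
      ConjInto iT ((Over.pullback f).map i) g := by
  obtain ⟨hTm, hTmono, hTt, hTmax⟩ := hT
  haveI := hTm; haveI := hTmono
  let q := Red.geomPt s'
  let p := Red.geomPt (f.base s')
  obtain ⟨g, hg⟩ := MaxTorBC14.exists_geomPt_comp f s'
  obtain ⟨C', _, c', hC⟩ := hHC (f.base s')
  haveI : Smooth (Red.bc p G).hom := Flag27.smooth_bc p G
  haveI : QuasiCompact (Red.bc p G).hom := MorphismProperty.pullback_snd (P := @QuasiCompact) _ _ ‹_›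
  let eG := (MaxTorBC14.bcSquareIso f p q g hg).app (Grp.mk G)
  let eH := (MaxTorBC14.bcSquareIso f p q g hg).app (Grp.mk H)
  have hnat : (Over.pullback q).map ((Over.pullback f).map i) ≫ eG.hom.hom.hom =
      eH.hom.hom.hom ≫ (Over.pullback g).map ((Over.pullback p).map i) :=
    congrArg (fun m : Grp.mk (Red.bc q (Red.bc f H)) ⟶ Grp.mk (Red.bc g (Red.bc p G)) => m.hom.hom)
      ((MaxTorBC14.bcSquareIso f p q g hg).hom.naturality (Grp.homMk i : Grp.mk H ⟶ Grp.mk G))
  haveI : IsMonHom eG.hom.hom.hom := eG.hom.hom.isMonHom_hom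
  haveI : IsMonHom eG.inv.hom.hom := eG.inv.hom.isMonHom_hom
  haveI : IsIso eG.hom.hom.hom := inferInstanceAs (IsIso ((Grp.forget _).mapIso eG).hom)
  haveI : IsIso eG.inv.hom.hom := inferInstanceAs (IsIso ((Grp.forget _).mapIso eG).inv)
  have heG : eG.hom.hom.hom ≫ eG.inv.hom.hom = 𝟙 (Red.bc q (Red.bc f G)) := congrArg (fun m => m.hom.hom) eG.hom_inv_id
  have heH : eH.inv.hom.hom ≫ eH.hom.hom.hom = 𝟙 (Red.bc g (Red.bc p H)) := congrArg (fun m => m.hom.hom) eH.inv_hom_id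
  have heG' : eG.inv.hom.hom ≫ eG.hom.hom.hom = 𝟙 (Red.bc g (Red.bc p G)) := congrArg (fun m => m.hom.hom) eG.inv_hom_id
  let iL := (Over.pullback q).map iT ≫ eG.hom.hom.hom
  haveI : Mono ((Over.pullback q).map iT) := mono_bc q iT
  have hiL : AGF.IsMaxTorus iL := by
    refine ⟨inferInstance, mono_comp _ _, MaxTorBC14.isTorus_bc q hTt, fun T' _ j _ _ f₀ hT' hf => ?_⟩
    haveI : Mono (j ≫ eG.inv.hom.hom) := mono_comp j _
    exact hTmax s' T' (j ≫ eG.inv.hom.hom) f₀ hT'
      (by rw [reassoc_of% hf, Category.assoc, heG, Category.comp_id])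
  obtain ⟨x, m, hm⟩ := exists_conj_into_bc ((Over.pullback p).map i) c' hC g iL hiL
  obtain ⟨pt, hpt⟩ := (DiagGrp.bcPoint q (Red.bc f G) _).surjective (x ≫ eG.inv.hom.hom)
  refine ⟨pt, conjInto_of_bc pt ?_⟩
  rw [hpt]
  intro Y a h
  refine ⟨h ≫ m ≫ eH.inv.hom.hom, ?_⟩
  have e1 : eH.inv.hom.hom ≫ (Over.pullback q).map ((Over.pullback f).map i) =
      (Over.pullback g).map ((Over.pullback p).map i) ≫ eG.inv.hom.hom := by
    rw [← cancel_mono eG.hom.hom.hom, Category.assoc, hnat, ← Category.assoc, heH]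
    erw [Category.id_comp, Category.assoc, heG', Category.comp_id]
  simp only [Category.assoc]
  rw [e1, reassoc_of% hm]
  simp only [MonObj.comp_mul, GrpObj.comp_inv, MonObj.mul_comp, GrpObj.inv_comp, iL, Category.assoc, heG,
    Category.comp_id]
  rw [← Category.assoc h (toUnit _), toUnit_unique (h ≫ toUnit _) a]

/-- A subgroup containing Cartan subgroups has a maximal torus etale locally over any base where the ambient
group has one. -/
theorem exists_maxTorus_sub [IsSeparated G.hom] [QuasiCompact G.hom]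
    (hHconn : ∀ s : S, ConnectedSpace ↥(Red.geomFibre s H).left)
    (hHC : ∀ s : S, ∃ (C' : Over (Spec (CommRingCat.of (AlgebraicClosure (S.residueField s))))) (_ : GrpObj C')
      (c' : C' ⟶ Red.geomFibre s H), SGA3x.IsCartanOver _ (c' ≫ (Over.pullback (Red.geomPt s)).map i))
    {S' : Scheme.{u}} (f : S' ⟶ S) {T : Over S'} [GrpObj T] (iT : T ⟶ Red.bc f G) (hT : Red.IsMaximalTorus iT) :
    ∃ (S'' : Scheme.{u}) (f' : S'' ⟶ S'), Etale f' ∧ Surjective f' ∧
      ∃ (T' : Over S'') (_ : GrpObj T') (i' : T' ⟶ Red.bc (f' ≫ f) H), Red.IsMaximalTorus i' := by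
  obtain ⟨N, _, n, v, hN, hnc, hnfp, hv, hvo⟩ := exists_normalizer_open i hHconn hHC
  obtain ⟨hnm, hnmono, -⟩ := hN
  haveI := hnm; haveI := hnmono; haveI := hnc; haveI := hnfp; haveI := hvo
  obtain ⟨hTm, -, hTt, -⟩ := id hT
  haveI := hTm
  haveI : Smooth (Red.bc f G).hom := Flag27.smooth_bc f G
  haveI : Smooth (Red.bc f H).hom := Flag27.smooth_bc f H
  haveI : Mono ((Over.pullback f).map i) := mono_bc f i
  haveI : Mono ((Over.pullback f).map n) := mono_bc f n
  haveI : IsClosedImmersion ((Over.pullback f).map n).left := Flag27.property_map f n ‹_›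
  haveI : LocallyOfFinitePresentation ((Over.pullback f).map n).left := Flag27.property_map f n ‹_›
  haveI : IsOpenImmersion ((Over.pullback f).map v).left := Flag27.property_map f v ‹_›
  obtain ⟨Y, j, hY, hspec⟩ := exists_transporter_smooth ((Over.pullback f).map i) ((Over.pullback f).map n)
    ((Over.pullback f).map v) (by rw [← Functor.map_comp, hv]) hTt iT
  haveI := hY
  haveI : Surjective Y.hom := ⟨fun s' => by
    obtain ⟨g, hg⟩ := exists_conjInto_point i hHC f iT hT s'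
    obtain ⟨t, -⟩ := (hspec _ g).mpr hg
    refine ⟨t.left (IsLocalRing.closedPoint _), ?_⟩
    rw [← Scheme.Hom.comp_apply, Over.w t]
    show (((𝟙_ (Over (Spec _))).hom ≫ Red.geomPt s')) _ = s'
    exact (Category.id_comp (Red.geomPt s')).symm ▸ Scheme.fromSpecResidueField_apply s' _⟩
  obtain ⟨U, p, hp⟩ := Torsor21.exists_etale_sections Y.hom
  rw [Scheme.etalePrecoverage, Scheme.ofArrows_mem_precoverage_iff] at hp
  let f' : (∐ U) ⟶ S' := Sigma.desc fun s => p s ≫ Y.hom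
  haveI hf : Etale f' := by
    refine IsZariskiLocalAtSource.of_openCover (P := @Etale) (sigmaOpenCover U) fun s => ?_
    show Etale (Sigma.ι U s ≫ f')
    rw [Sigma.ι_desc]
    exact hp.2 s
  have hs : Surjective f' := ⟨fun x => by
    obtain ⟨s, z, hz⟩ := hp.1 x
    refine ⟨Sigma.ι U s z, ?_⟩
    rw [← Scheme.Hom.comp_apply, Sigma.ι_desc]
    exact hz⟩
  let t : (Over.map f').obj (𝟙_ _) ⟶ Y := Over.homMk (Sigma.desc p)
    (by
      show Sigma.desc p ≫ Y.hom = 𝟙 _ ≫ f'
      rw [Category.id_comp]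
      exact Sigma.hom_ext _ _ fun s => by simp [f'])
  obtain ⟨φ, hφ⟩ := exists_bc_of_conjInto (f := f') ((hspec _ (t ≫ j)).mp ⟨t, rfl⟩) (𝟙 _)
  generalize DiagGrp.bcPoint f' (Red.bc f G) _ (𝟙 _ ≫ t ≫ j) = x at hφ
  obtain ⟨hcm, hci⟩ := isIso_conj x
  haveI := hcm; haveI := hci
  have h1 := isMaximalTorus_comp_isIso (isMaximalTorus_bc_etale f' hT)
    ((toUnit _ ≫ x) * 𝟙 (Red.bc f' (Red.bc f G)) * (toUnit _ ≫ x)⁻¹)
  have hx : (Over.pullback f').map iT ≫ ((toUnit _ ≫ x) * 𝟙 (Red.bc f' (Red.bc f G)) * (toUnit _ ≫ x)⁻¹) =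
      φ ≫ (Over.pullback f').map ((Over.pullback f).map i) := by
    rw [hφ, MonObj.comp_mul, MonObj.comp_mul, GrpObj.comp_inv, Category.comp_id, ← Category.assoc _ (toUnit _),
      toUnit_unique (_ ≫ toUnit _) (toUnit (Red.bc f' T))]
  rw [hx] at h1
  let E : (Over.pullback f).mapGrp ⋙ (Over.pullback f').mapGrp ≅ (Over.pullback (f' ≫ f)).mapGrp :=
    Functor.mapGrpCompIso.symm ≪≫ Functor.mapGrpNatIso (Over.pullbackComp f' f).symm
  let eG := E.app (Grp.mk G)
  let eH := E.app (Grp.mk H)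
  have hnat : (Over.pullback f').map ((Over.pullback f).map i) ≫ eG.hom.hom.hom =
      eH.hom.hom.hom ≫ (Over.pullback (f' ≫ f)).map i :=
    congrArg (fun m : Grp.mk (Red.bc f' (Red.bc f H)) ⟶ Grp.mk (Red.bc (f' ≫ f) G) => m.hom.hom)
      (E.hom.naturality (Grp.homMk i : Grp.mk H ⟶ Grp.mk G))
  haveI : IsMonHom eG.hom.hom.hom := eG.hom.hom.isMonHom_hom
  haveI : IsIso eG.hom.hom.hom := inferInstanceAs (IsIso ((Grp.forget _).mapIso eG).hom)
  haveI : Mono ((Over.pullback (f' ≫ f)).map i) := mono_bc _ i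
  have h2 := isMaximalTorus_comp_isIso h1 eG.hom.hom.hom
  rw [Category.assoc, hnat, ← Category.assoc] at h2
  exact ⟨_, f', hf, hs, Red.bc f' T, inferInstance, φ ≫ eH.hom.hom.hom,
    isMaximalTorus_of_factor ((Over.pullback (f' ≫ f)).map i) h2⟩

end GrothLib.Chev24

namespace GrothLib.Chev24

/-- Quasi-compact opens lift along surjective open maps. -/
theorem exists_compact_cover {X Y : Scheme.{u}} (f : X ⟶ Y) [UniversallyOpen f] [Surjective f] (W : Y.Opens)
    (hW : IsCompact (W : Set Y)) : ∃ W' : X.Opens, IsCompact (W' : Set X) ∧ f.base '' (W' : Set X) = (W : Set Y) := by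
  classical
  have h : ∀ y : (W : Set Y), ∃ V : X.Opens, IsAffineOpen V ∧ V ≤ f ⁻¹ᵁ W ∧ y.1 ∈ f.base '' (V : Set X) := fun y => by
    obtain ⟨x, hx⟩ := f.surjective y.1
    obtain ⟨V, hV, hxV, hVW⟩ := exists_isAffineOpen_mem_and_subset (X := X) (U := f ⁻¹ᵁ W) (show f.base x ∈ W from hx ▸ y.2)
    exact ⟨V, hV, hVW, x, hxV, hx⟩
  choose V hV hVW hy using h
  obtain ⟨s, hs⟩ := hW.elim_finite_subcover (fun y => f.base '' (V y : Set X))
    (fun y => f.isOpenMap _ (V y).isOpen) fun y h => Set.mem_iUnion.2 ⟨⟨y, h⟩, hy ⟨y, h⟩⟩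
  refine ⟨⨆ y ∈ s, V y, ?_, ?_⟩
  · simp only [TopologicalSpace.Opens.coe_iSup]
    exact s.isCompact_biUnion fun y _ => (hV y).isCompact
  · simp only [TopologicalSpace.Opens.coe_iSup, Set.image_iUnion]
    refine subset_antisymm (Set.iUnion₂_subset fun y _ => Set.image_subset_iff.2 (hVW y)) hs

end GrothLib.Chev24
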