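import Groth.Agent.Lib.Chev24.Tensor

/-!
# Automorphisms of a function field depending algebraically on a parameter and fixing a divisor
-/

set_option autoImplicit false
set_option maxHeartbeats 1000000
set_option linter.all false

universe u

open scoped TensorProduct

noncomputable section

namespace GrothLib.Chev24

variable {k : Type u} [Field k] {C : Type u} [CommRing C] [Algebra k C]
  {K : Type u} [Field K] [Algebra k K]

/-- Membership in the local ring of `A` at the prime element `π`. -/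
def InO {A : Type u} [CommRing A] [Algebra A K] (π : A) (x : K) : Prop :=
  ∃ a b : A, ¬ π ∣ b ∧ x * algebraMap A K b = algebraMap A K a

variable {A : Type u} [CommRing A] [Algebra k A] [Algebra A K]

/-- `P / Q ^ n` gives the values of the family on `f`. -/
def Valid (T : (C →ₐ[k] k) → K ≃ₐ[k] K) (Q : C ⊗[k] A) (f : K) (P : C ⊗[k] A) (n : ℕ) : Prop :=
  ∀ χ : C →ₐ[k] k, ev χ Q ≠ 0 → T χ f * algebraMap A K (ev χ Q) ^ n = algebraMap A K (ev χ P)

/-- The family depends algebraically on the parameter and preserves the divisor. -/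
structure IsFam (T : (C →ₐ[k] k) → K ≃ₐ[k] K) (π : A) : Prop where
  prime : Prime π
  spec : ∀ f : K, ∃ P Q : C ⊗[k] A, Q ≠ 0 ∧ Valid T Q f P 1
  inv : ∀ (χ : C →ₐ[k] k) (x : K), InO π x ↔ InO π (T χ x)
  symm : ∀ c : C, c ≠ 0 → ∃ χ χ' : C →ₐ[k] k, χ c ≠ 0 ∧ χ' c ≠ 0 ∧ T χ' = (T χ).symm

variable [IsAlgClosed k] [IsDomain C] [Algebra.FiniteType k C] [IsDomain A] [Algebra.FiniteType k A]
  [IsFractionRing A K] [IsScalarTower k A K]
  {T : (C →ₐ[k] k) → K ≃ₐ[k] K} {π : A}

omit [Algebra.FiniteType k A] [IsFractionRing A K] [IsScalarTower k A K] in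
theorem eq_zero_of_forall {Q x : C ⊗[k] A} (hQ : Q ≠ 0) (h : ∀ χ : C →ₐ[k] k, ev χ Q ≠ 0 → ev χ x = 0) :
    x = 0 := by
  haveI := GrpSchField.isDomain_tensorProduct (L := k) (A := C) (B := A)
  refine (mul_eq_zero.1 (eq_zero_of_forall_ev (x := Q * x) fun χ => ?_)).resolve_left hQ
  rw [map_mul]
  by_cases hχ : ev χ Q = 0
  · rw [hχ, zero_mul]
  · rw [h χ hχ, mul_zero]

/-- One function of the ring has a presentation whose denominator is prime to the divisor. -/
theorem IsFam.exists_one (hF : IsFam T π) (f : A) :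
    ∃ P Q : C ⊗[k] A, ¬ (1 : C) ⊗ₜ[k] π ∣ Q ∧ Valid T Q (algebraMap A K f) P 1 ∧
      (π ∣ f → (1 : C) ⊗ₜ[k] π ∣ P) := by
  haveI := GrpSchField.isDomain_tensorProduct (L := k) (A := C) (B := A)
  haveI : Algebra.FiniteType k (C ⊗[k] A) :=
    Algebra.FiniteType.trans (R := k) (S := C) (A := C ⊗[k] A) inferInstance inferInstance
  haveI : IsNoetherianRing (C ⊗[k] A) := Algebra.FiniteType.isNoetherianRing k _
  have hp : Prime ((1 : C) ⊗ₜ[k] π) := prime_tmul π hF.prime
  rcases eq_or_ne f 0 with rfl | hf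
  · exact ⟨0, 1, fun h => hp.not_unit (isUnit_of_dvd_one h), fun χ _ => by simp, fun _ => dvd_zero _⟩
  have hfK : algebraMap A K f ≠ 0 := fun h => hf (IsFractionRing.injective A K (by rw [h, map_zero]))
  obtain ⟨P₀, Q₀, hQ₀, hval⟩ := hF.spec (algebraMap A K f)
  have hP₀ : P₀ ≠ 0 := by
    rintro rfl
    obtain ⟨c, hc, hev⟩ := exists_coeff_of_ne_zero hQ₀
    obtain ⟨χ, hχ⟩ := exists_pt (k := k) hc
    have := hval χ (hev χ hχ)
    rw [map_zero, map_zero, pow_one, mul_eq_zero] at this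
    rcases this with h | h
    · exact hfK (by simpa using h)
    · exact hev χ hχ (IsFractionRing.injective A K (by rw [h, map_zero]))
  obtain ⟨a, P', hP', rfl⟩ := WfDvdMonoid.max_power_factor hP₀ hp.irreducible
  obtain ⟨b, Q', hQ', rfl⟩ := WfDvdMonoid.max_power_factor hQ₀ hp.irreducible
  have hπ : ∀ χ : C →ₐ[k] k, ev χ ((1 : C) ⊗ₜ[k] π) = π := fun χ => by simp
  have hval' : ∀ χ : C →ₐ[k] k, ev χ Q' ≠ 0 →
      T χ (algebraMap A K f) * (algebraMap A K π ^ b * algebraMap A K (ev χ Q')) =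
        algebraMap A K π ^ a * algebraMap A K (ev χ P') := fun χ hχ => by
    have h := hval χ (by
      rw [map_mul, map_pow, hπ]
      exact mul_ne_zero (pow_ne_zero _ hF.prime.ne_zero) hχ)
    simp only [map_mul, map_pow, hπ, pow_one] at h
    exact h
  obtain ⟨c, hc, hev⟩ := exists_coeff_of_not_dvd π (x := P' * Q') (fun h => (hp.dvd_or_dvd h).elim hP' hQ')
  obtain ⟨χ, hχ⟩ := exists_pt (k := k) hc
  have hnd := hev χ hχ
  rw [map_mul] at hnd
  have hp' : ¬ π ∣ ev χ P' := fun h => hnd (dvd_mul_of_dvd_left h _)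
  have hq' : ¬ π ∣ ev χ Q' := fun h => hnd (dvd_mul_of_dvd_right h _)
  have hχQ : ev χ Q' ≠ 0 := fun h => hq' (h ▸ dvd_zero _)
  have hπK : algebraMap A K π ≠ 0 := fun h => hF.prime.ne_zero (IsFractionRing.injective A K (by rw [h, map_zero]))
  have hab : b ≤ a := by
    by_contra hlt
    push_neg at hlt
    obtain ⟨d, rfl⟩ := Nat.exists_eq_add_of_lt hlt
    obtain ⟨x, y, hy, hxy⟩ := (hF.inv χ (algebraMap A K f)).1
      ⟨f, 1, fun h => hF.prime.not_unit (isUnit_of_dvd_one h), by rw [map_one, mul_one]⟩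
    have h1 := hval' χ hχQ
    have h2 : ev χ P' * y = π * (x * π ^ d * ev χ Q') := by
      apply IsFractionRing.injective A K
      apply mul_left_cancel₀ (pow_ne_zero a hπK)
      simp only [map_mul, map_pow]
      linear_combination (-(algebraMap A K y)) * h1 + (algebraMap A K π ^ (a + d + 1) * algebraMap A K (ev χ Q')) * hxy
    exact (hF.prime.dvd_or_dvd ⟨_, h2⟩).elim hp' hy
  obtain ⟨d, rfl⟩ := Nat.exists_eq_add_of_le hab
  refine ⟨((1 : C) ⊗ₜ[k] π) ^ d * P', Q', hQ', fun ψ hψ => ?_, fun hdvd => ?_⟩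
  · apply mul_left_cancel₀ (pow_ne_zero b hπK)
    rw [map_mul, map_pow, hπ, map_mul, map_pow, pow_one]
    linear_combination hval' ψ hψ
  · by_contra hP
    obtain rfl : d = 0 := by
      by_contra hd
      exact hP (dvd_mul_of_dvd_left (dvd_pow_self _ hd) _)
    have h1 := hval' χ hχQ
    rw [add_zero] at h1
    have h2 : InO π (T χ (algebraMap A K f)⁻¹) := ⟨ev χ Q', ev χ P', hp', by
      have hT : T χ (algebraMap A K f) ≠ 0 := by simpa using hfK
      rw [map_inv₀, inv_mul_eq_iff_eq_mul₀ hT]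
      apply mul_left_cancel₀ (pow_ne_zero b hπK)
      linear_combination -h1⟩
    obtain ⟨x, y, hy, hxy⟩ := (hF.inv χ _).2 h2
    rw [inv_mul_eq_iff_eq_mul₀ hfK, ← map_mul] at hxy
    exact hy ((dvd_mul_of_dvd_left hdvd x).trans (IsFractionRing.injective A K hxy).symm.dvd)

omit [IsAlgClosed k] [IsDomain C] [Algebra.FiniteType k C] [Algebra.FiniteType k A] in
theorem Valid.scale {Q : C ⊗[k] A} {f : K} {P : C ⊗[k] A} {n : ℕ} (h : Valid T Q f P n) (m : ℕ) :
    Valid T Q f (P * Q ^ m) (n + m) := fun χ hχ => by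
  simp only [map_mul, map_pow, pow_add]
  linear_combination (algebraMap A K (ev χ Q) ^ m) * h χ hχ

/-- The family is given by a ring map to the tensor product, localized away from an element prime to the
divisor. -/
theorem IsFam.exists_hom (hF : IsFam T π) :
    ∃ (Q : C ⊗[k] A) (Φ : A →ₐ[k] Localization.Away Q), ¬ (1 : C) ⊗ₜ[k] π ∣ Q ∧
      (∀ f : A, ∃ (P : C ⊗[k] A) (n : ℕ), Φ f * algebraMap _ _ Q ^ n = algebraMap _ _ P ∧
        Valid T Q (algebraMap A K f) P n ∧ (π ∣ f → (1 : C) ⊗ₜ[k] π ∣ P)) := by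
  classical
  haveI := GrpSchField.isDomain_tensorProduct (L := k) (A := C) (B := A)
  have hp : Prime ((1 : C) ⊗ₜ[k] π) := prime_tmul π hF.prime
  obtain ⟨s, hs⟩ := (inferInstance : Algebra.FiniteType k A).out
  choose P₁ Q₁ hQ₁ hV₁ hd₁ using fun f : A => hF.exists_one f
  let Q := ∏ a ∈ s, Q₁ a
  have hQ : ¬ (1 : C) ⊗ₜ[k] π ∣ Q := fun h => by
    obtain ⟨a, -, ha⟩ := hp.exists_mem_finset_dvd h
    exact hQ₁ a ha
  have hQ0 : Q ≠ 0 := fun h => hQ (h ▸ dvd_zero _)
  have hex : ∀ f : A, ∃ (P : C ⊗[k] A) (n : ℕ), Valid T Q (algebraMap A K f) P n := by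
    intro f
    have hf : f ∈ Algebra.adjoin k (s : Set A) := hs.symm ▸ Algebra.mem_top
    induction hf using Algebra.adjoin_induction with
    | mem x hx =>
      refine ⟨P₁ x * ∏ a ∈ s.erase x, Q₁ a, 1, fun χ hχ => ?_⟩
      have e : Q = Q₁ x * ∏ a ∈ s.erase x, Q₁ a := (Finset.mul_prod_erase s Q₁ hx).symm
      rw [e] at hχ ⊢
      rw [map_mul] at hχ
      simp only [map_mul, pow_one]
      have := hV₁ x χ (left_ne_zero_of_mul hχ)
      rw [pow_one] at this
      linear_combination (algebraMap A K (ev χ (∏ a ∈ s.erase x, Q₁ a))) * this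
    | algebraMap r =>
      refine ⟨algebraMap k _ r, 0, fun χ _ => ?_⟩
      simp [← IsScalarTower.algebraMap_apply k A K]
    | add x y _ _ hx hy =>
      obtain ⟨P, n, h⟩ := hx
      obtain ⟨P', n', h'⟩ := hy
      refine ⟨P * Q ^ n' + P' * Q ^ n, n + n', fun χ hχ => ?_⟩
      simp only [map_add, map_mul, map_pow, pow_add]
      linear_combination (algebraMap A K (ev χ Q) ^ n') * h χ hχ + (algebraMap A K (ev χ Q) ^ n) * h' χ hχ
    | mul x y _ _ hx hy =>
      obtain ⟨P, n, h⟩ := hx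
      obtain ⟨P', n', h'⟩ := hy
      refine ⟨P * P', n + n', fun χ hχ => ?_⟩
      simp only [map_mul, pow_add]
      linear_combination (T χ (algebraMap A K y) * algebraMap A K (ev χ Q) ^ n') * h χ hχ + (algebraMap A K (ev χ P)) * h' χ hχ
  choose P n hV using hex
  have hu : IsUnit (algebraMap (C ⊗[k] A) (Localization.Away Q) Q) :=
    IsLocalization.Away.algebraMap_isUnit Q
  let F : A → Localization.Away Q := fun f => algebraMap _ _ (P f) * ↑(hu.pow (n f)).unit⁻¹
  have hF' : ∀ f, F f * algebraMap _ _ Q ^ n f = algebraMap _ _ (P f) := fun f => by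
    rw [_root_.mul_assoc, IsUnit.val_inv_mul, _root_.mul_one]
  have uniq : ∀ (f : A) (P' : C ⊗[k] A) (n' : ℕ), Valid T Q (algebraMap A K f) P' n' →
      F f * algebraMap _ _ Q ^ n' = algebraMap _ _ P' := by
    intro f P' n' h
    have e : P f * Q ^ n' = P' * Q ^ n f := sub_eq_zero.1 <| eq_zero_of_forall hQ0 fun χ hχ => by
      apply IsFractionRing.injective A K
      simp only [map_sub, map_mul, map_pow, map_zero]
      linear_combination (algebraMap A K (ev χ Q) ^ n f) * h χ hχ - (algebraMap A K (ev χ Q) ^ n') * hV f χ hχ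
    apply (hu.pow (n f)).mul_left_injective
    show F f * algebraMap _ _ Q ^ n' * algebraMap _ _ Q ^ n f = algebraMap _ _ P' * algebraMap _ _ Q ^ n f
    rw [mul_right_comm, hF', ← map_pow, ← map_pow, ← map_mul, ← map_mul, e]
  have hadd : ∀ f g, F (f + g) = F f + F g := fun f g => by
    apply (hu.pow (n f + n g)).mul_left_injective
    show F (f + g) * _ = (F f + F g) * _
    rw [uniq (f + g) (P f * Q ^ n g + P g * Q ^ n f) (n f + n g) (fun χ hχ => by
      simp only [map_add, map_mul, map_pow, pow_add]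
      linear_combination (algebraMap A K (ev χ Q) ^ n g) * hV f χ hχ + (algebraMap A K (ev χ Q) ^ n f) * hV g χ hχ),
      map_add, map_mul, map_mul, map_pow, map_pow, ← hF' f, ← hF' g, pow_add]
    ring
  have hmul : ∀ f g, F (f * g) = F f * F g := fun f g => by
    apply (hu.pow (n f + n g)).mul_left_injective
    show F (f * g) * _ = (F f * F g) * _
    rw [uniq (f * g) (P f * P g) (n f + n g) (fun χ hχ => by
      simp only [map_mul, pow_add]
      linear_combination (T χ (algebraMap A K g) * algebraMap A K (ev χ Q) ^ n g) * hV f χ hχ + (algebraMap A K (ev χ (P f))) * hV g χ hχ),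
      map_mul, ← hF' f, ← hF' g, pow_add]
    ring
  have hk : ∀ r : k, F (algebraMap k A r) = algebraMap k _ r := fun r => by
    have h := uniq (algebraMap k A r) (algebraMap k _ r) 0 (fun χ _ => by
      simp [← IsScalarTower.algebraMap_apply k A K])
    rwa [pow_zero, _root_.mul_one, ← IsScalarTower.algebraMap_apply] at h
  let Φ : A →ₐ[k] Localization.Away Q :=
    { toFun := F
      map_one' := by simpa using hk 1
      map_mul' := hmul
      map_zero' := by simpa using hk 0
      map_add' := hadd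
      commutes' := hk }
  refine ⟨Q, Φ, hQ, fun f => ⟨P f, n f, hF' f, hV f, fun hd => ?_⟩⟩
  have e : P f * Q₁ f = P₁ f * Q ^ n f := sub_eq_zero.1 <| eq_zero_of_forall (Q := Q * Q₁ f)
    (mul_ne_zero hQ0 fun h => hQ₁ f (h ▸ dvd_zero _)) fun χ hχ => by
      rw [map_mul] at hχ
      apply IsFractionRing.injective A K
      simp only [map_sub, map_mul, map_pow, map_zero]
      have h1 := hV₁ f χ (right_ne_zero_of_mul hχ)
      rw [pow_one] at h1
      linear_combination (algebraMap A K (ev χ Q) ^ n f) * h1 - (algebraMap A K (ev χ (Q₁ f))) * hV f χ (left_ne_zero_of_mul hχ)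
  exact (hp.dvd_or_dvd (e ▸ dvd_mul_of_dvd_left (hd₁ f hd) _)).resolve_right (hQ₁ f)

end GrothLib.Chev24
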