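import Groth.Agent.Lib.Chev24.Res
import Groth.Agent.Lib.Chev24.Spec
import Groth.Agent.Lib.AffDom.Formula
import Groth.Agent.Lib.Japanese.Field

/-!
# The invariant divisor attached to a divisor of one model
-/

set_option autoImplicit false
set_option linter.all false
set_option maxHeartbeats 1000000

universe u

open scoped TensorProduct
open Cardinal

noncomputable section

namespace GrothLib.Chev24

variable {k : Type u} [Field k]

theorem trdeg_frac {A K : Type u} [CommRing A] [IsDomain A] [Field K] [Algebra k A] [Algebra k K] [Algebra A K]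
    [IsScalarTower k A K] [IsFractionRing A K] : Algebra.trdeg k K = Algebra.trdeg k A := by
  haveI : FaithfulSMul A K := (faithfulSMul_iff_algebraMap_injective A K).2 (IsFractionRing.injective A K)
  haveI : FaithfulSMul k A := (faithfulSMul_iff_algebraMap_injective k A).2 (algebraMap k A).injective
  haveI : Algebra.IsAlgebraic A K := IsLocalization.isAlgebraic K (nonZeroDivisors A)
  have h := lift_trdeg_add_eq k A K
  rw [trdeg_eq_zero (R := A) (A := K)] at h
  simpa using h.symm

theorem trdeg_add_hom {K F : Type u} [Field K] [Field F] [Algebra k K] [Algebra k F] (σ : K →ₐ[k] F) :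
    letI := σ.toRingHom.toAlgebra
    Algebra.trdeg k K + Algebra.trdeg K F = Algebra.trdeg k F := by
  letI := σ.toRingHom.toAlgebra
  haveI : IsScalarTower k K F := IsScalarTower.of_algebraMap_eq fun r => (σ.commutes r).symm
  haveI : FaithfulSMul k K := (faithfulSMul_iff_algebraMap_injective k K).2 (algebraMap k K).injective
  haveI : FaithfulSMul K F := (faithfulSMul_iff_algebraMap_injective K F).2 (algebraMap K F).injective
  exact trdeg_add_eq k K (A := F)

variable [IsAlgClosed k] {K : Type u} [Field K] [Algebra k K]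
  {F : Type u} [Field F] [Algebra (K ⊗[k] K) F] [IsFractionRing (K ⊗[k] K) F] [Algebra k F]
  [IsScalarTower k (K ⊗[k] K) F]

variable (F) in
/-- The automorphism of the double function field acting on the first factor. -/
def lam (σ : K ≃ₐ[k] K) : F →ₐ[k] F :=
  IsFractionRing.liftAlgHom (g := (IsScalarTower.toAlgHom k (K ⊗[k] K) F).comp
    (Algebra.TensorProduct.congr σ (AlgEquiv.refl : K ≃ₐ[k] K)).toAlgHom)
    ((IsFractionRing.injective (K ⊗[k] K) F).comp (Algebra.TensorProduct.congr σ AlgEquiv.refl).injective)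

theorem lam_algebraMap (σ : K ≃ₐ[k] K) (z : K ⊗[k] K) :
    lam F σ (algebraMap _ F z) = algebraMap _ F (Algebra.TensorProduct.map σ.toAlgHom (AlgHom.id k K) z) := by
  simp [lam, IsFractionRing.liftAlgHom]

variable {B : Type u} [CommRing B] [Algebra k B] [Algebra B K] [IsScalarTower k B K] [IsDomain B]
  [IsFractionRing B K]

theorem lam_jB (σ : K ≃ₐ[k] K) (P : K ⊗[k] B) :
    lam F σ (jB (k := k) K B F P) = jB (k := k) K B F (Algebra.TensorProduct.map σ.toAlgHom (AlgHom.id k B) P) := by
  induction P using TensorProduct.induction_on with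
  | zero => simp
  | tmul x b =>
    simp only [jB, AlgHom.comp_apply, IsScalarTower.toAlgHom_apply, Algebra.TensorProduct.map_tmul, AlgHom.id_apply]
    rw [lam_algebraMap, Algebra.TensorProduct.map_tmul]
    rfl
  | add x y hx hy => simp [hx, hy]

theorem lam_mem {π : B} (σ : K ≃ₐ[k] K) {x : F} (hx : InW (k := k) (K := K) π x) :
    InW (k := k) (K := K) π (lam F σ x) := by
  obtain ⟨P, Q, hQ, h⟩ := hx
  refine ⟨Algebra.TensorProduct.map σ.toAlgHom (AlgHom.id k B) P,
    Algebra.TensorProduct.map σ.toAlgHom (AlgHom.id k B) Q, fun hd => hQ ?_, ?_⟩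
  · have := map_dvd (Algebra.TensorProduct.map σ.symm.toAlgHom (AlgHom.id k B)) hd
    rw [Algebra.TensorProduct.map_tmul, ← AlgHom.comp_apply, ← Algebra.TensorProduct.map_comp,
      AlgEquiv.symm_comp, AlgHom.comp_id, Algebra.TensorProduct.map_id] at this
    simpa using this
  · rw [← lam_jB, ← lam_jB, ← map_mul, h]

theorem includeRight_dvd {π : B} {b : B} (h : (1 : K) ⊗ₜ[k] π ∣ (1 : K) ⊗ₜ[k] b) : π ∣ b := by
  rw [dvd_iff', Algebra.TensorProduct.map_tmul, Ideal.Quotient.mkₐ_eq_mk] at h
  rw [← Ideal.mem_span_singleton, ← Ideal.Quotient.eq_zero_iff_mem]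
  exact Algebra.TensorProduct.includeRight_injective (R := k) (A := K) (B := B ⧸ Ideal.span {π})
    (algebraMap k K).injective (h.trans (map_zero _).symm)

/-- The local ring of a prime element inside the function field. -/
def inOSub {π : B} (hπ : Prime π) : Subalgebra k K where
  carrier := {x | InO π x}
  add_mem' {x y} hx hy := by
    obtain ⟨a, b, hb, h⟩ := hx
    obtain ⟨c, d, hd, h'⟩ := hy
    refine ⟨a * d + c * b, b * d, fun hdv => (hπ.dvd_or_dvd hdv).elim hb hd, ?_⟩
    simp only [map_add, map_mul]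
    linear_combination (algebraMap B K d) * h + (algebraMap B K b) * h'
  mul_mem' {x y} hx hy := by
    obtain ⟨a, b, hb, h⟩ := hx
    obtain ⟨c, d, hd, h'⟩ := hy
    refine ⟨a * c, b * d, fun hdv => (hπ.dvd_or_dvd hdv).elim hb hd, ?_⟩
    simp only [map_mul]
    linear_combination (y * algebraMap B K d) * h + (algebraMap B K a) * h'
  algebraMap_mem' r := ⟨algebraMap k B r, 1, fun h => hπ.not_unit (isUnit_of_dvd_one h),
    by simp [← IsScalarTower.algebraMap_apply k B K]⟩

variable [Algebra.FiniteType k B]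

theorem inO_of_inW {π : B} (hπ : Prime π) {f : K}
    (h : InW (k := k) (K := K) π ((IsScalarTower.toAlgHom k (K ⊗[k] K) F).comp Algebra.TensorProduct.includeRight f)) :
    InO π f := by
  haveI : IsNoetherianRing B := Algebra.FiniteType.isNoetherianRing k B
  obtain ⟨a, b, hb, rfl⟩ := IsFractionRing.div_surjective B f
  obtain ⟨P, Q, hQ, hPQ⟩ := h
  rcases eq_or_ne a 0 with rfl | ha
  · exact ⟨0, 1, fun h => hπ.not_unit (isUnit_of_dvd_one h), by simp⟩
  obtain ⟨i, a', ha', rfl⟩ := WfDvdMonoid.max_power_factor ha hπ.irreducible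
  obtain ⟨j, b', hb', rfl⟩ := WfDvdMonoid.max_power_factor (nonZeroDivisors.ne_zero hb) hπ.irreducible
  have hπK : algebraMap B K π ≠ 0 := fun e => hπ.ne_zero (IsFractionRing.injective B K (e.trans (map_zero _).symm))
  have hb'K : algebraMap B K b' ≠ 0 := fun e => hb'
    ((show b' = 0 from IsFractionRing.injective B K (e.trans (map_zero _).symm)) ▸ dvd_zero π)
  by_cases hji : j ≤ i
  · obtain ⟨d, rfl⟩ := Nat.exists_eq_add_of_le hji
    refine ⟨π ^ d * a', b', hb', ?_⟩
    simp only [map_mul, map_pow, pow_add]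
    field_simp
  · exfalso
    push_neg at hji
    obtain ⟨d, rfl⟩ := Nat.exists_eq_add_of_lt hji
    let r : K →ₐ[k] F := (IsScalarTower.toAlgHom k (K ⊗[k] K) F).comp Algebra.TensorProduct.includeRight
    have hjr : ∀ c : B, jB (k := k) K B F ((1 : K) ⊗ₜ[k] c) = r (algebraMap B K c) := fun c => by simp [jB, r]
    have e : algebraMap B K (π ^ i * a') / algebraMap B K (π ^ (i + d + 1) * b') * algebraMap B K (π ^ (d + 1) * b') =
        algebraMap B K a' := by
      simp only [map_mul, map_pow, pow_add, pow_one]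
      field_simp
    have h5 : P * ((1 : K) ⊗ₜ[k] (π ^ (d + 1) * b')) = ((1 : K) ⊗ₜ[k] a') * Q := jB_injective (k := k) (F := F) (by
      rw [map_mul, map_mul, hjr, hjr, ← hPQ, ← e]
      simp only [map_mul, r]
      ring)
    have h6 : (1 : K) ⊗ₜ[k] π ∣ ((1 : K) ⊗ₜ[k] a') * Q := by
      rw [← h5]
      refine dvd_mul_of_dvd_right ⟨(1 : K) ⊗ₜ[k] (π ^ d * b'), ?_⟩ P
      rw [Algebra.TensorProduct.tmul_mul_tmul, _root_.one_mul, pow_succ]
      congr 1
      ring
    exact ha' (includeRight_dvd ((prime_tmul' hπ).dvd_or_dvd h6 |>.resolve_right hQ))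

/-- A divisor on one model gives a divisor on some model invariant under all translations. -/
theorem exists_invariant_model {πB : B} (hπ : Prime πB) (μ : K →ₐ[k] F)
    {G : Type*} (T : G → K ≃ₐ[k] K) (hΛ : ∀ g, (lam F (T g)).comp μ = μ.comp (T g).toAlgHom)
    (hsymm : ∀ g, ∃ g', T g' = (T g).symm) (hne : ∃ f : K, ¬ InW (k := k) (K := K) πB (μ f)) :
    ∃ (A : Subalgebra k K) (π : A), Algebra.FiniteType k A ∧ IsFractionRing A K ∧ Prime π ∧
      ringKrullDim A = ringKrullDim B ∧ ∀ g (x : K), InO π x ↔ InO π (T g x) := by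
  classical
  obtain ⟨n, hn, hdimB⟩ := Dim.exists_nat_trdeg_eq_and_ringKrullDim_eq k B
  have hKn : Algebra.trdeg k K = n := (trdeg_frac (A := B)).trans hn
  haveI : IsNoetherianRing B := Algebra.FiniteType.isNoetherianRing k B
  haveI hP : (Ideal.span {πB}).IsPrime := (Ideal.span_singleton_prime hπ.ne_zero).2 hπ
  haveI : IsDomain (K ⊗[k] (B ⧸ Ideal.span {πB})) := GrpSchField.isDomain_tensorProduct
  have hh1 : (Ideal.span {πB}).height = 1 :=
    Ideal.height_span_singleton_eq_one_of_mem_nonZeroDivisors (mem_nonZeroDivisors_of_ne_zero hπ.ne_zero) hπ.not_unit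
  obtain ⟨m, hm, hdimBb⟩ := Dim.exists_nat_trdeg_eq_and_ringKrullDim_eq k (B ⧸ Ideal.span {πB})
  have hnm : m + 1 = n := by
    have h := AffDom.ringKrullDim_quotient_add_one_of_height_eq_one (k := k) B (Ideal.span {πB}) hh1
    rw [hdimBb, hdimB] at h
    exact_mod_cast h
  -- the valuation ring
  let VA : Subalgebra k K := (subW (k := k) K F hπ).comap μ
  have hVmem : ∀ x : K, x ∈ VA ↔ InW (k := k) (K := K) πB (μ x) := fun x => Iff.rfl
  let V : ValuationSubring K :=
    { VA.toSubring with
      mem_or_inv_mem' := fun x => by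
        rcases inW_or_inv (k := k) (K := K) hπ (μ x) with h | h
        · exact Or.inl h
        · exact Or.inr (by rw [← map_inv₀] at h; exact h) }
  let ψ : VA →ₐ[k] ResW (k := k) K πB :=
    (resW hπ).comp ((μ.comp VA.val).codRestrict (subW (k := k) K F hπ) fun x => x.2)
  have hψinv : ∀ x : VA, ψ x ≠ 0 → (x : K)⁻¹ ∈ VA := by
    intro x hx
    obtain ⟨P, Q, hQ, h⟩ := x.2
    change μ (x : K) * _ = _ at h
    have hs := resW_spec hπ ⟨μ x, x.2⟩ hQ h
    have hP : ¬ (1 : K) ⊗ₜ[k] πB ∣ P := by
      intro hd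
      rw [(barW_eq_zero_iff P).2 hd, mul_eq_zero] at hs
      exact hs.elim hx (fun h0 => hQ ((barW_eq_zero_iff Q).1 h0))
    have hx0 : μ x ≠ 0 := by
      intro h0
      refine hP ?_
      rw [h0, zero_mul] at h
      rw [jB_injective (k := k) (F := F) (h.symm.trans (map_zero _).symm)]
      exact dvd_zero _
    refine ⟨Q, P, hP, ?_⟩
    show μ ((x : K)⁻¹) * _ = _
    rw [map_inv₀, inv_mul_eq_iff_eq_mul₀ hx0]
    exact h.symm
  have hψne : ∀ (x y : VA), (x : K) * (y : K) = 1 → ψ x ≠ 0 := fun x y h h0 => by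
    have := congrArg ψ (show x * y = 1 from Subtype.ext h)
    rw [map_mul, h0, zero_mul, map_one] at this
    exact zero_ne_one this
  -- the residue field
  let L' : IntermediateField k (ResW (k := k) K πB) := ψ.range.toIntermediateField (by
    rintro _ ⟨x, rfl⟩
    by_cases hx : ψ x = 0
    · exact ⟨0, by simp [hx]⟩
    · refine ⟨⟨_, hψinv x hx⟩, eq_inv_of_mul_eq_one_left ?_⟩
      show ψ ⟨_, hψinv x hx⟩ * ψ x = 1
      rw [← map_mul, ← map_one ψ]
      congr 1
      refine Subtype.ext (inv_mul_cancel₀ fun h => hx ?_)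
      rw [show x = 0 from Subtype.ext h, map_zero])
  -- transcendence of the residue field along the divisor
  have hW : (n : Cardinal.{u}) + m ≤ Algebra.trdeg k (ResW (k := k) K πB) := by
    letI : Algebra K (ResW (k := k) K πB) := inferInstance
    haveI : IsScalarTower k K (ResW (k := k) K πB) := inferInstance
    obtain ⟨J, y, hy⟩ := exists_isTranscendenceBasis' k (B ⧸ Ideal.span {πB})
    have hJ : Cardinal.mk J = (m : Cardinal.{u}) := hy.cardinalMk_eq_trdeg.trans hm
    let g : (B ⧸ Ideal.span {πB}) →ₐ[k] ResW (k := k) K πB :=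
      (IsScalarTower.toAlgHom k (K ⊗[k] (B ⧸ Ideal.span {πB})) _).comp Algebra.TensorProduct.includeRight
    have hind : AlgebraicIndependent K (g ∘ y) := by
      refine CvgBC4.algebraicIndependent_of_tensor g (fun z hz => ?_) hy.1
      have e : Algebra.TensorProduct.productMap (IsScalarTower.toAlgHom k K (ResW (k := k) K πB)) g =
          IsScalarTower.toAlgHom k (K ⊗[k] (B ⧸ Ideal.span {πB})) _ := by
        refine Algebra.TensorProduct.ext' fun a b => ?_
        simp only [Algebra.TensorProduct.productMap_apply_tmul, IsScalarTower.toAlgHom_apply, g, AlgHom.comp_apply,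
          Algebra.TensorProduct.includeRight_apply]
        rw [IsScalarTower.algebraMap_apply K (K ⊗[k] (B ⧸ Ideal.span {πB})) (ResW (k := k) K πB), ← map_mul,
          Algebra.TensorProduct.algebraMap_apply, Algebra.TensorProduct.tmul_mul_tmul]
        simp
      rw [e] at hz
      exact IsFractionRing.injective (K ⊗[k] (B ⧸ Ideal.span {πB})) _ (hz.trans (map_zero _).symm)
    have h2 := hind.cardinalMk_le_trdeg
    rw [hJ] at h2
    haveI : FaithfulSMul k K := (faithfulSMul_iff_algebraMap_injective k K).2 (algebraMap k K).injective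
    haveI : FaithfulSMul K (ResW (k := k) K πB) :=
      (faithfulSMul_iff_algebraMap_injective K _).2 (algebraMap K (ResW (k := k) K πB)).injective
    rw [← trdeg_add_eq k K (A := ResW (k := k) K πB), hKn]
    gcongr
  have hL' : (m : Cardinal.{u}) ≤ Algebra.trdeg k L' := by
    haveI : FaithfulSMul L' (ResW (k := k) K πB) :=
      (faithfulSMul_iff_algebraMap_injective L' _).2 (algebraMap L' (ResW (k := k) K πB)).injective
    haveI : FaithfulSMul k L' := (faithfulSMul_iff_algebraMap_injective k L').2 (algebraMap k L').injective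
    have hadd := trdeg_add_eq k L' (A := ResW (k := k) K πB)
    obtain ⟨J, u, hu⟩ := exists_isTranscendenceBasis' L' (ResW (k := k) K πB)
    -- lift a transcendence basis
    have hlift : ∀ z : ResW (k := k) K πB, ∃ x : subW (k := k) K F hπ, resW hπ x = z := by
      intro z
      obtain ⟨a, b, hb, rfl⟩ := IsFractionRing.div_surjective (K ⊗[k] (B ⧸ Ideal.span {πB})) z
      obtain ⟨P, rfl⟩ := surjective_mapQ (k := k) (K := K) πB a
      obtain ⟨Q, rfl⟩ := surjective_mapQ (k := k) (K := K) πB b
      have hQ : ¬ (1 : K) ⊗ₜ[k] πB ∣ Q := fun hd => nonZeroDivisors.ne_zero hb ((dvd_iff' πB Q).1 hd)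
      have hjQ : jB (k := k) K B F Q ≠ 0 := fun h0 => hQ (by
        rw [jB_injective (k := k) (F := F) (h0.trans (map_zero _).symm)]; exact dvd_zero _)
      refine ⟨⟨jB (k := k) K B F P / jB (k := k) K B F Q, P, Q, hQ, div_mul_cancel₀ _ hjQ⟩, ?_⟩
      rw [eq_div_iff (IsFractionRing.to_map_ne_zero_of_mem_nonZeroDivisors hb)]
      exact resW_spec hπ _ hQ (div_mul_cancel₀ _ hjQ)
    choose lf hlf using hlift
    letI : Algebra K F := μ.toRingHom.toAlgebra
    have hind : AlgebraicIndependent K (fun j => (lf (u j) : F)) := by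
      rw [algebraicIndependent_iff]
      intro p hp
      by_contra hp0
      obtain ⟨I₀, hI₀, hmax⟩ := Finset.exists_max_image p.support (fun I => V.valuation (p.coeff I))
        (MvPolynomial.support_nonempty.2 hp0)
      have hc0 : p.coeff I₀ ≠ 0 := MvPolynomial.mem_support_iff.1 hI₀
      have hdmem : ∀ I, p.coeff I / p.coeff I₀ ∈ VA := by
        intro I
        by_cases hI : I ∈ p.support
        · show p.coeff I / p.coeff I₀ ∈ V
          rw [← V.valuation_le_one_iff, map_div₀]
          exact div_le_one₀ (zero_lt_iff.2 ((map_ne_zero V.valuation).2 hc0)) |>.2 (hmax I hI)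
        · rw [MvPolynomial.notMem_support_iff.1 hI, zero_div]; exact zero_mem _
      let q : MvPolynomial J L' := ∑ I ∈ p.support, MvPolynomial.monomial I ⟨ψ ⟨_, hdmem I⟩, _, rfl⟩
      let mono : (J →₀ ℕ) → subW (k := k) K F hπ := fun I => I.prod fun j e => lf (u j) ^ e
      have hsum : (∑ I ∈ p.support, (⟨μ _, hdmem I⟩ : subW (k := k) K F hπ) * mono I) = 0 := by
        apply Subtype.ext
        have h1 : ∑ I ∈ p.support, μ (p.coeff I) * (mono I : F) = 0 := by
          rw [← hp, MvPolynomial.aeval_def, MvPolynomial.eval₂_eq]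
          refine Finset.sum_congr rfl fun I _ => ?_
          rw [show (mono I : F) = (subW (k := k) K F hπ).val (mono I) from rfl]
          simp only [mono, Finsupp.prod, map_prod, map_pow]
          rfl
        show ((∑ I ∈ p.support, (⟨μ _, hdmem I⟩ : subW (k := k) K F hπ) * mono I : subW (k := k) K F hπ) : F) = 0
        rw [AddSubmonoidClass.coe_finsetSum]
        simp only [MulMemClass.coe_mul, map_div₀, div_mul_eq_mul_div]
        rw [← Finset.sum_div, h1, zero_div]
      have hq : MvPolynomial.aeval u q = 0 := by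
        have := congrArg (resW hπ) hsum
        rw [map_sum, map_zero] at this
        rw [← this]
        simp only [q, map_sum, MvPolynomial.aeval_monomial]
        refine Finset.sum_congr rfl fun I _ => ?_
        rw [map_mul]
        congr 1
        simp only [mono, Finsupp.prod, map_prod, map_pow, hlf]
      have hq0 := (algebraicIndependent_iff.1 hu.1) q hq
      have := congrArg (MvPolynomial.coeff I₀) hq0
      rw [MvPolynomial.coeff_sum, MvPolynomial.coeff_zero,
        Finset.sum_eq_single I₀ (fun b _ hb => by rw [MvPolynomial.coeff_monomial, if_neg hb])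
          (fun h => absurd hI₀ h), MvPolynomial.coeff_monomial, if_pos rfl] at this
      have h' : ψ ⟨_, hdmem I₀⟩ = 0 := congrArg Subtype.val this
      rw [show (⟨_, hdmem I₀⟩ : VA) = 1 from Subtype.ext (div_self hc0), map_one] at h'
      exact one_ne_zero h'
    have hule : Cardinal.mk J ≤ Algebra.trdeg K F := hind.cardinalMk_le_trdeg
    -- the double function field has dimension at most `2n`
    let aK : K →ₐ[k] F := (IsScalarTower.toAlgHom k (K ⊗[k] K) F).comp Algebra.TensorProduct.includeLeft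
    let bK : K →ₐ[k] F := (IsScalarTower.toAlgHom k (K ⊗[k] K) F).comp Algebra.TensorProduct.includeRight
    have hFle : Algebra.trdeg k F ≤ (n : Cardinal.{u}) + n := by
      rw [← trdeg_add_hom aK, hKn]
      gcongr
      rw [← hKn]
      letI : Algebra K F := aK.toRingHom.toAlgebra
      refine TrdegBC19.trdeg_le_of_composite (k := k) (K := K) (L := K) (M := F) bK.toRingHom
        (RingHom.ext fun r => (bK.commutes r).trans (aK.commutes r).symm) ?_
      rw [eq_top_iff]
      rintro x -
      obtain ⟨a, b, hb, rfl⟩ := IsFractionRing.div_surjective (K ⊗[k] K) x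
      have hz : ∀ z : K ⊗[k] K, algebraMap _ F z ∈
          Subfield.closure (Set.range bK.toRingHom ∪ Set.range (algebraMap K F)) := by
        intro z
        induction z using TensorProduct.induction_on with
        | zero => rw [map_zero]; exact zero_mem _
        | tmul s t =>
          rw [show s ⊗ₜ[k] t = (s ⊗ₜ[k] (1 : K)) * ((1 : K) ⊗ₜ[k] t) by simp, map_mul]
          exact mul_mem (Subfield.subset_closure (Or.inr ⟨s, rfl⟩)) (Subfield.subset_closure (Or.inl ⟨t, rfl⟩))
        | add s t hs ht => rw [map_add]; exact add_mem hs ht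
      exact div_mem (hz a) (hz b)
    have hμF : Algebra.trdeg k K + Algebra.trdeg K F = Algebra.trdeg k F := trdeg_add_hom μ
    have hsum : (n : Cardinal.{u}) + m ≤ Algebra.trdeg k L' + Cardinal.mk J := by
      rw [hu.cardinalMk_eq_trdeg, hadd]
      exact hW
    rw [hKn] at hμF
    obtain ⟨f, hf⟩ := Cardinal.lt_aleph0.1 (lt_of_le_of_lt hFle (by
      exact Cardinal.add_lt_aleph0 (Cardinal.natCast_lt_aleph0) (Cardinal.natCast_lt_aleph0)))
    rw [hf] at hμF hFle
    obtain ⟨t, ht⟩ := Cardinal.lt_aleph0.1 (lt_of_le_of_lt (le_add_left (le_refl (Algebra.trdeg K F)))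
      (by rw [hμF]; exact Cardinal.natCast_lt_aleph0))
    rw [ht] at hμF hule
    obtain ⟨j, hj⟩ := Cardinal.lt_aleph0.1 (lt_of_le_of_lt hule Cardinal.natCast_lt_aleph0)
    rcases lt_or_ge (Algebra.trdeg k L') Cardinal.aleph0 with hfin | hinf
    · obtain ⟨s, hs⟩ := Cardinal.lt_aleph0.1 hfin
      rw [hs, hj] at hsum
      rw [hj] at hule
      rw [hs]
      norm_cast at hsum hule hμF hFle ⊢
      omega
    · exact (Cardinal.natCast_lt_aleph0.le).trans hinf
  obtain ⟨J, l, hl⟩ := exists_isTranscendenceBasis' k L'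
  rw [← hl.cardinalMk_eq_trdeg] at hL'
  obtain ⟨emb⟩ : Nonempty (Fin m ↪ J) := Cardinal.lift_mk_le'.1 (by simpa using hL')
  choose z hz using fun i : Fin m => (l (emb i)).2
  have hzind : AlgebraicIndependent k (fun i => ψ (z i)) := by
    have h1 := (hl.1.comp emb emb.injective).map' (f := L'.val) Subtype.val_injective
    convert h1 using 1
    funext i
    exact hz i
  -- a first model inside the valuation ring
  obtain ⟨f, hf⟩ := hne
  have hf0 : f⁻¹ ∈ VA := (V.mem_or_inv_mem f).resolve_left hf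
  have hfne : f ≠ 0 := fun h => hf (by rw [h, map_zero]; exact zero_mem (subW (k := k) K F hπ))
  have hψf : ψ ⟨_, hf0⟩ = 0 := by
    by_contra h
    have h' := hψinv _ h
    rw [inv_inv] at h'
    exact hf h'
  obtain ⟨S, hS⟩ := (inferInstance : Algebra.FiniteType k B).out
  let pick : K → K := fun a => if a ∈ VA then a else a⁻¹
  let T₀ : Finset K := (S.image fun c => pick (algebraMap B K c)) ∪ Finset.univ.image (fun i => (z i : K)) ∪ {f⁻¹}
  have hT₀ : ∀ x ∈ T₀, x ∈ VA := by
    intro x hx
    simp only [T₀, Finset.mem_union, Finset.mem_image, Finset.mem_singleton] at hx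
    rcases hx with (⟨c, -, rfl⟩ | ⟨i, -, rfl⟩) | rfl
    · simp only [pick]
      split_ifs with ha
      · exact ha
      · exact (V.mem_or_inv_mem (algebraMap B K c)).resolve_left ha
    · exact (z i).2
    · exact hf0
  let A₀ : Subalgebra k K := Algebra.adjoin k (T₀ : Set K)
  have hA₀V : A₀ ≤ VA := Algebra.adjoin_le hT₀
  haveI : Algebra.FiniteType k A₀ := Subalgebra.fg_iff_finiteType A₀ |>.1 ⟨T₀, rfl⟩
  have hclos : ∀ x : K, x ∈ Subfield.closure (A₀ : Set K) := by
    intro x
    obtain ⟨a, b, -, rfl⟩ := IsFractionRing.div_surjective B x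
    have hB : ∀ c : B, algebraMap B K c ∈ Subfield.closure (A₀ : Set K) := by
      intro c
      have hc : c ∈ Algebra.adjoin k (S : Set B) := hS.symm ▸ Algebra.mem_top
      induction hc using Algebra.adjoin_induction with
      | mem y hy =>
        have hp : pick (algebraMap B K y) ∈ A₀ := Algebra.subset_adjoin (Finset.mem_union_left _
          (Finset.mem_union_left _ (Finset.mem_image_of_mem _ hy)))
        simp only [pick] at hp
        split_ifs at hp with h
        · exact Subfield.subset_closure hp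
        · simpa using inv_mem (Subfield.subset_closure hp : (algebraMap B K y)⁻¹ ∈ Subfield.closure (A₀ : Set K))
      | algebraMap r =>
        rw [← IsScalarTower.algebraMap_apply k B K]
        exact Subfield.subset_closure (A₀.algebraMap_mem r)
      | add s t _ _ hs ht => rw [map_add]; exact add_mem hs ht
      | mul s t _ _ hs ht => rw [map_mul]; exact mul_mem hs ht
    exact div_mem (hB a) (hB b)
  have hfrac : ∀ (A : Subalgebra k K), A₀ ≤ A → IsFractionRing A K := by
    intro A hA
    haveI : FaithfulSMul A K := (faithfulSMul_iff_algebraMap_injective A K).2 Subtype.val_injective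
    refine IsFractionRing.of_field A K fun x => ?_
    obtain ⟨a, ha, b, hb, rfl⟩ := Subfield.mem_closure_iff.1 (hclos x)
    have hcl : Subring.closure (A₀ : Set K) ≤ A.toSubring := Subring.closure_le.2 fun y hy => hA hy
    exact ⟨⟨a, hcl ha⟩, ⟨b, hcl hb⟩, rfl⟩
  haveI : IsFractionRing A₀ K := hfrac A₀ le_rfl
  haveI : Module.Finite A₀ (integralClosure A₀ K) := Japanese.finite_integralClosure (k := k) A₀ K K
  let A₁ : Subalgebra k K := (integralClosure A₀ K).restrictScalars k
  have hA₀₁ : A₀ ≤ A₁ := fun x hx => (integralClosure A₀ K).algebraMap_mem ⟨x, hx⟩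
  haveI : Algebra.FiniteType k A₁ := Algebra.FiniteType.trans (R := k) (S := A₀) (A := integralClosure A₀ K)
    inferInstance inferInstance
  haveI : IsFractionRing A₁ K := hfrac A₁ hA₀₁
  have hA₁V : A₁ ≤ VA := by
    intro x hx
    have hint : IsIntegral A₀ x := hx
    let incl : A₀ →+* V := (A₀.val : A₀ →+* K).codRestrict V.toSubring fun a => hA₀V a.2
    have h2 : IsIntegral V x := hint.map_of_comp_eq incl (RingHom.id K) (RingHom.ext fun a => rfl)
    obtain ⟨v, hv⟩ := (IsIntegrallyClosed.isIntegral_iff).1 h2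
    rw [← hv]
    exact v.2
  haveI : IsNoetherianRing A₁ := Algebra.FiniteType.isNoetherianRing k A₁
  haveI : IsIntegrallyClosed A₁ := (isIntegrallyClosed_iff K).2 fun {x} hx => by
    refine ⟨⟨x, ?_⟩, rfl⟩
    haveI : Algebra.IsIntegral A₀ (integralClosure A₀ K) := IsIntegralClosure.isIntegral_algebra A₀ K
    exact isIntegral_trans (R := A₀) (A := integralClosure A₀ K) x hx
  let ψ₁ : A₁ →ₐ[k] ResW (k := k) K πB := ψ.comp (Subalgebra.inclusion hA₁V)
  let q₁ : Ideal A₁ := RingHom.ker ψ₁
  haveI : q₁.IsPrime := RingHom.ker_isPrime ψ₁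
  let f₁ : A₁ := ⟨f⁻¹, hA₀₁ (Algebra.subset_adjoin (by simp [T₀]))⟩
  have hf₁ : f₁ ∈ q₁ := hψf
  have hq0 : q₁ ≠ ⊥ := fun h => inv_ne_zero hfne (by
    rw [h, Ideal.mem_bot] at hf₁
    exact congrArg Subtype.val hf₁)
  have hdimA₁ : ringKrullDim A₁ = n := by
    obtain ⟨n₁, hn₁, hd₁⟩ := Dim.exists_nat_trdeg_eq_and_ringKrullDim_eq k A₁
    rw [hd₁]
    have := (trdeg_frac (k := k) (A := A₁) (K := K)).symm.trans hKn
    rw [hn₁] at this
    norm_cast at this ⊢
  have hq1 : q₁.height = 1 := by
    obtain ⟨d, hd, hdd⟩ := Dim.exists_nat_trdeg_eq_and_ringKrullDim_eq k (A₁ ⧸ q₁)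
    have hmd : m ≤ d := by
      let φ : (A₁ ⧸ q₁) →ₐ[k] ResW (k := k) K πB := Ideal.Quotient.liftₐ q₁ ψ₁ fun a ha => ha
      have hi : AlgebraicIndependent k (fun i : Fin m => Ideal.Quotient.mk q₁
          (⟨z i, hA₀₁ (Algebra.subset_adjoin (by simp [T₀]))⟩ : A₁)) :=
        AlgebraicIndependent.of_comp φ hzind
      have h2 := hi.lift_cardinalMk_le_trdeg
      rw [hd] at h2
      simpa using h2
    have h := AffDom.height_add_ringKrullDim_quotient (k := k) A₁ q₁
    rw [hdd, hdimA₁] at h
    obtain ⟨e, he⟩ := ENat.ne_top_iff_exists.mp (Ideal.height_ne_top (I := q₁) Ideal.IsPrime.ne_top')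
    rw [← he] at h ⊢
    have he0 : e ≠ 0 := by
      rintro rfl
      exact hq0 (Ideal.height_eq_zero_iff_eq_bot.1 he.symm)
    have h' : e + d = n := by exact_mod_cast h
    norm_cast
    omega
  -- the local ring is principal
  let R₁ := Localization.AtPrime q₁
  haveI : IsNoetherianRing R₁ := IsLocalization.isNoetherianRing q₁.primeCompl R₁ inferInstance
  haveI : IsIntegrallyClosed R₁ := isIntegrallyClosed_of_isLocalization R₁ q₁.primeCompl
    (Ideal.primeCompl_le_nonZeroDivisors q₁)
  have hdim₁ : ringKrullDim R₁ = 1 := by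
    rw [IsLocalization.AtPrime.ringKrullDim_eq_height q₁ R₁, hq1]; rfl
  have hpr : (IsLocalRing.maximalIdeal R₁).IsPrincipal := by
    refine (((tfae_of_isNoetherianRing_of_isLocalRing_of_isDomain R₁).out 3 4 : IsIntegrallyClosed R₁ ∧
      (∀ P : Ideal R₁, P ≠ ⊥ → P.IsPrime → P = IsLocalRing.maximalIdeal R₁) ↔
      (IsLocalRing.maximalIdeal R₁).IsPrincipal)).1 ⟨inferInstance, fun P hP hP' => ?_⟩
    haveI := hP'
    by_contra hne'
    have hlt : P < IsLocalRing.maximalIdeal R₁ := lt_of_le_of_ne (IsLocalRing.le_maximalIdeal hP'.ne_top) hne'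
    have h1 := Ideal.height_strict_mono_of_isPrime hlt
    have h2 : (IsLocalRing.maximalIdeal R₁).height = 1 := by
      have := IsLocalRing.maximalIdeal_height_eq_ringKrullDim (R := R₁)
      rw [hdim₁] at this
      exact_mod_cast this
    rw [h2, Order.lt_one_iff, Ideal.height_eq_zero_iff_eq_bot] at h1
    exact hP h1
  obtain ⟨π₀, hπ₀⟩ := hpr
  obtain ⟨⟨π₁, s₁⟩, hπ₁⟩ := IsLocalization.surj q₁.primeCompl π₀
  have hgen : ∀ a ∈ q₁, ∃ s : A₁, s ∉ q₁ ∧ π₁ ∣ s * a := by
    intro a ha
    have h1 : algebraMap A₁ R₁ a ∈ IsLocalRing.maximalIdeal R₁ := by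
      rw [← Localization.AtPrime.map_eq_maximalIdeal]; exact Ideal.mem_map_of_mem _ ha
    rw [hπ₀, Ideal.submodule_span_eq, Ideal.mem_span_singleton'] at h1
    obtain ⟨c, hc⟩ := h1
    obtain ⟨⟨c₀, t⟩, hct⟩ := IsLocalization.surj q₁.primeCompl c
    refine ⟨s₁ * t, fun h => (Ideal.IsPrime.mem_or_mem ‹_› h).elim s₁.2 t.2, ⟨c₀, ?_⟩⟩
    apply IsLocalization.injective R₁ (Ideal.primeCompl_le_nonZeroDivisors q₁)
    simp only [map_mul]
    linear_combination (algebraMap A₁ R₁ (t : A₁) * algebraMap A₁ R₁ (s₁ : A₁)) * (-hc) + (c * algebraMap A₁ R₁ (t : A₁)) * hπ₁ + (algebraMap A₁ R₁ π₁) * hct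
  have hπ₁q : π₁ ∈ q₁ := by
    have h1 : algebraMap A₁ R₁ π₁ ∈ IsLocalRing.maximalIdeal R₁ := by
      rw [← hπ₁, hπ₀]
      exact Ideal.mul_mem_right _ _ (Submodule.mem_span_singleton_self π₀)
    exact (IsLocalization.AtPrime.to_map_mem_maximal_iff R₁ q₁ π₁).1 h1
  obtain ⟨Sq, hSq⟩ := (IsNoetherian.noetherian q₁ : q₁.FG)
  choose σ hσ hdvd using fun a : Sq => hgen a.1 (hSq ▸ Ideal.subset_span a.2)
  let h : A₁ := ∏ a, σ a
  have hh : h ∉ q₁ := fun hm => by
    obtain ⟨a, -, ha⟩ := (Ideal.IsPrime.prod_mem_iff (p := q₁)).1 hm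
    exact hσ a ha
  have hall : ∀ a ∈ q₁, π₁ ∣ h * a := by
    intro a ha
    rw [← hSq] at ha
    induction ha using Submodule.span_induction with
    | mem x hx => exact (hdvd ⟨x, hx⟩).trans (mul_dvd_mul_right (Finset.dvd_prod_of_mem σ (Finset.mem_univ _)) x)
    | zero => rw [mul_zero]; exact dvd_zero _
    | add x y _ _ hx hy => rw [mul_add]; exact dvd_add hx hy
    | smul c x _ hx => rw [smul_eq_mul, mul_left_comm]; exact dvd_mul_of_dvd_right hx c
  have hhV : ((h : K))⁻¹ ∈ VA := hψinv ⟨h, hA₁V h.2⟩ hh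
  have hh0 : (h : K) ≠ 0 := fun e => hh (by rw [show h = 0 from Subtype.ext e]; exact zero_mem _)
  obtain ⟨S₁, hS₁⟩ := A₁.fg_iff_finiteType.2 inferInstance
  let A : Subalgebra k K := Algebra.adjoin k ((insert (h : K)⁻¹ S₁ : Finset K) : Set K)
  have hA₁A : A₁ ≤ A := hS₁ ▸ Algebra.adjoin_mono (by simp)
  have hrep : ∀ x ∈ A, ∃ (a : A₁) (i : ℕ), x * (h : K) ^ i = a := by
    intro x hx
    induction hx using Algebra.adjoin_induction with
    | mem y hy =>
      simp only [Finset.coe_insert, Set.mem_insert_iff, Finset.mem_coe] at hy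
      rcases hy with rfl | hy
      · exact ⟨1, 1, by simp [inv_mul_cancel₀ hh0]⟩
      · exact ⟨⟨y, hS₁ ▸ Algebra.subset_adjoin hy⟩, 0, by simp⟩
    | algebraMap r => exact ⟨algebraMap k A₁ r, 0, by simp⟩
    | add s t _ _ hs ht =>
      obtain ⟨a, i, hi⟩ := hs; obtain ⟨b, j, hj⟩ := ht
      refine ⟨a * h ^ j + b * h ^ i, i + j, ?_⟩
      simp only [AddMemClass.coe_add, MulMemClass.coe_mul, SubmonoidClass.coe_pow, pow_add]
      linear_combination ((h : K) ^ j) * hi + ((h : K) ^ i) * hj
    | mul s t _ _ hs ht =>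
      obtain ⟨a, i, hi⟩ := hs; obtain ⟨b, j, hj⟩ := ht
      refine ⟨a * b, i + j, ?_⟩
      simp only [MulMemClass.coe_mul, pow_add]
      linear_combination (t * (h : K) ^ j) * hi + (a : K) * hj
  have hAV : A ≤ VA := Algebra.adjoin_le (by
    intro x hx
    simp only [Finset.coe_insert, Set.mem_insert_iff, Finset.mem_coe] at hx
    rcases hx with rfl | hx
    · exact hhV
    · exact hA₁V (hS₁ ▸ Algebra.subset_adjoin hx))
  let π : A := ⟨π₁, hA₁A π₁.2⟩
  haveI : Algebra.FiniteType k A := A.fg_iff_finiteType.1 ⟨_, rfl⟩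
  haveI hfA : IsFractionRing A K := hfrac A (hA₀₁.trans hA₁A)
  let ψA : A →ₐ[k] ResW (k := k) K πB := ψ.comp (Subalgebra.inclusion hAV)
  have hiff : ∀ x : A, π ∣ x ↔ ψA x = 0 := by
    intro x
    constructor
    · rintro ⟨y, rfl⟩
      rw [map_mul, show ψA π = 0 from hπ₁q, zero_mul]
    · intro hx
      obtain ⟨a, i, hi⟩ := hrep x x.2
      have ha : a ∈ q₁ := by
        show ψ₁ a = 0
        have e : Subalgebra.inclusion hA₁V a = Subalgebra.inclusion hAV x * (Subalgebra.inclusion hA₁V h) ^ i :=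
          Subtype.ext hi.symm
        show ψ (Subalgebra.inclusion hA₁V a) = 0
        rw [e, map_mul, show ψ (Subalgebra.inclusion hAV x) = 0 from hx, zero_mul]
      obtain ⟨c, hc⟩ := hall a ha
      have hhA : (h : K)⁻¹ ∈ A := Algebra.subset_adjoin (by simp)
      refine ⟨⟨(c : K) * ((h : K)⁻¹) ^ (i + 1), mul_mem (hA₁A c.2) (pow_mem hhA _)⟩, Subtype.ext ?_⟩
      have hc' : (h : K) * a = (π₁ : K) * c := congrArg Subtype.val hc
      show (x : K) = (π₁ : K) * ((c : K) * ((h : K)⁻¹) ^ (i + 1))
      rw [← mul_assoc, ← hc', ← hi, inv_pow, pow_succ]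
      field_simp
  have hπne : π ≠ 0 := fun e => by
    have e2 : (π₁ : K) = 0 := congrArg (fun t : A => (t : K)) e
    have e' : (π₁ : A₁) = 0 := Subtype.ext e2
    obtain ⟨c, hc⟩ := hall f₁ hf₁
    rw [e', zero_mul] at hc
    have := congrArg Subtype.val hc
    simp [f₁, hh0, hfne] at this
  have hprime : Prime π := by
    refine ⟨hπne, fun hu => ?_, fun a b hab => ?_⟩
    · have := (hiff 1).1 (isUnit_iff_dvd_one.1 hu)
      rw [map_one] at this
      exact one_ne_zero this
    · rw [hiff, map_mul, mul_eq_zero] at hab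
      exact hab.imp (hiff a).2 (hiff b).2
  have hInO : ∀ x : K, InO π x ↔ x ∈ VA := by
    intro x
    constructor
    · rintro ⟨a, b, hb, hab⟩
      have hbinv := hψinv (Subalgebra.inclusion hAV b) fun e => hb ((hiff b).2 e)
      have hb0 : (b : K) ≠ 0 := fun e => hb ((show b = 0 from Subtype.ext e) ▸ dvd_zero π)
      have e : x = (a : K) * (b : K)⁻¹ := by
        rw [← show x * (b : K) = (a : K) from hab, mul_assoc, mul_inv_cancel₀ hb0, mul_one]
      rw [e]
      exact mul_mem (hAV a.2) hbinv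
    · intro hx
      rcases eq_or_ne x 0 with rfl | hx0
      · exact ⟨0, 1, fun h => hprime.not_unit (isUnit_of_dvd_one h), by simp⟩
      haveI : IsNoetherianRing A := Algebra.FiniteType.isNoetherianRing k A
      obtain ⟨a, b, hb, rfl⟩ := IsFractionRing.div_surjective A x
      have ha0 : a ≠ 0 := fun e => hx0 (by rw [e, map_zero, zero_div])
      obtain ⟨i, a', ha', rfl⟩ := WfDvdMonoid.max_power_factor ha0 hprime.irreducible
      obtain ⟨j, b', hb', rfl⟩ := WfDvdMonoid.max_power_factor (nonZeroDivisors.ne_zero hb) hprime.irreducible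
      have hπK : algebraMap A K π ≠ 0 := fun e => hπne (Subtype.ext e)
      have hb'K : algebraMap A K b' ≠ 0 := fun e => hb' ((show b' = 0 from Subtype.ext e) ▸ dvd_zero π)
      by_cases hji : j ≤ i
      · obtain ⟨d, rfl⟩ := Nat.exists_eq_add_of_le hji
        refine ⟨π ^ d * a', b', hb', ?_⟩
        simp only [map_mul, map_pow, pow_add]
        field_simp
      · exfalso
        push_neg at hji
        obtain ⟨d, rfl⟩ := Nat.exists_eq_add_of_lt hji
        apply ha'
        rw [hiff]
        let X : VA := ⟨_, hx⟩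
        have e : Subalgebra.inclusion hAV a' = X * Subalgebra.inclusion hAV (π ^ (d + 1) * b') := by
          refine Subtype.ext ?_
          show algebraMap A K a' = algebraMap A K (π ^ i * a') / algebraMap A K (π ^ (i + d + 1) * b') *
            algebraMap A K (π ^ (d + 1) * b')
          simp only [map_mul, map_pow, pow_add, pow_one]
          field_simp
        show ψ (Subalgebra.inclusion hAV a') = 0
        rw [e, map_mul]
        have : ψA (π ^ (d + 1) * b') = 0 := by
          rw [map_mul, map_pow, show ψA π = 0 from hπ₁q, zero_pow (by omega), zero_mul]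
        rw [show ψ (Subalgebra.inclusion hAV (π ^ (d + 1) * b')) = 0 from this, mul_zero]
  refine ⟨A, π, inferInstance, hfA, hprime, ?_, fun g x => ?_⟩
  · obtain ⟨n', hn', hd'⟩ := Dim.exists_nat_trdeg_eq_and_ringKrullDim_eq k A
    rw [hd', hdimB]
    have := (trdeg_frac (k := k) (A := A) (K := K)).symm.trans hKn
    rw [hn'] at this
    norm_cast at this ⊢
  · have key : ∀ g x, x ∈ VA → T g x ∈ VA := by
      intro g x hx
      show InW (k := k) (K := K) πB (μ (T g x))
      rw [show μ (T g x) = lam F (T g) (μ x) from (congr($(hΛ g) x)).symm]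
      exact lam_mem (T g) hx
    rw [hInO, hInO]
    refine ⟨key g x, fun h' => ?_⟩
    obtain ⟨g', hg'⟩ := hsymm g
    have := key g' _ h'
    rwa [hg', AlgEquiv.symm_apply_apply] at this

end GrothLib.Chev24
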