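import Groth.Agent.Lib.GenSubgrp14.Connected
import Groth.Agent.Lib.GrpSchField.Components
import Groth.Agent.Lib.GrpSchField.Criteria
import Groth.Agent.Lib.GrpSchField.Pts
import Groth.Agent.Lib.GrpSchField.Open
import Groth.Agent.Lib.Repr.GLHom
import Groth.Agent.Lib.UnitProd.Split
import Groth.Agent.Lib.Neutral.ArtinHom
import Groth.Agent.Lib.Neutral.FieldFactor
import Groth.Agent.Lib.GenSubgrp14.Product
import Groth.Agent.Lib.GoodQuot13.Basic
import Groth.Agent.S0021

/-!
# A connected family in a subgroup with enough algebraic representations generates an affine subgroup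
-/

set_option autoImplicit false
set_option linter.all false
set_option backward.isDefEq.respectTransparency false
set_option maxHeartbeats 400000

universe u

open CategoryTheory CategoryTheory.Limits MonoidalCategory CartesianMonoidalCategory MonObj GrpObj
open AlgebraicGeometry VecGrp WithConv Topology

noncomputable section

namespace GrothLib.Chev24

variable {k : Type u} [Field k] [IsAlgClosed k]

local notation "S₀" => Spec (CommRingCat.of k)
local notation "𝒞" => Over (Spec (CommRingCat.of k))

/-- The test point is the base. -/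
def unitIso : (𝟙_ (Over (Spec (CommRingCat.of k)))) ≅ pt k k :=
  Over.isoMk (Iso.refl _) (by
    show 𝟙 _ ≫ Spec.map (CommRingCat.ofHom (algebraMap k k)) = 𝟙 _
    rw [Category.id_comp]
    exact Spec.map_id _)

theorem exists_point {X : 𝒞} [LocallyOfFiniteType X.hom] {x : X.left} (hx : IsClosed ({x} : Set X.left)) :
    ∃ a : pt k k ⟶ X, a.left (IsLocalRing.closedPoint k) = x :=
  GrpSchField.exists_point_of_isClosed k hx

theorem point_ext {X : 𝒞} [LocallyOfFiniteType X.hom] [IsSeparated X.hom] {a b : pt k k ⟶ X}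
    (h : a.left (IsLocalRing.closedPoint k) = b.left (IsLocalRing.closedPoint k)) : a = b := by
  have h1 := GrothLib.GoodQuot13.rationalPoint_ext (unitIso.hom ≫ a) (unitIso.hom ≫ b) (by exact h)
  exact (cancel_epi unitIso.hom).1 h1


theorem isClosed_point {X : 𝒞} [LocallyOfFiniteType X.hom] [IsSeparated X.hom] (a : pt k k ⟶ X) :
    IsClosed ({a.left (IsLocalRing.closedPoint k)} : Set X.left) := by
  haveI : IsClosedImmersion (a.left ≫ X.hom) := by
    rw [Over.w]
    show IsClosedImmersion (Spec.map (CommRingCat.ofHom (algebraMap k k)))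
    exact IsClosedImmersion.spec_of_surjective _ Function.surjective_id
  haveI : IsClosedImmersion a.left := IsClosedImmersion.of_comp a.left X.hom
  have : Set.range a.left = {a.left (IsLocalRing.closedPoint k)} := by
    haveI : Subsingleton ↥(pt k k).left := inferInstanceAs (Subsingleton (PrimeSpectrum k))
    ext t
    constructor
    · rintro ⟨s, rfl⟩
      rw [Set.mem_singleton_iff, Subsingleton.elim s (IsLocalRing.closedPoint k)]
    · rintro rfl; exact ⟨_, rfl⟩
  rw [← this]
  exact a.left.isClosedEmbedding.isClosed_range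

/-- The single generator. -/
inductive One {G A₀ : 𝒞} (f₀ : A₀ ⟶ G) : ∀ A : 𝒞, (A ⟶ G) → Prop
  | mk : One f₀ A₀ f₀

theorem irreducibleSpace_word {G A₀ : 𝒞} [GrpObj G] {f₀ : A₀ ⟶ G} [IrreducibleSpace A₀.left] {W : 𝒞}
    {w : W ⟶ G} (h : GenSubgrp14.IsWord (One f₀) W w) : IrreducibleSpace W.left := by
  induction h with
  | one =>
    show IrreducibleSpace (Spec (CommRingCat.of k))
    exact PrimeSpectrum.irreducibleSpace
  | of h => cases h; infer_instance
  | inv _ ih => exact ih
  | @mul W W' _ _ _ _ ih ih' =>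
    haveI := ih; haveI := ih'
    exact GrpSchField.irreducibleSpace_pullback W.hom W'.hom

theorem lft_word {G A₀ : 𝒞} [GrpObj G] {f₀ : A₀ ⟶ G} [LocallyOfFiniteType A₀.hom] [QuasiCompact A₀.hom] {W : 𝒞}
    {w : W ⟶ G} (h : GenSubgrp14.IsWord (One f₀) W w) : LocallyOfFiniteType W.hom ∧ QuasiCompact W.hom := by
  induction h with
  | one => exact ⟨inferInstanceAs (LocallyOfFiniteType (𝟙 _)), inferInstanceAs (QuasiCompact (𝟙 _))⟩
  | of h => cases h; exact ⟨inferInstance, inferInstance⟩
  | inv _ ih => exact ih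
  | @mul W W' _ _ _ _ ih ih' =>
    haveI := ih.1; haveI := ih'.1; haveI := ih.2; haveI := ih'.2
    exact ⟨inferInstanceAs (LocallyOfFiniteType (pullback.fst W.hom W'.hom ≫ W.hom)),
      inferInstanceAs (QuasiCompact (pullback.fst W.hom W'.hom ≫ W.hom))⟩

/-- Every rational point of the subgroup generated by a family through the unit lies in every abstract
subgroup of rational points containing the values of the family. -/
theorem exists_generated {G : 𝒞} [GrpObj G] [LocallyOfFiniteType G.hom] [QuasiCompact G.hom]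
    {R : Type u} [CommRing R] [IsDomain R] [Algebra k R] [Algebra.FiniteType k R]
    (f₀ : pt k R ⟶ G) (ω₀ : R →ₐ[k] k) (h₀ : ptMap ω₀ ≫ f₀ = 1) (H : Subgroup (pt k k ⟶ G))
    (hH : ∀ ω : R →ₐ[k] k, ptMap ω ≫ f₀ ∈ H) :
    ∃ (Z : 𝒞) (_ : GrpObj Z) (z : Z ⟶ G), IsMonHom z ∧ IsClosedImmersion z.left ∧ Smooth Z.hom ∧
      IrreducibleSpace Z.left ∧ (∃ l : pt k R ⟶ Z, l ≫ z = f₀) ∧ ∀ x : pt k k ⟶ Z, x ≫ z ∈ H := by
  classical
  haveI : IsReduced (pt k R).left := inferInstanceAs (IsReduced (Spec (CommRingCat.of R)))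
  haveI : IrreducibleSpace (pt k R).left := inferInstanceAs (IrreducibleSpace (PrimeSpectrum R))
  haveI : LocallyOfFiniteType (pt k R).hom := by
    show LocallyOfFiniteType (Spec.map (CommRingCat.ofHom (algebraMap k R)))
    rw [HasRingHomProperty.Spec_iff (P := @LocallyOfFiniteType)]
    exact RingHom.finiteType_algebraMap.2 inferInstance
  haveI : QuasiCompact (pt k R).hom := inferInstanceAs (QuasiCompact (Spec.map _))
  have hgr : GeometricallyReduced (pt k R).hom := UnitProd.geometricallyReduced_of_isReduced _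
  have hGen : ∀ (A : 𝒞) (f : A ⟶ G), One f₀ A f → GeometricallyReduced A.hom ∧
      ConnectedSpace A.left ∧ ∃ x : 𝟙_ 𝒞 ⟶ A, x ≫ f = η[G] := by
    rintro A f ⟨⟩
    refine ⟨hgr, inferInstance, unitIso.hom ≫ ptMap ω₀, ?_⟩
    rw [Category.assoc, h₀, MonObj.comp_one, GenSubgrp14.eta_eq_one]
  obtain ⟨E⟩ := GenSubgrp14.nonempty_envelope (One f₀) (fun A f h => (hGen A f h).1)
  obtain ⟨Z, _, z, _, _, _, hrange, hlift⟩ := E
  haveI : LocallyOfFiniteType Z.hom := by rw [← Over.w z]; infer_instance
  haveI : QuasiCompact Z.hom := by rw [← Over.w z]; infer_instance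
  haveI : IsReduced Z.left := GenSubgrp14.isReduced_left Z
  haveI hsm : Smooth Z.hom := GrpSchField.smooth_of_perfectField_of_isReduced Z
  haveI : IsSeparated Z.hom := GrpSchField.isSeparated Z
  haveI : IsLocallyNoetherian G.left := LocallyOfFiniteType.isLocallyNoetherian G.hom
  haveI : IsLocallyNoetherian Z.left := LocallyOfFiniteType.isLocallyNoetherian Z.hom
  haveI : JacobsonSpace Z.left := LocallyOfFiniteType.jacobsonSpace Z.hom
  -- rational points of words lie in the subgroup
  have hwordH : ∀ (W : 𝒞) (w : W ⟶ G), GenSubgrp14.IsWord (One f₀) W w → ∀ x : pt k k ⟶ W, x ≫ w ∈ H := by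
    intro W w hw
    induction hw with
    | one =>
      intro x
      rw [GenSubgrp14.eta_eq_one, MonObj.comp_one]
      exact H.one_mem
    | of h =>
      cases h
      intro x
      obtain ⟨ω, rfl⟩ := Repr.exists_ptMap x
      exact hH ω
    | inv _ ih => intro x; rw [GrpObj.comp_inv]; exact H.inv_mem (ih x)
    | @mul W W' w w' _ _ ih ih' =>
      intro x
      rw [MonObj.comp_mul, ← Category.assoc, ← Category.assoc]
      exact H.mul_mem (ih _) (ih' _)
  -- a word with dense image
  have hirr : ∀ {W : 𝒞} {w : W ⟶ G}, GenSubgrp14.IsWord (One f₀) W w →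
      IsIrreducible (closure (Set.range w.left)) := fun {W w} hw => by
    haveI := irreducibleSpace_word hw
    rw [← Set.image_univ]
    exact ((IrreducibleSpace.isIrreducible_univ _).image _ w.left.continuous.continuousOn).closure
  let 𝒲 : Set G.left := {ζ | ∃ (W : 𝒞) (w : W ⟶ G), GenSubgrp14.IsWord (One f₀) W w ∧
    IsGenericPoint ζ (closure (Set.range w.left))}
  have h𝒲 : 𝒲.Nonempty := by
    obtain ⟨ζ, hζ⟩ := QuasiSober.sober (hirr (.one : GenSubgrp14.IsWord (One f₀) _ _)) isClosed_closure
    exact ⟨ζ, _, _, .one, hζ⟩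
  obtain ⟨ζ, ⟨W, w, hw, hζ⟩, hmin⟩ := WellFounded.has_min
    (InvImage.wf (fun ζ : G.left => (Order.coheight ζ : ℕ∞)) wellFounded_lt) 𝒲 h𝒲
  have hmax : ∀ (W' : 𝒞) (w' : W' ⟶ G), GenSubgrp14.IsWord (One f₀) W' w' →
      Set.range w'.left ⊆ closure (Set.range w.left) := by
    intro W' w' hw'
    obtain ⟨-, x, hx⟩ := hw.connected (One f₀) hGen
    obtain ⟨-, x', hx'⟩ := hw'.connected (One f₀) hGen
    let ww := (fst W W' ≫ w) * (snd W W' ≫ w')
    have hww : GenSubgrp14.IsWord (One f₀) (W ⊗ W') ww := .mul hw hw'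
    have h1 : lift (𝟙 W) (toUnit W ≫ x') ≫ ww = w := by
      rw [MonObj.comp_mul, lift_fst_assoc, lift_snd_assoc, Category.id_comp, Category.assoc, hx',
        GenSubgrp14.eta_eq_one, MonObj.comp_one, _root_.mul_one]
    have h2 : lift (toUnit W' ≫ x) (𝟙 W') ≫ ww = w' := by
      rw [MonObj.comp_mul, lift_fst_assoc, lift_snd_assoc, Category.id_comp, Category.assoc, hx,
        GenSubgrp14.eta_eq_one, MonObj.comp_one, _root_.one_mul]
    have hsub1 : Set.range w.left ⊆ Set.range ww.left := by
      rintro _ ⟨p, rfl⟩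
      exact ⟨(lift (𝟙 W) (toUnit W ≫ x')).left p, by rw [← Scheme.Hom.comp_apply, ← Over.comp_left, h1]⟩
    have hsub2 : Set.range w'.left ⊆ Set.range ww.left := by
      rintro _ ⟨p, rfl⟩
      exact ⟨(lift (toUnit W' ≫ x) (𝟙 W')).left p, by rw [← Scheme.Hom.comp_apply, ← Over.comp_left, h2]⟩
    obtain ⟨ζ', hζ'⟩ := QuasiSober.sober (hirr hww) isClosed_closure
    have hsp : ζ' ⤳ ζ := hζ'.specializes (closure_mono hsub1 hζ.mem)
    have heq : ζ' = ζ := by
      by_contra hne
      refine hmin ζ' ⟨_, _, hww, hζ'⟩ ?_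
      show Order.coheight ζ' < Order.coheight ζ
      have hlt : ζ < ζ' := lt_iff_le_not_ge.2 ⟨hsp, fun h' => hne (hsp.antisymm h').eq⟩
      refine Order.coheight_strictAnti hlt ?_
      have h3 := ringKrullDim_stalk_eq_coheight ζ'
      have h4 : ringKrullDim (G.left.presheaf.stalk ζ') < ⊤ := ringKrullDim_lt_top
      rw [h3] at h4
      exact WithBot.coe_lt_coe.1 h4
    calc Set.range w'.left ⊆ closure (Set.range ww.left) := hsub2.trans subset_closure
      _ = closure {ζ'} := hζ'.def.symm
      _ = closure (Set.range w.left) := by rw [heq]; exact hζ.def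
  obtain ⟨l, hl⟩ := hlift W w hw
  haveI := (lft_word hw).1
  haveI := (lft_word hw).2
  haveI : LocallyOfFiniteType l.left := by
    haveI : LocallyOfFiniteType (l.left ≫ Z.hom) := by rw [Over.w l]; infer_instance
    exact locallyOfFiniteType_of_comp l.left Z.hom
  haveI : QuasiCompact l.left := by
    haveI : QuasiCompact (l.left ≫ Z.hom) := by rw [Over.w l]; infer_instance
    exact QuasiCompact.of_comp l.left Z.hom
  have hdense : Dense (Set.range l.left) := by
    rw [z.left.isClosedEmbedding.isInducing.dense_iff]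
    intro y
    have hy : z.left y ∈ closure (Set.range w.left) := by
      refine closure_minimal ?_ isClosed_closure (hrange.le ⟨y, rfl⟩)
      rintro g ⟨W', w', hw', hg⟩
      exact hmax W' w' hw' hg
    rwa [← Set.range_comp, show z.left ∘ l.left = w.left by rw [← hl]; rfl]
  haveI := irreducibleSpace_word hw
  haveI hZirr : IrreducibleSpace Z.left := by
    have h1 := ((IrreducibleSpace.isIrreducible_univ W.left).image l.left l.left.continuous.continuousOn).closure
    rw [Set.image_univ, hdense.closure_eq] at h1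
    exact { isPreirreducible_univ := h1.2, toNonempty := ⟨h1.1.some⟩ }
  refine ⟨Z, inferInstance, z, inferInstance, inferInstance, hsm, hZirr, hlift _ _ (.of One.mk), ?_⟩
  let U : Set Z.left := interior (Set.range l.left)
  have hUd : Dense U := GenSubgrp14.dense_interior
    (Set.image_univ ▸ l.left.isLocallyConstructible_image IsConstructible.univ.isLocallyConstructible) hdense
  have hU : ∀ a : pt k k ⟶ Z, a.left (IsLocalRing.closedPoint k) ∈ U → a ≫ z ∈ H := by
    intro a ha
    obtain ⟨p, hp⟩ := interior_subset ha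
    -- lift the point along the word
    have hac : IsClosed ({a.left (IsLocalRing.closedPoint k)} : Set Z.left) := by
      haveI : IsClosedImmersion (a.left ≫ Z.hom) := by
        rw [Over.w]
        show IsClosedImmersion (Spec.map (CommRingCat.ofHom (algebraMap k k)))
        exact IsClosedImmersion.spec_of_surjective _ Function.surjective_id
      haveI : IsClosedImmersion a.left := IsClosedImmersion.of_comp a.left Z.hom
      have : Set.range a.left = {a.left (IsLocalRing.closedPoint k)} := by
        haveI : Subsingleton ↥(pt k k).left := inferInstanceAs (Subsingleton (PrimeSpectrum k))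
        ext t
        constructor
        · rintro ⟨s, rfl⟩
          rw [Set.mem_singleton_iff, Subsingleton.elim s (IsLocalRing.closedPoint k)]
        · rintro rfl; exact ⟨_, rfl⟩
      rw [← this]
      exact a.left.isClosedEmbedding.isClosed_range
    haveI : JacobsonSpace W.left := LocallyOfFiniteType.jacobsonSpace W.hom
    obtain ⟨q, hq, hqc⟩ := nonempty_inter_closedPoints (Z := l.left ⁻¹' {a.left (IsLocalRing.closedPoint k)})
      ⟨p, hp⟩ (hac.preimage l.left.continuous).isLocallyClosed
    obtain ⟨b, hb⟩ := exists_point hqc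
    have hba : b ≫ l = a := point_ext (by rw [Over.comp_left, Scheme.Hom.comp_apply, hb]; exact hq)
    rw [← hba, Category.assoc, hl]
    exact hwordH W w hw b
  intro x
  let xc : Z ⟶ Z := (toUnit Z ≫ unitIso.hom ≫ x) * (𝟙 Z)⁻¹
  have hinv : xc ≫ ((𝟙 Z)⁻¹ * (toUnit Z ≫ unitIso.hom ≫ x)) ≫ 𝟙 Z = 𝟙 Z := by
    rw [Category.comp_id, MonObj.comp_mul, GrpObj.comp_inv, Category.comp_id, ← Category.assoc,
      toUnit_unique (xc ≫ toUnit Z) (toUnit Z)]
    simp [xc, _root_.mul_assoc]
  have hsurj : Function.Surjective xc.left := by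
    intro y
    refine ⟨((𝟙 Z)⁻¹ * (toUnit Z ≫ unitIso.hom ≫ x)).left y, ?_⟩
    have : ((𝟙 Z)⁻¹ * (toUnit Z ≫ unitIso.hom ≫ x)) ≫ xc = 𝟙 Z := by
      simp only [xc, MonObj.comp_mul, GrpObj.comp_inv, Category.comp_id, ← Category.assoc]
      rw [toUnit_unique (_ ≫ toUnit Z) (toUnit Z)]
      simp [_root_.mul_assoc]
    rw [← Scheme.Hom.comp_apply, ← Over.comp_left, this]
    rfl
  have hne : (U ∩ xc.left ⁻¹' U).Nonempty := by
    obtain ⟨u, hu⟩ := hUd.nonempty
    obtain ⟨v, hv⟩ := hsurj u
    exact hUd.inter_open_nonempty _ (isOpen_interior.preimage xc.left.continuous) ⟨v, by rw [Set.mem_preimage, hv]; exact hu⟩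
      |>.mono (by rw [Set.inter_comm])
  obtain ⟨y, hy, hyc⟩ := nonempty_inter_closedPoints hne
    ((isOpen_interior.inter (isOpen_interior.preimage xc.left.continuous)).isLocallyClosed)
  obtain ⟨b, hb⟩ := exists_point hyc
  have e1 : x = (b ≫ xc) * b := by
    simp only [xc, MonObj.comp_mul, GrpObj.comp_inv, Category.comp_id, ← Category.assoc]
    rw [toUnit_unique (b ≫ toUnit Z) (unitIso.inv)]
    simp [_root_.mul_assoc]
  rw [e1, MonObj.mul_comp]
  refine H.mul_mem (hU _ ?_) (hU _ ?_)
  · rw [Over.comp_left, Scheme.Hom.comp_apply, hb]; exact hy.2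
  · rw [hb]; exact hy.1

/-- The rational points of the matrix group of an invertible matrix. -/
def glPt {N : ℕ} {B : Type u} [CommRing B] [Algebra k B] (M : Matrix (Fin N) (Fin N) B) (h : IsUnit M.det) :
    pt k B ⟶ Repr.GLsch k N :=
  Spec.mapMulEquiv (toConv (GrothLib.HMG.ofMat (k := k) M h))

theorem glPt_map {N : ℕ} {B B' : Type u} [CommRing B] [Algebra k B] [CommRing B'] [Algebra k B']
    (f : B →ₐ[k] B') (M : Matrix (Fin N) (Fin N) B) (h : IsUnit M.det) (h' : IsUnit (M.map f).det) :
    ptMap f ≫ glPt M h = glPt (M.map f) h' := by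
  refine (Repr.mapMulEquiv_comp f _).trans (congrArg Spec.mapMulEquiv (congrArg toConv ?_))
  refine GrothLib.HMG.ext_mat ?_
  rw [GrothLib.HMG.mat_comp, ofConv_toConv, GrothLib.HMG.mat_ofMat, GrothLib.HMG.mat_ofMat]

theorem glPt_inj {N : ℕ} {B : Type u} [CommRing B] [Algebra k B] {M M' : Matrix (Fin N) (Fin N) B}
    {h : IsUnit M.det} {h' : IsUnit M'.det} (e : glPt (k := k) M h = glPt M' h') : M = M' := by
  have := congrArg GrothLib.HMG.mat (congrArg WithConv.ofConv (Spec.mapMulEquiv.injective e))
  rwa [ofConv_toConv, ofConv_toConv, GrothLib.HMG.mat_ofMat, GrothLib.HMG.mat_ofMat] at this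

theorem glPt_mul {N : ℕ} {B : Type u} [CommRing B] [Algebra k B] (M M' : Matrix (Fin N) (Fin N) B)
    (h : IsUnit M.det) (h' : IsUnit M'.det) (h'' : IsUnit (M * M').det) :
    glPt (k := k) (M * M') h'' = glPt M h * glPt M' h' := by
  refine Eq.trans (congrArg Spec.mapMulEquiv (WithConv.ofConv_injective ?_)) (map_mul Spec.mapMulEquiv
    (toConv (GrothLib.HMG.ofMat (k := k) M h)) (toConv (GrothLib.HMG.ofMat (k := k) M' h')))
  refine GrothLib.HMG.ext_mat ?_
  rw [ofConv_toConv, GrothLib.HMG.mat_ofMat]
  refine (congrArg₂ (· * ·) (GrothLib.HMG.mat_ofMat _ h).symm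
    (GrothLib.HMG.mat_ofMat _ h').symm).trans ((GrothLib.HMG.mat_pmul (k := k)
      (GrothLib.HMG.ofMat (k := k) M h) (GrothLib.HMG.ofMat (k := k) M' h')).symm.trans ?_)
  refine congrArg GrothLib.HMG.mat (AlgHom.ext fun x => ?_)
  exact (AlgHom.convMul_apply (toConv _) (toConv _) x).symm

/-- A homomorphism which is injective on rational points is finite. -/
theorem isFinite_of_injective {Z G : 𝒞} [GrpObj Z] [GrpObj G] [LocallyOfFiniteType Z.hom] [QuasiCompact Z.hom]
    [LocallyOfFiniteType G.hom] [QuasiCompact G.hom] (p : Z ⟶ G) [IsMonHom p]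
    (hp : ∀ x : pt k k ⟶ Z, x ≫ p = 1 → x = 1) : IsFinite p.left := by
  haveI : IsSeparated G.hom := GrpSchField.isSeparated G
  haveI : IsSeparated Z.hom := GrpSchField.isSeparated Z
  haveI : QuasiCompact p.left := by
    haveI : QuasiCompact (p.left ≫ G.hom) := by rw [Over.w p]; infer_instance
    exact QuasiCompact.of_comp p.left G.hom
  haveI : LocallyOfFiniteType p.left := by
    haveI : LocallyOfFiniteType (p.left ≫ G.hom) := by rw [Over.w p]; infer_instance
    exact locallyOfFiniteType_of_comp p.left G.hom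
  rw [Neutral.isFinite_iff_discrete_kernel (A := k) p]
  let P := pullback p.left η[G].left
  let j := pullback.fst p.left η[G].left
  haveI := GrpSchField.unit_isClosedImmersion G
  haveI : IsClosedImmersion j := inferInstance
  haveI : JacobsonSpace Z.left := LocallyOfFiniteType.jacobsonSpace Z.hom
  have hsub : ∀ q : P, IsClosed ({q} : Set P) → j q = (1 : pt k k ⟶ Z).left (IsLocalRing.closedPoint k) := by
    intro q hq
    have hc : IsClosed ({j q} : Set Z.left) := by
      rw [← Set.image_singleton]; exact j.isClosedEmbedding.isClosedMap _ hq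
    obtain ⟨x, hx⟩ := exists_point hc
    suffices x = 1 by rw [← this, hx]
    refine hp x (point_ext ?_)
    rw [Over.comp_left, Scheme.Hom.comp_apply, hx, ← Scheme.Hom.comp_apply, pullback.condition,
      Scheme.Hom.comp_apply]
    haveI : Subsingleton ↥(𝟙_ 𝒞).left := inferInstanceAs (Subsingleton (PrimeSpectrum k))
    rw [Hom.one_def, Over.comp_left, Scheme.Hom.comp_apply]
    congr 1
    exact Subsingleton.elim _ _
  haveI : JacobsonSpace P := LocallyOfFiniteType.jacobsonSpace (j ≫ Z.hom)
  haveI : Subsingleton P := by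
    refine ⟨fun a b => ?_⟩
    by_contra hab
    obtain ⟨qa, hqa, hqac⟩ := nonempty_inter_closedPoints (Z := closure {a}) ⟨a, subset_closure rfl⟩
      isClosed_closure.isLocallyClosed
    have : closedPoints P ⊆ {qa} := fun t ht => j.isClosedEmbedding.injective ((hsub t ht).trans (hsub qa hqac).symm)
    have hd := closure_closedPoints (X := P)
    have hq : ({qa} : Set P) = Set.univ := by
      rw [Set.eq_univ_iff_forall]
      intro t
      have := hd.ge (Set.mem_univ t)
      exact (closure_minimal ‹closedPoints P ⊆ {qa}› hqac) this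
    exact hab (by rw [hq.symm.le (Set.mem_univ a), hq.symm.le (Set.mem_univ b)])
  exact Subsingleton.discreteTopology

end GrothLib.Chev24
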