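import Groth.Agent.Lib.Chev24.Loc

/-!
# Matrices of truncations of automorphisms fixing a point
-/

set_option autoImplicit false
set_option linter.all false
set_option maxHeartbeats 1000000

universe u

open scoped TensorProduct

noncomputable section

namespace GrothLib.Chev24

variable {k : Type u} [Field k] {K : Type u} [Field K] [Algebra k K]
  {A : Type u} [CommRing A] [Algebra k A] [Algebra A K] [IsFractionRing A K] [IsScalarTower k A K]
  {σ τ : K ≃ₐ[k] K} {e e' : A →ₐ[k] k} {n : ℕ} {d : ℕ}

theorem act_congr' (h : Carries σ e' e) (heq : σ = τ) (n : ℕ) : act h n = act (heq ▸ h : Carries τ e' e) n := by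
  subst heq; rfl

/-- The transposed matrix of a truncation. -/
@[irreducible] def actMat (b : Module.Basis (Fin d) k (jet e n)) (h : Carries σ e e) : Matrix (Fin d) (Fin d) k :=
  (LinearMap.toMatrix b b (act h n).toLinearMap).transpose

theorem actMat_def (b : Module.Basis (Fin d) k (jet e n)) (h : Carries σ e e) :
    actMat b h = (LinearMap.toMatrix b b (act h n).toLinearMap).transpose := by
  unfold actMat; rfl

theorem actMat_congr (b : Module.Basis (Fin d) k (jet e n)) (h : Carries σ e e) (h' : Carries τ e e) (heq : σ = τ) :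
    actMat b h = actMat b h' := by
  subst heq; rfl

theorem actMat_of_refl (b : Module.Basis (Fin d) k (jet e n)) (h : Carries σ e e) (heq : σ = AlgEquiv.refl) :
    actMat b h = 1 := by
  subst heq
  rw [actMat_def, show act h n = AlgHom.id k _ from act_refl e n, AlgHom.toLinearMap_id, LinearMap.toMatrix_id,
    Matrix.transpose_one]

theorem actMat_trans (b : Module.Basis (Fin d) k (jet e n)) {ρ : K ≃ₐ[k] K} (h : Carries σ e e)
    (h' : Carries τ e e) (h'' : Carries ρ e e) (heq : ρ = σ.trans τ) :
    actMat b h'' = actMat b h * actMat b h' := by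
  subst heq
  rw [actMat_def, actMat_def, actMat_def, show act h'' n = (act h' n).comp (act h n) from act_trans h h' n,
    AlgHom.comp_toLinearMap, LinearMap.toMatrix_comp b b b, Matrix.transpose_mul]

theorem actMat_eq_one_iff (b : Module.Basis (Fin d) k (jet e n)) (h : Carries σ e e) :
    actMat b h = 1 ↔ act h n = AlgHom.id k _ := by
  rw [actMat_def]
  constructor
  · intro h'
    refine AlgHom.toLinearMap_injective ((LinearMap.toMatrix b b).injective ?_)
    rw [AlgHom.toLinearMap_id, LinearMap.toMatrix_id]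
    exact Matrix.transpose_injective (h'.trans Matrix.transpose_one.symm)
  · intro h'
    rw [h', AlgHom.toLinearMap_id, LinearMap.toMatrix_id, Matrix.transpose_one]

theorem surjective_of_det (b : Module.Basis (Fin d) k (jet e n)) (h : Carries σ e e)
    (hu : IsUnit (actMat b h).det) : Function.Surjective (act h n) := by
  rw [actMat_def, Matrix.det_transpose] at hu
  intro y
  obtain ⟨z, hz⟩ := (LinearEquiv.ofIsUnitDet (f := (act h n).toLinearMap) (v := b) (v' := b) hu).surjective y
  exact ⟨z, hz⟩

theorem act_eq_id_of_succ (h : Carries σ e e) {m : ℕ} (h1 : act h (m + 1) = AlgHom.id k _) :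
    act h m = AlgHom.id k _ := by
  refine AlgHom.ext fun v => ?_
  obtain ⟨a, rfl⟩ := Ideal.Quotient.mk_surjective v
  have h2 := congr($h1 (Ideal.Quotient.mk _ a))
  rw [act_mk, AlgHom.id_apply] at h2
  rw [act_mk, AlgHom.id_apply]
  obtain ⟨c, c', hc', hcc⟩ := h.mem (algebraMap_mem_loc e a)
  have h3 := red_spec (n := m + 1) ⟨_, h.mem (algebraMap_mem_loc e a)⟩ hc' hcc
  rw [h2, ← map_mul] at h3
  apply (isUnit_jet e m hc').mul_left_injective
  show red e m _ * _ = _ * _
  rw [red_spec (n := m) ⟨_, h.mem (algebraMap_mem_loc e a)⟩ hc' hcc, ← map_mul, Ideal.Quotient.eq]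
  exact Ideal.pow_le_pow_right (Nat.le_succ m) (Ideal.Quotient.eq.1 h3.symm)

theorem ev_coord' {R V : Type u} [CommRing R] [Algebra k R] [CommRing V] [Algebra k V] (φ : V →ₗ[k] k)
    (ω : R →ₐ[k] k) (z : R ⊗[k] V) :
    ω (TensorProduct.rid k R (LinearMap.lTensor R φ z)) = φ (ev ω z) := by
  induction z using TensorProduct.induction_on with
  | zero => simp
  | tmul r v =>
    simp only [LinearMap.lTensor_tmul, TensorProduct.rid_tmul, map_smul, ev_tmul, ← Algebra.smul_def]
    simp [mul_comm]
  | add x y hx hy => simp [hx, hy]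

/-- The truncations of a family of automorphisms given by a family of maps are given by one matrix. -/
theorem exists_matrix (b : Module.Basis (Fin d) k (jet e n)) (hc' : Carries τ e e')
    {R : Type u} [CommRing R] [Algebra k R] (Ψ : A →ₐ[k] R ⊗[k] jet e n)
    (σs : (R →ₐ[k] k) → K ≃ₐ[k] K) (hσ : ∀ ω, Carries (σs ω) e' e)
    (hΨ : ∀ (ω : R →ₐ[k] k) (f : A), ev ω (Ψ f) = red e n ⟨σs ω (algebraMap A K f), (hσ ω).mem (algebraMap_mem_loc e' f)⟩) :
    ∃ M : Matrix (Fin d) (Fin d) R, ∀ (ω : R →ₐ[k] k) (h : Carries (τ.trans (σs ω)) e e),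
      M.map ω = actMat b h := by
  choose x hx using fun j => Ideal.Quotient.mk_surjective (act hc' n (b j))
  refine ⟨(Matrix.of fun i j => TensorProduct.rid k R (LinearMap.lTensor R (b.coord i) (Ψ (x j)))).transpose,
    fun ω h => ?_⟩
  rw [actMat_def, Matrix.transpose_map]
  congr 1
  ext i j
  rw [Matrix.map_apply, Matrix.of_apply, ev_coord', LinearMap.toMatrix_apply, hΨ ω, ← act_mk (hσ ω), hx,
    AlgHom.toLinearMap_apply, show act h n = (act (hσ ω) n).comp (act hc' n) from act_trans hc' (hσ ω) n,
    AlgHom.comp_apply]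
  rfl

end GrothLib.Chev24
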