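import Groth.Agent.Lib.Chev24.Orbit
import Groth.Agent.Lib.Chev24.Mat
import Groth.Agent.Lib.Chev24.Group

/-!
# A group acting on a function field with an invariant divisor contains an affine subgroup
-/

set_option autoImplicit false
set_option linter.all false
set_option backward.isDefEq.respectTransparency false
set_option maxHeartbeats 1000000
set_option synthInstance.maxHeartbeats 100000

universe u

open CategoryTheory CategoryTheory.Limits MonoidalCategory CartesianMonoidalCategory MonObj GrpObj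
open AlgebraicGeometry VecGrp Topology
open scoped TensorProduct

noncomputable section

namespace GrothLib.Chev24

variable {k : Type u} [Field k]

attribute [-instance] Hom.commGroup Hom.commMonoid CommGrpObj.toIsCommMonObj

local notation "S₀" => Spec (CommRingCat.of k)
local notation "𝒞" => Over (Spec (CommRingCat.of k))

variable [IsAlgClosed k]

/-- A family in a group of rational points with enough algebraic representations generates an affine
subgroup. -/
theorem exists_affine_of_reps {G : 𝒞} [GrpObj G] [LocallyOfFiniteType G.hom] [QuasiCompact G.hom]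
    {R : Type u} [CommRing R] [IsDomain R] [Algebra k R] [Algebra.FiniteType k R]
    (ψ : pt k R ⟶ G) (ω₂' : R →ₐ[k] k) (hψ1 : ptMap ω₂' ≫ ψ = 1)
    (hnc : ∃ ω : R →ₐ[k] k, ptMap ω ≫ ψ ≠ 1)
    (S : Subgroup (pt k k ⟶ G)) (hψS : ∀ ω : R →ₐ[k] k, ptMap ω ≫ ψ ∈ S)
    (d : ℕ → ℕ) (ρ : ∀ n, S →* Matrix (Fin (d n)) (Fin (d n)) k)
    (M : ∀ n, Matrix (Fin (d n)) (Fin (d n)) R) (hMdet : ∀ n, IsUnit (M n).det)
    (hMρ : ∀ n (ω : R →ₐ[k] k), (M n).map ω = ρ n ⟨_, hψS ω⟩)
    (hdec : ∀ n (s : S), ρ (n + 1) s = 1 → ρ n s = 1)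
    (hfaith : ∀ s : S, (∀ n, ρ n s = 1) → s = 1) :
    ∃ (H : 𝒞) (_ : GrpObj H) (j : H ⟶ G), IsMonHom j ∧ IsClosedImmersion j.left ∧
      Smooth H.hom ∧ IsAffine H.left ∧ 0 < topologicalKrullDim ↥H.left := by
  classical
  have hρdet : ∀ n s, IsUnit (ρ n s).det := fun n s => by
    refine Matrix.isUnit_det_of_right_inverse (B := ρ n s⁻¹) ?_
    rw [← map_mul, mul_inv_cancel, map_one]
  let Γ : Subgroup (pt k k ⟶ G) := Subgroup.closure (Set.range fun ω : R →ₐ[k] k => ptMap ω ≫ ψ)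
  have hΓS : Γ ≤ S := (Subgroup.closure_le S).2 (by rintro _ ⟨ω, rfl⟩; exact hψS ω)
  -- the image subgroup
  obtain ⟨Z₀, _, z₀, _, _, hsm₀, _, ⟨l₀, hl₀⟩, hz₀⟩ := exists_generated ψ ω₂' hψ1 Γ
    (fun ω => Subgroup.subset_closure ⟨ω, rfl⟩)
  have hz₀' : ∀ g ∈ Γ, ∃ y : pt k k ⟶ Z₀, y ≫ z₀ = g := by
    intro g hg
    induction hg using Subgroup.closure_induction with
    | mem x hx => obtain ⟨ω, rfl⟩ := hx; exact ⟨ptMap ω ≫ l₀, by rw [Category.assoc, hl₀]⟩
    | one => exact ⟨1, MonObj.one_comp z₀⟩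
    | mul x y _ _ hx hy =>
      obtain ⟨a, rfl⟩ := hx; obtain ⟨c, rfl⟩ := hy; exact ⟨a * c, MonObj.mul_comp a c z₀⟩
    | inv x _ hx => obtain ⟨a, rfl⟩ := hx; exact ⟨a⁻¹, GrpObj.inv_comp a z₀⟩
  -- the graphs
  have hG' : ∀ n, LocallyOfFiniteType (G ⊗ Repr.GLsch k (d n)).hom ∧ QuasiCompact (G ⊗ Repr.GLsch k (d n)).hom := by
    intro n
    haveI : LocallyOfFiniteType (Repr.GLsch k (d n)).hom := by
      show LocallyOfFiniteType (Spec.map (CommRingCat.ofHom (algebraMap k (CoordGrp.GLn (d n) k))))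
      rw [HasRingHomProperty.Spec_iff (P := @LocallyOfFiniteType)]
      exact RingHom.finiteType_algebraMap.2 inferInstance
    haveI : QuasiCompact (Repr.GLsch k (d n)).hom := inferInstanceAs (QuasiCompact (Spec.map _))
    exact ⟨inferInstanceAs (LocallyOfFiniteType (pullback.fst G.hom (Repr.GLsch k (d n)).hom ≫ G.hom)),
      inferInstanceAs (QuasiCompact (pullback.fst G.hom (Repr.GLsch k (d n)).hom ≫ G.hom))⟩
  haveI hGLft : ∀ n, LocallyOfFiniteType (Repr.GLsch k (d n)).hom := fun n => by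
    show LocallyOfFiniteType (Spec.map (CommRingCat.ofHom (algebraMap k (CoordGrp.GLn (d n) k))))
    rw [HasRingHomProperty.Spec_iff (P := @LocallyOfFiniteType)]
    exact RingHom.finiteType_algebraMap.2 inferInstance
  haveI hGLsep : ∀ n, IsSeparated (Repr.GLsch k (d n)).hom := fun n => inferInstanceAs (IsSeparated (Spec.map _))
  let rep := fun (n : ℕ) (s : S) => glPt (k := k) (ρ n s) (hρdet n s)
  have hrep : ∀ n s t, rep n (s * t) = rep n s * rep n t := fun n s t => by
    have e1 : ρ n (s * t) = ρ n s * ρ n t := map_mul _ _ _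
    have key : ∀ (Y : Matrix (Fin (d n)) (Fin (d n)) k) (hY : IsUnit Y.det), Y = ρ n s * ρ n t →
        glPt (k := k) Y hY = glPt (ρ n s) (hρdet n s) * glPt (ρ n t) (hρdet n t) := by
      rintro Y hY rfl; exact glPt_mul _ _ _ _ hY
    exact key _ _ e1
  let rep' := fun n : ℕ => MonoidHom.mk' (rep n) (hrep n)
  let Gr := fun n : ℕ =>
    ({ carrier := {x | ∃ hs : x ≫ fst G (Repr.GLsch k (d n)) ∈ Γ, x ≫ snd G _ = rep n ⟨_, hΓS hs⟩}
       one_mem' := by
        refine ⟨by rw [MonObj.one_comp]; exact Γ.one_mem, ?_⟩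
        rw [MonObj.one_comp]
        exact (map_one (rep' n)).symm.trans (congrArg (rep n) (Subtype.ext (MonObj.one_comp _).symm))
       mul_mem' := fun {a c} ha hc => by
        obtain ⟨ha, ha'⟩ := ha
        obtain ⟨hc, hc'⟩ := hc
        refine ⟨by rw [MonObj.mul_comp]; exact Γ.mul_mem ha hc, ?_⟩
        rw [MonObj.mul_comp, ha', hc', ← hrep]
        exact congrArg (rep n) (Subtype.ext (MonObj.mul_comp a c _).symm)
       inv_mem' := fun {a} ha => by
        obtain ⟨ha, ha'⟩ := ha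
        refine ⟨by rw [GrpObj.inv_comp]; exact Γ.inv_mem ha, ?_⟩
        rw [GrpObj.inv_comp, ha']
        exact (map_inv (rep' n) _).symm.trans (congrArg (rep n) (Subtype.ext (GrpObj.inv_comp a _).symm)) } :
      Subgroup (pt k k ⟶ G ⊗ Repr.GLsch k (d n)))
  let f := fun n : ℕ => lift ψ (glPt (k := k) (M n) (hMdet n))
  have hmatval : ∀ n (ω : R →ₐ[k] k), ptMap ω ≫ glPt (k := k) (M n) (hMdet n) = rep n ⟨_, hψS ω⟩ := fun n ω => by
    have key : ∀ (Y : Matrix (Fin (d n)) (Fin (d n)) k) (hY : IsUnit Y.det), (M n).map ω = Y →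
        ptMap ω ≫ glPt (k := k) (M n) (hMdet n) = glPt Y hY := by
      rintro Y hY rfl; exact glPt_map ω (M n) (hMdet n) hY
    exact key _ _ (hMρ n ω)
  have hfmem : ∀ n (ω : R →ₐ[k] k), ptMap ω ≫ f n ∈ Gr n := fun n ω => by
    refine ⟨by rw [Category.assoc, lift_fst]; exact Subgroup.subset_closure ⟨ω, rfl⟩, ?_⟩
    rw [Category.assoc, lift_snd, hmatval]
    exact congrArg (rep n) (Subtype.ext (by simp [f]))
  have hf1 : ∀ n, ptMap ω₂' ≫ f n = 1 := fun n => by
    apply CartesianMonoidalCategory.hom_ext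
    · rw [Category.assoc, lift_fst, hψ1, MonObj.one_comp]
    · rw [Category.assoc, lift_snd, hmatval, MonObj.one_comp]
      exact (congrArg (rep n) (Subtype.ext hψ1)).trans (map_one (rep' n))
  haveI := fun n => (hG' n).1
  haveI := fun n => (hG' n).2
  choose Z instZ z hzm hzc hsm hirr hl hZpts using fun n => exists_generated (f n) ω₂' (hf1 n) (Gr n) (hfmem n)
  haveI := hzm; haveI := hzc; haveI := hsm; haveI := hirr
  haveI : ∀ n, LocallyOfFiniteType (Z n).hom := fun n => inferInstance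
  haveI : ∀ n, QuasiCompact (Z n).hom := fun n => by rw [← Over.w (z n)]; infer_instance
  haveI : ∀ n, IsSeparated (Z n).hom := fun n => GrpSchField.isSeparated (Z n)
  haveI : IsSeparated G.hom := GrpSchField.isSeparated G
  let p := fun n => z n ≫ fst G (Repr.GLsch k (d n))
  let q := fun n => z n ≫ snd G (Repr.GLsch k (d n))
  haveI : ∀ n, IsMonHom (p n) := fun n => by
    haveI := hzm n
    show IsMonHom (z n ≫ fst G (Repr.GLsch k (d n)))
    exact instIsMonHomComp _ _
  haveI : ∀ n, IsMonHom (q n) := fun n => by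
    haveI := hzm n
    show IsMonHom (z n ≫ snd G (Repr.GLsch k (d n)))
    exact instIsMonHomComp _ _
  have hzmono : ∀ n, Mono (z n) := fun n => by
    haveI : Mono (z n).left := inferInstance
    exact Over.mono_of_mono_left (z n)
  have hrel : ∀ n (y : pt k k ⟶ Z n), ∃ hs : y ≫ p n ∈ Γ, y ≫ q n = rep n ⟨_, hΓS hs⟩ := fun n y => by
    obtain ⟨hs, h⟩ := hZpts n y
    refine ⟨by rw [← Category.assoc]; exact hs, ?_⟩
    rw [← Category.assoc, h]
    exact congrArg (rep n) (Subtype.ext (Category.assoc _ _ _))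
  have hpinj : ∀ n (y : pt k k ⟶ Z n), y ≫ p n = 1 → y = 1 := fun n y hy => by
    obtain ⟨hs, h⟩ := hrel n y
    haveI := hzmono n
    rw [← cancel_mono (z n), MonObj.one_comp]
    apply CartesianMonoidalCategory.hom_ext
    · rw [Category.assoc, MonObj.one_comp]; exact hy
    · rw [Category.assoc, MonObj.one_comp]
      exact h.trans ((congrArg (rep n) (Subtype.ext hy)).trans (map_one (rep' n)))
  haveI hpfin : ∀ n, IsFinite (p n).left := fun n => isFinite_of_injective (p n) (hpinj n)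
  have hsurjΓ : ∀ n, ∀ g ∈ Γ, ∃ y : pt k k ⟶ Z n, y ≫ p n = g := by
    intro n g hg
    induction hg using Subgroup.closure_induction with
    | mem x hx =>
      obtain ⟨ω, rfl⟩ := hx
      obtain ⟨l, hl'⟩ := hl n
      exact ⟨ptMap ω ≫ l, by rw [Category.assoc, ← Category.assoc l, hl', lift_fst]⟩
    | one => exact ⟨1, MonObj.one_comp _⟩
    | mul x y _ _ hx hy =>
      obtain ⟨a, rfl⟩ := hx; obtain ⟨c, rfl⟩ := hy; exact ⟨a * c, MonObj.mul_comp a c _⟩
    | inv x _ hx => obtain ⟨a, rfl⟩ := hx; exact ⟨a⁻¹, GrpObj.inv_comp a _⟩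
  -- kernels of the representations stabilise
  have hker : ∀ n (s : S), rep n s = 1 ↔ ρ n s = 1 := fun n s => by
    constructor
    · intro h
      have h2 : glPt (k := k) (ρ n s) (hρdet n s) = glPt (ρ n 1) (hρdet n 1) := h.trans (map_one (rep' n)).symm
      exact (glPt_inj h2).trans (map_one _)
    · intro h
      have key : ∀ (Y : Matrix (Fin (d n)) (Fin (d n)) k) (hY : IsUnit Y.det), Y = ρ n 1 →
          glPt (k := k) Y hY = rep n 1 := by rintro Y hY rfl; rfl
      exact (key _ _ (h.trans (map_one _).symm)).trans (map_one (rep' n))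
  haveI : IsLocallyNoetherian G.left := LocallyOfFiniteType.isLocallyNoetherian G.hom
  haveI : CompactSpace G.left := QuasiCompact.compactSpace_of_compactSpace G.hom
  haveI : IsNoetherian G.left := {}
  haveI : JacobsonSpace G.left := LocallyOfFiniteType.jacobsonSpace G.hom
  haveI : ∀ n, JacobsonSpace (Z n).left := fun n => LocallyOfFiniteType.jacobsonSpace (Z n).hom
  let pt₀ := IsLocalRing.closedPoint k
  let Cl := fun n : ℕ => (⟨(p n).left '' ((q n).left ⁻¹' {(1 : pt k k ⟶ Repr.GLsch k (d n)).left pt₀}),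
    (p n).left.isClosedMap _ ((isClosed_point (1 : pt k k ⟶ Repr.GLsch k (d n))).preimage (q n).left.continuous)⟩ :
      TopologicalSpace.Closeds G.left)
  have hCl : ∀ n (x : G.left), IsClosed ({x} : Set G.left) → x ∈ Cl n →
      ∃ s : S, s.1 ∈ Γ ∧ s.1.left pt₀ = x ∧ ρ n s = 1 := by
    rintro n x hx ⟨t, ht, rfl⟩
    obtain ⟨t', ⟨ht1, ht2⟩, ht'c⟩ := nonempty_inter_closedPoints
      (Z := (p n).left ⁻¹' {(p n).left t} ∩ (q n).left ⁻¹' {(1 : pt k k ⟶ Repr.GLsch k (d n)).left pt₀})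
      ⟨t, rfl, ht⟩ ((hx.preimage (p n).left.continuous).inter
        ((isClosed_point _).preimage (q n).left.continuous)).isLocallyClosed
    obtain ⟨y, hy⟩ := exists_point ht'c
    obtain ⟨hs, hq⟩ := hrel n y
    refine ⟨⟨_, hΓS hs⟩, hs, by rw [Over.comp_left, Scheme.Hom.comp_apply, hy]; exact ht1, ?_⟩
    rw [← hker, ← hq]
    refine point_ext ?_
    rw [Over.comp_left, Scheme.Hom.comp_apply, hy]
    exact ht2
  have hClmem : ∀ n (s : S), s.1 ∈ Γ → ρ n s = 1 → s.1.left pt₀ ∈ Cl n := by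
    intro n s hs hρ
    obtain ⟨y, hy⟩ := hsurjΓ n s.1 hs
    refine ⟨y.left pt₀, ?_, by rw [← hy, Over.comp_left]; rfl⟩
    obtain ⟨hs', hq⟩ := hrel n y
    have : y ≫ q n = 1 := hq.trans ((congrArg (rep n) (Subtype.ext hy : (⟨_, hΓS hs'⟩ : S) = s)).trans ((hker n s).2 hρ))
    show (q n).left (y.left pt₀) = _
    rw [← this, Over.comp_left]
    rfl
  have hanti : ∀ n, Cl (n + 1) ≤ Cl n := by
    intro n x hx
    have hsub : ((Cl (n + 1) : Set G.left) ∩ closedPoints G.left) ⊆ Cl n := by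
      rintro y ⟨hy, hyc⟩
      obtain ⟨s, hs, rfl, hρ⟩ := hCl (n + 1) y hyc hy
      exact hClmem n s hs (hdec n s hρ)
    have := closure_minimal hsub (Cl n).isClosed
    rw [closure_inter_closedPoints (Cl (n + 1)).isClosed] at this
    exact this hx
  obtain ⟨_, ⟨N, rfl⟩, hNmin⟩ := WellFounded.has_min (wellFounded_lt (α := TopologicalSpace.Closeds G.left))
    (Set.range Cl) (Set.range_nonempty _)
  have hant : Antitone Cl := antitone_nat_of_succ_le hanti
  have hN : ∀ s : S, s.1 ∈ Γ → ρ N s = 1 → s = 1 := by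
    intro s hs hρ
    have hall : ∀ m, ρ m s = 1 := by
      intro m
      rcases le_or_gt m N with hmN | hmN
      · exact Nat.decreasingInduction (fun j _ hj => hdec j s hj) hρ hmN
      · have heq : Cl m = Cl N := by
          by_contra hne
          exact hNmin _ ⟨m, rfl⟩ (lt_of_le_of_ne (hant hmN.le) hne)
        have hmem := hClmem N s hs hρ
        rw [← heq] at hmem
        obtain ⟨t, ht, hts, hρt⟩ := hCl m _ (isClosed_point s.1) hmem
        have : t = s := Subtype.ext (point_ext hts)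
        rwa [← this]
    exact hfaith s hall
  haveI : IsSeparated (Repr.GLsch k (d N)).hom := inferInstanceAs (IsSeparated (Spec.map _))
  haveI : LocallyOfFiniteType (Repr.GLsch k (d N)).hom := by
    show LocallyOfFiniteType (Spec.map (CommRingCat.ofHom (algebraMap k (CoordGrp.GLn (d N) k))))
    rw [HasRingHomProperty.Spec_iff (P := @LocallyOfFiniteType)]
    exact RingHom.finiteType_algebraMap.2 inferInstance
  haveI : QuasiCompact (Repr.GLsch k (d N)).hom := inferInstanceAs (QuasiCompact (Spec.map _))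
  haveI : IsAffine (Repr.GLsch k (d N)).left := inferInstanceAs (IsAffine (Spec _))
  have hqinj : ∀ y : pt k k ⟶ Z N, y ≫ q N = 1 → y = 1 := by
    intro y hy
    obtain ⟨hs, h⟩ := hrel N y
    have h1 := hN ⟨_, hΓS hs⟩ hs ((hker N _).1 (h.symm.trans hy))
    exact hpinj N y (congrArg Subtype.val h1)
  haveI : IsFinite (q N).left := isFinite_of_injective (q N) hqinj
  haveI : IsAffine (Z N).left := isAffine_of_isAffineHom (q N).left
  -- the image
  haveI : Smooth Z₀.hom := hsm₀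
  haveI : IsSeparated Z₀.hom := GrpSchField.isSeparated Z₀
  haveI : QuasiCompact Z₀.hom := by rw [← Over.w z₀]; infer_instance
  haveI : IsReduced (Z N).left := GrothLib.Rigidity.isReduced_of_smooth (Z N).hom
  have hrange : Set.range (p N).left ⊆ Set.range z₀.left := by
    rintro _ ⟨t, rfl⟩
    have hcl : IsClosed ((p N).left ⁻¹' Set.range z₀.left) :=
      z₀.left.isClosedEmbedding.isClosed_range.preimage (p N).left.continuous
    suffices h : (p N).left ⁻¹' Set.range z₀.left = Set.univ from h.ge (Set.mem_univ t)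
    refine Set.univ_subset_iff.1 ?_
    rw [← closure_closedPoints]
    refine closure_minimal (fun u hu => ?_) hcl
    obtain ⟨y, hy⟩ := exists_point hu
    obtain ⟨w, hw⟩ := hz₀' _ (hrel N y).1
    refine ⟨w.left pt₀, ?_⟩
    rw [← hy, ← Scheme.Hom.comp_apply, ← Over.comp_left, hw]
    rfl
  obtain ⟨l, hl⟩ := RedSub.exists_lift (p N).left z₀.left hrange
  let lo : Z N ⟶ Z₀ := Over.homMk l (by rw [← Over.w z₀, ← Category.assoc, hl, Over.w])
  have hlo : lo ≫ z₀ = p N := Over.OverMorphism.ext hl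
  haveI : IsFinite lo.left := by
    haveI : IsFinite (lo.left ≫ z₀.left) := by rw [← Over.comp_left, hlo]; infer_instance
    exact IsFinite.of_comp lo.left z₀.left
  haveI : Mono z₀ := by
    haveI : Mono z₀.left := inferInstance
    exact Over.mono_of_mono_left z₀
  haveI : Surjective lo.left := GrpSchField.surjective_of_points lo fun y => by
    obtain ⟨w, hw⟩ := hsurjΓ N _ (hz₀ y)
    exact ⟨w, (cancel_mono z₀).1 (by rw [Category.assoc, hlo]; exact hw)⟩
  haveI : IsLocallyNoetherian Z₀.left := LocallyOfFiniteType.isLocallyNoetherian Z₀.hom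
  haveI : CompactSpace Z₀.left := QuasiCompact.compactSpace_of_compactSpace Z₀.hom
  haveI : IsNoetherian Z₀.left := {}
  haveI : IsAffine Z₀.left := Groth.Agent.S0021.result lo.left
  refine ⟨Z₀, inferInstance, z₀, inferInstance, inferInstance, hsm₀, inferInstance, ?_⟩
  obtain ⟨ω, hωne⟩ := hnc
  let y₁ : pt k k ⟶ Z₀ := ptMap ω ≫ l₀
  have hy₁ : y₁.left pt₀ ≠ (1 : pt k k ⟶ Z₀).left pt₀ := fun h => hωne (by
    rw [← hl₀, ← Category.assoc, show ptMap ω ≫ l₀ = 1 from point_ext h, MonObj.one_comp])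
  let a : TopologicalSpace.IrreducibleCloseds Z₀.left :=
    ⟨{y₁.left pt₀}, isIrreducible_singleton, isClosed_point y₁⟩
  haveI : IrreducibleSpace Z₀.left := by assumption
  let c : TopologicalSpace.IrreducibleCloseds Z₀.left :=
    ⟨Set.univ, IrreducibleSpace.isIrreducible_univ _, isClosed_univ⟩
  have hac : a < c := lt_of_le_of_ne (fun _ _ => trivial) fun h => hy₁ (by
    have : (1 : pt k k ⟶ Z₀).left pt₀ ∈ (a : Set Z₀.left) := by rw [h]; trivial
    exact (Set.mem_singleton_iff.1 this).symm)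
  exact Order.krullDim_pos_iff.2 ⟨a, c, hac⟩


/-- A group variety acting generically on a model with an invariant divisor contains an affine subgroup
of positive dimension. -/
theorem exists_affine_of_fam {G : 𝒞} [GrpObj G] [LocallyOfFiniteType G.hom] [QuasiCompact G.hom]
    {C : Type u} [CommRing C] [Algebra k C] [IsDomain C] [Algebra.FiniteType k C]
    (jC : pt k C ⟶ G) [Mono jC]
    {K : Type u} [Field K] [Algebra k K] {A : Type u} [CommRing A] [Algebra k A] [Algebra A K]
    [IsFractionRing A K] [IsScalarTower k A K] [IsDomain A] [Algebra.FiniteType k A]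
    (T : (pt k k ⟶ G) → (K ≃ₐ[k] K)) (hT : ∀ g h, T (g * h) = (T g).trans (T h))
    (hinj : ∀ g, T g = AlgEquiv.refl → g = 1)
    {π : A} (hF : IsFam (C := C) (fun χ => T (ptMap χ ≫ jC)) π) (hdim : ringKrullDim C = ringKrullDim A) :
    ∃ (H : 𝒞) (_ : GrpObj H) (j : H ⟶ G), IsMonHom j ∧ IsClosedImmersion j.left ∧
      Smooth H.hom ∧ IsAffine H.left ∧ 0 < topologicalKrullDim ↥H.left := by
  classical
  obtain ⟨e, e', χ₂, R₀, _, _, _, _, τ, ω₂, hω₂, hτinj, ⟨r, hr, hrω⟩, hc, hc', hω, hΨ⟩ := hF.exists_orbit hdim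
  choose Ψ hΨ using hΨ
  let g₂ : pt k k ⟶ G := ptMap χ₂ ≫ jC
  have hT1 : T 1 = AlgEquiv.refl := by
    have := hT 1 1
    rw [_root_.one_mul] at this
    refine AlgEquiv.ext fun x => (T 1).injective ?_
    exact (congr($this x)).symm
  have hTinv : ∀ g, T g⁻¹ = (T g).symm := fun g => by
    refine AlgEquiv.ext fun x => (T g).injective ?_
    have := hT g⁻¹ g
    rw [inv_mul_cancel, hT1] at this
    rw [AlgEquiv.apply_symm_apply]
    exact (congr($this x)).symm
  let S : Subgroup (pt k k ⟶ G) :=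
    { carrier := {g | Carries (T g) e e ∧ Carries (T g).symm e e}
      one_mem' := by
        show Carries (T 1) e e ∧ Carries (T 1).symm e e
        rw [hT1]; exact ⟨carries_refl e, carries_refl e⟩
      mul_mem' := fun {g h} hg hh => by
        show Carries (T (g * h)) e e ∧ Carries (T (g * h)).symm e e
        rw [hT]; exact ⟨hg.1.trans hh.1, hh.2.trans hg.2⟩
      inv_mem' := fun {g} hg => by
        show Carries (T g⁻¹) e e ∧ Carries (T g⁻¹).symm e e
        rw [hTinv]; exact ⟨hg.2, hg.1⟩ }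
  haveI := fun n => finite_jet (A := A) e n
  obtain ⟨d, ⟨b⟩⟩ : ∃ d : ℕ → ℕ, Nonempty (∀ n, Module.Basis (Fin (d n)) k (jet e n)) :=
    ⟨_, ⟨fun n => Module.finBasis k (jet e n)⟩⟩
  obtain ⟨ρ, hρ⟩ : ∃ ρ : ∀ n, S →* Matrix (Fin (d n)) (Fin (d n)) k, ∀ n (s : S), ρ n s = actMat (b n) s.2.1 :=
    ⟨fun n => { toFun := fun s => actMat (b n) s.2.1,
                map_one' := actMat_of_refl (b n) _ hT1,
                map_mul' := fun s t => actMat_trans (b n) s.2.1 t.2.1 (s * t).2.1 (hT s.1 t.1) }, fun n s => rfl⟩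
  have hρdet : ∀ n s, IsUnit (ρ n s).det := fun n s => by
    refine Matrix.isUnit_det_of_right_inverse (B := ρ n s⁻¹) ?_
    rw [← map_mul, mul_inv_cancel, map_one]
  -- the translated family
  let ψ₀ : pt k R₀ ⟶ G := (ptMap (Algebra.ofId k R₀) ≫ g₂⁻¹) * (ptMap τ ≫ jC)
  have hψval : ∀ ω : R₀ →ₐ[k] k, ptMap ω ≫ ψ₀ = g₂⁻¹ * (ptMap (ω.comp τ) ≫ jC) := fun ω => by
    rw [MonObj.comp_mul, ← Category.assoc, ← Repr.ptMap_comp, ← Category.assoc, ← Repr.ptMap_comp,
      show ω.comp (Algebra.ofId k R₀) = AlgHom.id k k from AlgHom.ext fun x => ω.commutes x, Repr.ptMap_id,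
      Category.id_comp]
  have hTψ : ∀ ω : R₀ →ₐ[k] k, T (ptMap ω ≫ ψ₀) = (T g₂).symm.trans (T (ptMap (ω.comp τ) ≫ jC)) := fun ω => by
    rw [hψval, hT, hTinv]
  have hcar : ∀ ω : R₀ →ₐ[k] k, Carries (T (ptMap ω ≫ ψ₀)) e e := fun ω => by
    rw [hTψ]; exact hc'.trans (hω ω)
  choose M₀ hM₀ using fun n => exists_matrix (b n) hc' (Ψ n) (fun ω => T (ptMap (ω.comp τ) ≫ jC)) hω (hΨ n)
  have hM : ∀ n (ω : R₀ →ₐ[k] k), (M₀ n).map ω = actMat (b n) (hcar ω) := fun n ω =>
    (hM₀ n ω (hc'.trans (hω ω))).trans (actMat_congr (b n) _ _ (hTψ ω).symm)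
  have hψ₂ : ptMap ω₂ ≫ ψ₀ = 1 := by rw [hψval, hω₂]; exact inv_mul_cancel g₂
  let D : R₀ := (M₀ 2).det
  have hD₂ : ω₂ D = 1 := by
    rw [AlgHom.map_det, AlgHom.mapMatrix_apply, hM, actMat_of_refl _ _ (by rw [hψ₂, hT1]), Matrix.det_one]
  have hD0 : D ≠ 0 := fun h => one_ne_zero (α := k) (by rw [← hD₂, h, map_zero])
  let R := Localization.Away D
  haveI : IsDomain R := IsLocalization.isDomain_of_le_nonZeroDivisors (R := R₀) (M := Submonoid.powers D)
    (S := R) (powers_le_nonZeroDivisors_of_noZeroDivisors hD0)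
  haveI : Algebra.FiniteType k R := Algebra.FiniteType.trans (R := k) (S := R₀) (A := R) inferInstance
    (IsLocalization.finiteType_of_monoid_fg (Submonoid.powers D) R)
  let L : R₀ →ₐ[k] R := IsScalarTower.toAlgHom k R₀ R
  have hS : ∀ ω : R →ₐ[k] k, ptMap (ω.comp L) ≫ ψ₀ ∈ S := fun ω => by
    refine ⟨hcar _, carries_symm_of_surjective (hcar (ω.comp L)) ?_⟩
    have hu : IsUnit ((M₀ 2).map (ω.comp L)).det := by
      rw [show ((M₀ 2).map (ω.comp L)).det = ω (L D) from ((ω.comp L).map_det (M₀ 2)).symm]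
      exact (IsLocalization.Away.algebraMap_isUnit D).map ω
    rw [hM] at hu
    exact surjective_of_det _ _ hu
  let ψ : pt k R ⟶ G := ptMap L ≫ ψ₀
  have hψ : ∀ ω : R →ₐ[k] k, ptMap ω ≫ ψ = ptMap (ω.comp L) ≫ ψ₀ := fun ω => by
    rw [← Category.assoc, ← Repr.ptMap_comp]
  let ω₂' : R →ₐ[k] k := IsLocalization.liftAlgHom (A := k) (M := Submonoid.powers D) (S := R) (f := ω₂) (fun y => by
      obtain ⟨m, hm⟩ := y.2
      rw [← hm, map_pow, hD₂, one_pow]
      exact isUnit_one)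
  have hω₂' : ω₂'.comp L = ω₂ := AlgHom.ext fun c => by simp [ω₂', L]
  have hψ1 : ptMap ω₂' ≫ ψ = 1 := by rw [hψ, hω₂', hψ₂]
  have hψS : ∀ ω : R →ₐ[k] k, ptMap ω ≫ ψ ∈ S := fun ω => by rw [hψ]; exact hS ω
  let M := fun n : ℕ => (((M₀ n).map L) : Matrix (Fin (d n)) (Fin (d n)) R)
  have hMρ : ∀ n (ω : R →ₐ[k] k), (M n).map ω = ρ n ⟨_, hψS ω⟩ := fun n ω => by
    show ((M₀ n).map L).map ω = _
    rw [hρ, Matrix.map_map, show (⇑ω ∘ ⇑L) = ⇑(ω.comp L) from rfl, hM]
    exact actMat_congr (b n) _ _ (congrArg T (hψ ω)).symm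
  have hMdet : ∀ n, IsUnit (M n).det := fun n => by
    by_contra h
    obtain ⟨m, hm, hDm⟩ := exists_max_ideal_of_mem_nonunits h
    haveI := hm
    let _ := Ideal.Quotient.field m
    haveI : IsJacobsonRing R := isJacobsonRing_of_finiteType (A := k)
    haveI : Module.Finite k (R ⧸ m) := finite_of_finite_type_of_isJacobsonRing k _
    let eq : k ≃ₐ[k] R ⧸ m := AlgEquiv.ofBijective (Algebra.ofId k (R ⧸ m))
      IsAlgClosed.algebraMap_bijective_of_isIntegral
    let ω : R →ₐ[k] k := eq.symm.toAlgHom.comp (Ideal.Quotient.mkₐ k m)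
    have h0 : ω (M n).det = 0 := by
      show eq.symm (Ideal.Quotient.mk m (M n).det) = 0
      rw [Ideal.Quotient.eq_zero_iff_mem.2 hDm, map_zero]
    rw [AlgHom.map_det, AlgHom.mapMatrix_apply, hMρ] at h0
    refine (Matrix.isUnit_det_of_right_inverse (A := ρ n ⟨_, hψS ω⟩) (B := ρ n (⟨_, hψS ω⟩ : S)⁻¹) ?_).ne_zero h0
    rw [← map_mul, mul_inv_cancel, map_one]
  have hdec : ∀ n (s : S), ρ (n + 1) s = 1 → ρ n s = 1 := by
    intro n s h
    rw [hρ, actMat_eq_one_iff] at h ⊢
    exact act_eq_id_of_succ s.2.1 h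
  have hfaith : ∀ s : S, (∀ n, ρ n s = 1) → s = 1 := by
    intro s hall
    refine Subtype.ext (hinj _ (eq_refl_of_act s.2.1 fun m => ?_))
    rw [← actMat_eq_one_iff (b m) s.2.1, ← hρ]
    exact hall m
  -- two distinct rational points
  have hne : ∃ ω : R →ₐ[k] k, ptMap ω ≫ ψ ≠ 1 := by
    haveI : IsReduced (CommRingCat.of R₀) := inferInstanceAs (IsReduced R₀)
    obtain ⟨ω, hω'⟩ := exists_pt (k := k) (C := R) (c := L r) (fun h => hr ((IsLocalization.injective R
      (powers_le_nonZeroDivisors_of_noZeroDivisors hD0)) (h.trans (map_zero _).symm)))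
    refine ⟨ω, fun h => hω' ?_⟩
    rw [hψ, hψval, inv_mul_eq_one] at h
    have h1 : ω.comp L = ω₂ := hτinj _ _ (by
      rw [hω₂]
      have h2 := (cancel_mono jC).1 h.symm
      have h3 := congrArg (fun t => t.left) h2
      simp only [ptMap_left] at h3
      exact AlgHom.ext fun c => congr($(Spec.map_injective h3).hom c))
    show (ω.comp L) r = 0
    rw [h1, hrω]
  exact exists_affine_of_reps ψ ω₂' hψ1 hne S hψS d ρ M hMdet hMρ hdec hfaith

end GrothLib.Chev24
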