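import Groth.Agent.Lib.Chev24.Tensor

/-!
# Field automorphisms carrying the local ring of one rational point to another, and their truncations
-/

set_option autoImplicit false
set_option linter.all false
set_option maxHeartbeats 1000000

universe u

noncomputable section

namespace GrothLib.Chev24

variable {k : Type u} [Field k] {A : Type u} [CommRing A] [Algebra k A]
  (K : Type u) [Field K] [Algebra k K] [Algebra A K] [IsFractionRing A K] [IsScalarTower k A K]

/-- The local ring of a rational point inside the function field. -/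
def loc (e : A →ₐ[k] k) : Subalgebra k K where
  carrier := {x | ∃ a b : A, e b ≠ 0 ∧ x * algebraMap A K b = algebraMap A K a}
  add_mem' {x y} hx hy := by
    obtain ⟨a, b, hb, h⟩ := hx
    obtain ⟨c, d, hd, h'⟩ := hy
    refine ⟨a * d + c * b, b * d, by rw [map_mul]; exact mul_ne_zero hb hd, ?_⟩
    simp only [map_add, map_mul]
    linear_combination (algebraMap A K d) * h + (algebraMap A K b) * h'
  mul_mem' {x y} hx hy := by
    obtain ⟨a, b, hb, h⟩ := hx
    obtain ⟨c, d, hd, h'⟩ := hy
    refine ⟨a * c, b * d, by rw [map_mul]; exact mul_ne_zero hb hd, ?_⟩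
    simp only [map_mul]
    linear_combination (y * algebraMap A K d) * h + (algebraMap A K a) * h'
  algebraMap_mem' r := ⟨algebraMap k A r, 1, by simp, by simp [← IsScalarTower.algebraMap_apply k A K]⟩

variable {K}

theorem algebraMap_mem_loc (e : A →ₐ[k] k) (a : A) : algebraMap A K a ∈ loc K e := ⟨a, 1, by simp, by simp⟩

/-- The truncated local ring at a rational point. -/
abbrev jet (e : A →ₐ[k] k) (n : ℕ) : Type u := A ⧸ (RingHom.ker e) ^ n

theorem isUnit_jet (e : A →ₐ[k] k) (n : ℕ) {b : A} (hb : e b ≠ 0) :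
    IsUnit (Ideal.Quotient.mk (RingHom.ker e ^ n) b) := by
  let q := Ideal.Quotient.mk (RingHom.ker e ^ n)
  have hnil : IsNilpotent (q (b - algebraMap k A (e b))) := ⟨n, by
    rw [← map_pow, Ideal.Quotient.eq_zero_iff_mem]
    exact Ideal.pow_mem_pow (by simp [RingHom.mem_ker]) _⟩
  have hu : IsUnit (q (algebraMap k A (e b))) := ((isUnit_iff_ne_zero.2 hb).map (algebraMap k A)).map q
  have e1 : q b = q (algebraMap k A (e b)) + q (b - algebraMap k A (e b)) := by
    rw [← map_add, add_sub_cancel]
  show IsUnit (q b)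
  rw [e1]
  exact hnil.isUnit_add_left_of_commute hu (Commute.all _ _)

theorem exists_red (e : A →ₐ[k] k) (n : ℕ) :
    ∃ φ : loc K e →ₐ[k] jet e n, ∀ (x : loc K e) (a b : A), e b ≠ 0 →
      (x : K) * algebraMap A K b = algebraMap A K a →
      φ x * Ideal.Quotient.mk _ b = Ideal.Quotient.mk _ a := by
  classical
  choose a b hb hab using fun x : loc K e => x.2
  let q : A →+* jet e n := Ideal.Quotient.mk _
  let F : loc K e → jet e n := fun x => q (a x) * ↑(isUnit_jet e n (hb x)).unit⁻¹
  have hF : ∀ (x : loc K e) (c d : A), e d ≠ 0 → (x : K) * algebraMap A K d = algebraMap A K c →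
      F x * q d = q c := by
    intro x c d hd h
    have h1 : a x * d = c * b x := IsFractionRing.injective A K (by
      simp only [map_mul]
      linear_combination (algebraMap A K (b x)) * h - (algebraMap A K d) * hab x)
    apply (isUnit_jet e n (hb x)).mul_left_injective
    show F x * q d * q (b x) = q c * q (b x)
    have h2 : F x * q (b x) = q (a x) := by
      rw [_root_.mul_assoc, IsUnit.val_inv_mul, _root_.mul_one]
    rw [mul_right_comm, h2, ← map_mul, ← map_mul, h1]
  have hval : ∀ x : loc K e, F x * q (b x) = q (a x) := fun x => hF x _ _ (hb x) (hab x)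
  refine ⟨{ toFun := F, map_one' := ?_, map_mul' := fun x y => ?_, map_zero' := ?_, map_add' := fun x y => ?_, commutes' := fun r => ?_ }, hF⟩
  · simpa using hF 1 1 1 (by simp) (by simp)
  · apply ((isUnit_jet e n (hb x)).mul (isUnit_jet e n (hb y))).mul_left_injective
    show F (x * y) * (q (b x) * q (b y)) = F x * F y * (q (b x) * q (b y))
    rw [← map_mul q, hF (x * y) (a x * a y) _ (by rw [map_mul]; exact mul_ne_zero (hb x) (hb y))
      (by simp only [MulMemClass.coe_mul, map_mul]; linear_combination ((y : K) * algebraMap A K (b y)) * hab x + (algebraMap A K (a x)) * hab y),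
      map_mul, map_mul, ← hval x, ← hval y]
    ring
  · simpa using hF 0 0 1 (by simp) (by simp)
  · apply ((isUnit_jet e n (hb x)).mul (isUnit_jet e n (hb y))).mul_left_injective
    show F (x + y) * (q (b x) * q (b y)) = (F x + F y) * (q (b x) * q (b y))
    rw [← map_mul q, hF (x + y) (a x * b y + a y * b x) _ (by rw [map_mul]; exact mul_ne_zero (hb x) (hb y))
      (by simp only [AddMemClass.coe_add, map_mul, map_add]; linear_combination (algebraMap A K (b y)) * hab x + (algebraMap A K (b x)) * hab y),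
      map_add, map_mul, map_mul, map_mul, ← hval x, ← hval y]
    ring
  · show F _ = _
    have := hF (algebraMap k _ r) (algebraMap k A r) 1 (by simp) (by simp [← IsScalarTower.algebraMap_apply k A K])
    rw [map_one, _root_.mul_one] at this
    exact this.trans (IsScalarTower.algebraMap_apply k A (jet e n) r).symm

/-- Truncation of an element of the local ring. -/
def red (e : A →ₐ[k] k) (n : ℕ) : loc K e →ₐ[k] jet e n := (exists_red e n).choose

theorem red_spec {e : A →ₐ[k] k} {n : ℕ} (x : loc K e) {a b : A} (hb : e b ≠ 0)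
    (h : (x : K) * algebraMap A K b = algebraMap A K a) :
    red e n x * Ideal.Quotient.mk _ b = Ideal.Quotient.mk _ a :=
  (exists_red e n).choose_spec x a b hb h

theorem red_algebraMap (e : A →ₐ[k] k) (n : ℕ) (a : A) :
    red e n ⟨algebraMap A K a, algebraMap_mem_loc e a⟩ = Ideal.Quotient.mk _ a := by
  simpa using red_spec (n := n) (⟨algebraMap A K a, algebraMap_mem_loc e a⟩ : loc K e) (a := a) (b := 1) (by simp) (by simp)

/-- The automorphism sends the functions at one point to functions at the other with the same values. -/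
def Carries (σ : K ≃ₐ[k] K) (e' e : A →ₐ[k] k) : Prop :=
  ∀ f : A, ∃ a b : A, e b ≠ 0 ∧ σ (algebraMap A K f) * algebraMap A K b = algebraMap A K a ∧ e a = e' f * e b

theorem Carries.mem {σ : K ≃ₐ[k] K} {e' e : A →ₐ[k] k} (h : Carries σ e' e) {x : K} (hx : x ∈ loc K e') :
    σ x ∈ loc K e := by
  obtain ⟨p, q, hq, hx⟩ := hx
  obtain ⟨a, b, hb, hab, hea⟩ := h p
  obtain ⟨c, d, hd, hcd, hec⟩ := h q
  refine ⟨a * d, b * c, by rw [map_mul, hec]; exact mul_ne_zero hb (mul_ne_zero hq hd), ?_⟩
  have h1 : σ x * σ (algebraMap A K q) = σ (algebraMap A K p) := by rw [← map_mul, hx]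
  simp only [map_mul]
  linear_combination (-(σ x * algebraMap A K b)) * hcd + (algebraMap A K b * algebraMap A K d) * h1 + (algebraMap A K d) * hab

theorem carries_refl (e : A →ₐ[k] k) : Carries (AlgEquiv.refl (R := k) (A₁ := K)) e e := fun f =>
  ⟨f, 1, by simp, by simp, by simp⟩

theorem Carries.trans {σ τ : K ≃ₐ[k] K} {e₁ e₂ e₃ : A →ₐ[k] k} (h : Carries σ e₁ e₂) (h' : Carries τ e₂ e₃) :
    Carries (σ.trans τ) e₁ e₃ := by
  intro f
  obtain ⟨p, q, hq, hpq, hep⟩ := h f
  obtain ⟨a, b, hb, hab, hea⟩ := h' p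
  obtain ⟨c, d, hd, hcd, hec⟩ := h' q
  refine ⟨a * d, b * c, by rw [map_mul, hec]; exact mul_ne_zero hb (mul_ne_zero hq hd), ?_, ?_⟩
  · have h1 : τ (σ (algebraMap A K f)) * τ (algebraMap A K q) = τ (algebraMap A K p) := by rw [← map_mul, hpq]
    simp only [map_mul, AlgEquiv.trans_apply]
    linear_combination (-(τ (σ (algebraMap A K f)) * algebraMap A K b)) * hcd + (algebraMap A K b * algebraMap A K d) * h1 + (algebraMap A K d) * hab
  · rw [map_mul, map_mul, hea, hec, hep]
    ring

theorem exists_act {σ : K ≃ₐ[k] K} {e' e : A →ₐ[k] k} (h : Carries σ e' e) (n : ℕ) :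
    ∃ φ : jet e' n →ₐ[k] jet e n, ∀ x : loc K e', φ (red e' n x) = red e n ⟨σ x, h.mem x.2⟩ := by
  let g : loc K e' →ₐ[k] loc K e :=
    (σ.toAlgHom.comp (loc K e').val).codRestrict (loc K e) fun x => h.mem x.2
  let i : A →ₐ[k] loc K e' :=
    (IsScalarTower.toAlgHom k A K).codRestrict (loc K e') (algebraMap_mem_loc e')
  let f : A →ₐ[k] jet e n := (red e n).comp (g.comp i)
  have hker : ∀ a ∈ RingHom.ker e', f a ∈ (RingHom.ker e).map (Ideal.Quotient.mk (RingHom.ker e ^ n)) := by
    intro a ha
    obtain ⟨c, d, hd, hcd, hec⟩ := h a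
    have h1 : f a * Ideal.Quotient.mk _ d = Ideal.Quotient.mk _ c := red_spec (g (i a)) hd hcd
    have h2 : Ideal.Quotient.mk (RingHom.ker e ^ n) c ∈ (RingHom.ker e).map (Ideal.Quotient.mk _) :=
      Ideal.mem_map_of_mem _ (by
        rw [RingHom.mem_ker, hec, show e' a = 0 from ha, zero_mul])
    rw [← h1] at h2
    exact ((Ideal.mul_unit_mem_iff_mem _ (isUnit_jet e n hd)).1 h2)
  have hle : ∀ a ∈ RingHom.ker e' ^ n, f a = 0 := fun a ha => by
    have : f a ∈ ((RingHom.ker e).map (Ideal.Quotient.mk (RingHom.ker e ^ n))) ^ n := by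
      have h1 : (RingHom.ker e').map f.toRingHom ≤ (RingHom.ker e).map (Ideal.Quotient.mk _) :=
        Ideal.map_le_iff_le_comap.2 hker
      have h2 := Ideal.mem_map_of_mem f.toRingHom ha
      rw [Ideal.map_pow] at h2
      exact Ideal.pow_right_mono h1 n h2
    rwa [← Ideal.map_pow, Ideal.map_quotient_self, Ideal.mem_bot] at this
  refine ⟨Ideal.Quotient.liftₐ _ f hle, fun x => ?_⟩
  obtain ⟨a, b, hb, hab⟩ := x.2
  apply ((isUnit_jet e' n hb).map (Ideal.Quotient.liftₐ _ f hle)).mul_left_injective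
  show _ * Ideal.Quotient.liftₐ _ f hle (Ideal.Quotient.mk _ b) = _ * Ideal.Quotient.liftₐ _ f hle (Ideal.Quotient.mk _ b)
  rw [← map_mul, red_spec x hb hab]
  show f a = red e n (g x) * red e n (g (i b))
  rw [← map_mul, ← map_mul, show x * i b = i a from Subtype.ext hab]
  rfl

/-- The induced map on truncations. -/
def act {σ : K ≃ₐ[k] K} {e' e : A →ₐ[k] k} (h : Carries σ e' e) (n : ℕ) : jet e' n →ₐ[k] jet e n :=
  (exists_act h n).choose

theorem act_red {σ : K ≃ₐ[k] K} {e' e : A →ₐ[k] k} (h : Carries σ e' e) (n : ℕ) (x : loc K e') :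
    act h n (red e' n x) = red e n ⟨σ x, h.mem x.2⟩ :=
  (exists_act h n).choose_spec x

theorem act_mk {σ : K ≃ₐ[k] K} {e' e : A →ₐ[k] k} (h : Carries σ e' e) (n : ℕ) (a : A) :
    act h n (Ideal.Quotient.mk _ a) = red e n ⟨σ (algebraMap A K a), h.mem (algebraMap_mem_loc e' a)⟩ := by
  rw [← red_algebraMap (K := K), act_red]

theorem act_trans {σ τ : K ≃ₐ[k] K} {e₁ e₂ e₃ : A →ₐ[k] k} (h : Carries σ e₁ e₂) (h' : Carries τ e₂ e₃) (n : ℕ) :
    act (h.trans h') n = (act h' n).comp (act h n) := by
  refine AlgHom.ext fun x => ?_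
  obtain ⟨a, rfl⟩ := Ideal.Quotient.mk_surjective x
  rw [AlgHom.comp_apply, act_mk, act_mk, act_red]
  rfl

theorem act_refl (e : A →ₐ[k] k) (n : ℕ) : act (carries_refl (K := K) e) n = AlgHom.id k _ := by
  refine AlgHom.ext fun x => ?_
  obtain ⟨a, rfl⟩ := Ideal.Quotient.mk_surjective x
  rw [act_mk]
  exact red_algebraMap e n a

theorem isMaximal_ker (e : A →ₐ[k] k) : (RingHom.ker e).IsMaximal :=
  RingHom.ker_isMaximal_of_surjective e fun r => ⟨algebraMap k A r, by simp⟩

variable [IsDomain A] [Algebra.FiniteType k A]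

theorem finite_jet (e : A →ₐ[k] k) (n : ℕ) : Module.Finite k (jet e n) := by
  haveI := isMaximal_ker e
  haveI : IsNoetherianRing A := Algebra.FiniteType.isNoetherianRing k A
  haveI : IsArtinianRing (jet e n) := by
    rw [isArtinianRing_iff_isNoetherianRing_krullDimLE_zero]
    refine ⟨inferInstance, Ring.KrullDimLE.mk₀ fun I hI => ?_⟩
    haveI := Ideal.IsPrime.comap (Ideal.Quotient.mk (RingHom.ker e ^ n)) (K := I)
    have hle : RingHom.ker e ≤ I.comap (Ideal.Quotient.mk (RingHom.ker e ^ n)) := fun a ha =>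
      (inferInstance : (I.comap (Ideal.Quotient.mk (RingHom.ker e ^ n))).IsPrime).mem_of_pow_mem n (by
        rw [Ideal.mem_comap, Ideal.Quotient.eq_zero_iff_mem.2 (Ideal.pow_mem_pow ha n)]
        exact zero_mem _)
    have heq := (isMaximal_ker e).eq_of_le (Ideal.IsPrime.ne_top ‹_›) hle
    rw [← Ideal.map_comap_of_surjective _ Ideal.Quotient.mk_surjective I, ← heq]
    refine (Ideal.map_eq_top_or_isMaximal_of_surjective _ Ideal.Quotient.mk_surjective (isMaximal_ker e)).resolve_left ?_
    intro htop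
    exact hI.ne_top ((Ideal.map_comap_of_surjective _ Ideal.Quotient.mk_surjective I).symm.trans
      ((congrArg (Ideal.map (Ideal.Quotient.mk (RingHom.ker e ^ n))) heq.symm).trans htop))
  exact Module.finite_iff_isArtinianRing k _ |>.2 inferInstance

theorem eq_zero_of_forall_red (e : A →ₐ[k] k) {x : loc K e} (h : ∀ n, red e n x = 0) : x = 0 := by
  obtain ⟨a, b, hb, hab⟩ := x.2
  have ha : a ∈ ⨅ n, RingHom.ker e ^ n := by
    simp only [Submodule.mem_iInf]
    intro n
    have := red_spec (n := n) x hb hab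
    rwa [h n, zero_mul, eq_comm, Ideal.Quotient.eq_zero_iff_mem] at this
  haveI : IsNoetherianRing A := Algebra.FiniteType.isNoetherianRing k A
  rw [Ideal.iInf_pow_eq_bot_of_isDomain _ (isMaximal_ker e).ne_top, Ideal.mem_bot] at ha
  rw [ha, map_zero, mul_eq_zero] at hab
  exact Subtype.ext (hab.resolve_right fun h0 => hb (by
    rw [IsFractionRing.injective A K (h0.trans (map_zero _).symm), map_zero]))

/-- An automorphism fixing a point is the identity if it is so on all truncations. -/
theorem eq_refl_of_act {σ : K ≃ₐ[k] K} {e : A →ₐ[k] k} (h : Carries σ e e)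
    (h1 : ∀ n, act h n = AlgHom.id k _) : σ = AlgEquiv.refl := by
  have hA : ∀ a : A, σ (algebraMap A K a) = algebraMap A K a := fun a => by
    have : (⟨σ (algebraMap A K a), h.mem (algebraMap_mem_loc e a)⟩ : loc K e) -
        ⟨algebraMap A K a, algebraMap_mem_loc e a⟩ = 0 := eq_zero_of_forall_red e fun n => by
      rw [map_sub, ← act_mk h, h1, AlgHom.id_apply, red_algebraMap, sub_self]
    exact congrArg Subtype.val (sub_eq_zero.1 this)
  refine AlgEquiv.ext fun x => ?_
  obtain ⟨a, b, hb, rfl⟩ := IsFractionRing.div_surjective A x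
  simp [map_div₀, hA]

/-- An endomorphism of the local ring which is onto on first order jets is an automorphism. -/
theorem carries_symm_of_surjective {σ : K ≃ₐ[k] K} {e : A →ₐ[k] k} (h : Carries σ e e)
    (h2 : Function.Surjective (act h 2)) : Carries σ.symm e e := by
  classical
  haveI : IsNoetherianRing A := Algebra.FiniteType.isNoetherianRing k A
  set m := RingHom.ker e with hm
  have hinj : ∀ n, Function.Injective (act h n) := by
    intro n
    haveI := finite_jet e n
    refine LinearMap.injective_iff_surjective (f := (act h n).toLinearMap).2 ?_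
    by_cases h2n : 2 ≤ n
    swap
    · intro y
      obtain ⟨x, rfl⟩ := Ideal.Quotient.mk_surjective y
      refine ⟨algebraMap k _ (e x), ?_⟩
      show act h n (algebraMap k _ (e x)) = _
      rw [AlgHom.commutes, IsScalarTower.algebraMap_apply k A (jet e n)]
      refine Ideal.Quotient.eq.2 (Ideal.pow_le_pow_right (show n ≤ 1 by omega) ?_)
      rw [pow_one]
      simp [hm, RingHom.mem_ker]
    let S : Subalgebra k A := (act h n).range.comap (Ideal.Quotient.mkₐ k (m ^ n))
    have hS2 : ∀ x ∈ m, ∃ s ∈ S, x - s ∈ m ^ 2 := by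
      intro x _
      obtain ⟨y, hy⟩ := h2 (Ideal.Quotient.mk _ x)
      obtain ⟨z, rfl⟩ := Ideal.Quotient.mk_surjective y
      rw [act_mk] at hy
      obtain ⟨a, b, hb, hab⟩ := (h.mem (algebraMap_mem_loc e z) : σ (algebraMap A K z) ∈ loc K e)
      have hn := red_spec (n := n) ⟨_, h.mem (algebraMap_mem_loc e z)⟩ hb hab
      have h22 := red_spec (n := 2) ⟨_, h.mem (algebraMap_mem_loc e z)⟩ hb hab
      obtain ⟨w, hw⟩ := Ideal.Quotient.mk_surjective (red e n ⟨_, h.mem (algebraMap_mem_loc e z)⟩)
      refine ⟨w, ⟨Ideal.Quotient.mk _ z, (act_mk h n z).trans hw.symm⟩, ?_⟩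
      · have e1 : w * b - a ∈ m ^ 2 := Ideal.pow_le_pow_right h2n (by
          rw [← Ideal.Quotient.eq, map_mul, hw, hn])
        have e2 : x * b - a ∈ m ^ 2 := by rw [← Ideal.Quotient.eq, map_mul, ← hy, h22]
        have e3 : (x - w) * b ∈ m ^ 2 := by
          have := sub_mem e2 e1; convert this using 1; ring
        have := Ideal.Quotient.eq_zero_iff_mem.2 e3
        rw [map_mul] at this
        exact Ideal.Quotient.eq_zero_iff_mem.1 ((isUnit_jet e 2 hb).mul_left_eq_zero.1 this)
    have hm' : ∀ j, ∀ x ∈ m ^ j, ∃ s ∈ S, x - s ∈ m ^ (j + 1) := by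
      intro j
      induction j with
      | zero =>
        intro x _
        exact ⟨algebraMap k A (e x), S.algebraMap_mem _, by simp [hm, RingHom.mem_ker]⟩
      | succ j ih =>
        intro x hx
        rw [pow_succ] at hx
        induction hx using Submodule.mul_induction_on' with
        | mem_mul_mem p hp q hq =>
          obtain ⟨s, hs, hs'⟩ := ih p hp
          obtain ⟨t, ht, ht'⟩ := hS2 q hq
          refine ⟨s * t, mul_mem hs ht, ?_⟩
          have hsj : s ∈ m ^ j := by
            have := sub_mem hp (Ideal.pow_le_pow_right (Nat.le_succ j) hs'); simpa using this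
          have e1 : p * q - s * t = (p - s) * q + s * (q - t) := by ring
          rw [e1]
          refine add_mem ?_ ?_
          · rw [pow_succ]; exact Ideal.mul_mem_mul hs' hq
          · rw [show j + 1 + 1 = j + 2 from rfl, pow_add]; exact Ideal.mul_mem_mul hsj ht'
        | add p _ q _ hp hq =>
          obtain ⟨s, hs, hs'⟩ := hp
          obtain ⟨t, ht, ht'⟩ := hq
          exact ⟨s + t, add_mem hs ht, by convert add_mem hs' ht' using 1; ring⟩
    have hall : ∀ j, ∀ x : A, ∃ s ∈ S, x - s ∈ m ^ j := by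
      intro j
      induction j with
      | zero => exact fun x => ⟨0, zero_mem _, by simp⟩
      | succ j ih =>
        intro x
        obtain ⟨s, hs, hs'⟩ := ih x
        obtain ⟨t, ht, ht'⟩ := hm' j _ hs'
        exact ⟨s + t, add_mem hs ht, by rwa [← sub_sub]⟩
    intro y
    obtain ⟨x, rfl⟩ := Ideal.Quotient.mk_surjective y
    obtain ⟨s, ⟨z, hz⟩, hs'⟩ := hall n x
    exact ⟨z, hz.trans (Ideal.Quotient.eq.2 hs').symm⟩
  intro f
  obtain ⟨a, b, hb, hab⟩ := IsFractionRing.div_surjective A (σ.symm (algebraMap A K f))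
  have hb0 : algebraMap A K b ≠ 0 := IsFractionRing.to_map_ne_zero_of_mem_nonZeroDivisors hb
  have heq : σ (algebraMap A K a) = algebraMap A K f * σ (algebraMap A K b) := by
    rw [eq_comm, eq_div_iff hb0] at hab
    rw [← hab, map_mul, AlgEquiv.apply_symm_apply]
  have hsol : ∀ n, a ∈ Ideal.span {b} ⊔ m ^ n := by
    intro n
    haveI := finite_jet e n
    obtain ⟨y, hy⟩ := LinearMap.injective_iff_surjective (f := (act h n).toLinearMap).1 (hinj n)
      (Ideal.Quotient.mk _ f)
    obtain ⟨z, rfl⟩ := Ideal.Quotient.mk_surjective y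
    have hy' : act h n (Ideal.Quotient.mk _ z) = Ideal.Quotient.mk _ f := hy
    have : act h n (Ideal.Quotient.mk _ (a - b * z)) = 0 := by
      rw [map_sub, map_mul, map_sub, map_mul, hy', act_mk, act_mk]
      rw [show (⟨σ (algebraMap A K a), h.mem (algebraMap_mem_loc e a)⟩ : loc K e) =
        ⟨algebraMap A K f, algebraMap_mem_loc e f⟩ * ⟨σ (algebraMap A K b), h.mem (algebraMap_mem_loc e b)⟩
        from Subtype.ext heq, map_mul, red_algebraMap]
      ring
    have h0 := Ideal.Quotient.eq_zero_iff_mem.1 (hinj n (this.trans (map_zero _).symm))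
    have e1 : a = b * z + (a - b * z) := by ring
    rw [e1]
    exact Submodule.add_mem_sup (Ideal.mem_span_singleton.2 (dvd_mul_right b z)) h0
  let I := Ideal.span {b}
  let q := Ideal.Quotient.mk I
  have hmem : q a ∈ (⨅ n : ℕ, (m.map q) ^ n • ⊤ : Ideal (A ⧸ I)) := by
    simp only [Submodule.mem_iInf, smul_eq_mul, Ideal.mul_top]
    intro n
    rw [← Ideal.map_pow]
    obtain ⟨u, hu, v, hv, huv⟩ := Submodule.mem_sup.1 (hsol n)
    rw [← huv, map_add, Ideal.Quotient.eq_zero_iff_mem.2 hu, zero_add]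
    exact Ideal.mem_map_of_mem _ hv
  obtain ⟨⟨r, hr⟩, hrx⟩ := (Ideal.mem_iInf_smul_pow_eq_bot_iff (m.map q) (q a)).1 hmem
  obtain ⟨r₀, hr₀, rfl⟩ := (Ideal.mem_map_iff_of_surjective q Ideal.Quotient.mk_surjective).1 hr
  have hd : (1 - r₀) * a ∈ I := by
    rw [← Ideal.Quotient.eq_zero_iff_mem, map_mul, map_sub, map_one, sub_mul, _root_.one_mul, sub_eq_zero]
    exact hrx.symm
  obtain ⟨c, hc⟩ := Ideal.mem_span_singleton'.1 hd
  have hs : e (1 - r₀) = 1 := by rw [map_sub, map_one, show e r₀ = 0 from hr₀, sub_zero]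
  have hkey : σ.symm (algebraMap A K f) * algebraMap A K (1 - r₀) = algebraMap A K c := by
    rw [← hab, div_mul_eq_mul_div, div_eq_iff hb0, ← map_mul, ← map_mul, mul_comm a, ← hc]
  refine ⟨c, 1 - r₀, by rw [hs]; exact one_ne_zero, hkey, ?_⟩
  -- the value is preserved
  obtain ⟨p, q', hq', hpq, hep⟩ := h c
  obtain ⟨p₁, q₁, hq₁, hpq₁, hep₁⟩ := h (1 - r₀)
  have h3 : algebraMap A K f * σ (algebraMap A K (1 - r₀)) = σ (algebraMap A K c) := by
    rw [← hkey, map_mul, AlgEquiv.apply_symm_apply]
  have h4 : f * p₁ * q' = p * q₁ := IsFractionRing.injective A K (by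
    simp only [map_mul]
    linear_combination (-(algebraMap A K f * algebraMap A K q')) * hpq₁ + (algebraMap A K q₁ * algebraMap A K q') * h3 + (algebraMap A K q₁) * hpq)
  have h5 := congrArg e h4
  rw [map_mul, map_mul, map_mul, hep, hep₁, hs] at h5
  apply mul_right_cancel₀ (mul_ne_zero hq₁ hq')
  linear_combination -h5 - (e f * e q₁ * e q') * hs

end GrothLib.Chev24
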