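import Groth.Agent.Lib.Chev24.Boundary
import Groth.Agent.Lib.Induce27.Neutral
import Groth.Agent.Lib.Rigidity.AbImage

/-!
# Reduction to the neutral component
-/

set_option autoImplicit false
set_option linter.all false
set_option backward.isDefEq.respectTransparency false
set_option maxHeartbeats 1000000
set_option synthInstance.maxHeartbeats 100000

universe u

open CategoryTheory CategoryTheory.Limits MonoidalCategory CartesianMonoidalCategory MonObj GrpObj
open AlgebraicGeometry VecGrp Topology

noncomputable section

namespace GrothLib.Chev24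

attribute [-instance] Hom.commGroup Hom.commMonoid CommGrpObj.toIsCommMonObj

variable {k : Type u} [Field k] [IsAlgClosed k]

/-- A smooth group which is not proper contains a positive dimensional smooth affine closed subgroup. -/
theorem exists_affine_subgroup (G : Over (Spec (CommRingCat.of k))) [GrpObj G] [Smooth G.hom] [QuasiCompact G.hom]
    (hG : ¬ IsProper G.hom) :
    ∃ (H : Over (Spec (CommRingCat.of k))) (_ : GrpObj H) (j : H ⟶ G), IsMonHom j ∧ IsClosedImmersion j.left ∧
      Smooth H.hom ∧ IsAffine H.left ∧ 0 < topologicalKrullDim ↥H.left := by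
  haveI : IsSeparated G.hom := GrpSchField.isSeparated G
  obtain ⟨G₀, _, j, hj, hjo, hrange, -, -⟩ := GrothLib.Neutral.exists_neutralPart G
  haveI := hj
  haveI := hjo
  let p : ↥(𝟙_ (Over (Spec (CommRingCat.of k)))).left := IsLocalRing.closedPoint k
  have hr : Set.range j.left.base = connectedComponent (η[G].left.base p) := by
    rw [hrange, GrothLib.Induce27.neutralSet_eq G p]
  haveI : IsClosedImmersion j.left := IsClosedImmersion.of_isPreimmersion j.left (by
    show IsClosed (Set.range j.left.base)
    rw [hr]; exact isClosed_connectedComponent)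
  haveI : Smooth G₀.hom := by rw [← Over.w j]; infer_instance
  haveI : QuasiCompact G₀.hom := by rw [← Over.w j]; infer_instance
  haveI : ConnectedSpace G₀.left := by
    haveI : ConnectedSpace (Set.range j.left.base) := Subtype.connectedSpace (by
      rw [hr]; exact isConnected_connectedComponent)
    exact j.left.isOpenEmbedding.toIsEmbedding.toHomeomorph.symm.surjective.connectedSpace
      j.left.isOpenEmbedding.toIsEmbedding.toHomeomorph.symm.continuous
  haveI : IrreducibleSpace G₀.left := GrothLib.Rigidity.irreducibleSpace_of_connected G₀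
  haveI : IsReduced G₀.left := GrothLib.Rigidity.isReduced_of_smooth G₀.hom
  haveI : AlgebraicGeometry.IsIntegral G₀.left := isIntegral_of_irreducibleSpace_of_isReduced _
  haveI : JacobsonSpace G.left := LocallyOfFiniteType.jacobsonSpace G.hom
  have hG₀ : ¬ IsProper G₀.hom := by
    intro hp
    refine hG ?_
    haveI : UniversallyClosed G.hom := UniversallyClosed.of_valuativeCriterion G.hom fun S => by
      let x : G.left := S.i₁ (IsLocalRing.closedPoint S.K)
      obtain ⟨y, hy, hyc⟩ := nonempty_inter_closedPoints (Z := closure ({x} : Set G.left))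
        ⟨x, subset_closure rfl⟩ isClosed_closure.isLocallyClosed
      obtain ⟨a, ha⟩ := exists_point (X := G) hyc
      let τ : G ⟶ G := (toUnit G ≫ unitIso.hom ≫ a) * 𝟙 G
      haveI hτ : IsIso τ := by
        refine ⟨(toUnit G ≫ unitIso.hom ≫ a⁻¹) * 𝟙 G, ?_, ?_⟩ <;>
        · simp only [τ, MonObj.comp_mul, Category.comp_id, ← Category.assoc]
          rw [toUnit_unique (_ ≫ toUnit G) (toUnit G)]
          simp [GrpObj.comp_inv, ← _root_.mul_assoc]
      haveI : IsIso τ.left := inferInstanceAs (IsIso ((Over.forget _).map τ))
      have hτ1 : τ.left (η[G].left.base p) = y := by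
        rw [← ha]
        show (η[G].left ≫ τ.left) p = _
        rw [← Over.comp_left]
        have e : η[G] ≫ τ = unitIso.hom ≫ a := by
          simp only [τ, MonObj.comp_mul, Category.comp_id, ← Category.assoc]
          rw [toUnit_unique (η[G] ≫ toUnit G) (𝟙 _), Category.id_comp, GenSubgrp14.eta_eq_one, _root_.mul_one]
        rw [e]
        rfl
      have hx : x ∈ τ.left '' connectedComponent (η[G].left.base p) := by
        have hxy : x ∈ connectedComponent y := by
          rw [← connectedComponent_eq ((isPreirreducible_singleton.closure).isPreconnected.subset_connectedComponent (subset_closure rfl) hy)]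
          exact mem_connectedComponent
        refine ⟨(inv τ.left) x, ?_, by rw [← Scheme.Hom.comp_apply, IsIso.inv_hom_id]; rfl⟩
        have h1 : (inv τ.left) y = η[G].left.base p := by
          rw [← hτ1, ← Scheme.Hom.comp_apply, IsIso.hom_inv_id]; rfl
        rw [← h1]
        exact (inv τ.left).continuous.image_connectedComponent_subset _ ⟨x, hxy, rfl⟩
      rw [← hr] at hx
      have hsub : Set.range (S.i₁ ≫ inv τ.left) ⊆ Set.range j.left := by
        rintro _ ⟨s, rfl⟩
        obtain ⟨_, ⟨z, rfl⟩, hz⟩ := hx
        refine ⟨z, ?_⟩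
        haveI : Subsingleton ↥(Spec (CommRingCat.of S.K)) := inferInstanceAs (Subsingleton (PrimeSpectrum S.K))
        rw [Subsingleton.elim s (IsLocalRing.closedPoint S.K), Scheme.Hom.comp_apply]
        refine τ.left.homeomorph.injective ?_
        show τ.left (j.left z) = τ.left ((inv τ.left) x)
        rw [← Scheme.Hom.comp_apply (inv τ.left), IsIso.inv_hom_id]
        exact hz
      let i₁' := IsOpenImmersion.lift j.left (S.i₁ ≫ inv τ.left) hsub
      have hw : G₀.hom = j.left ≫ G.hom := (Over.w j).symm
      have hi : i₁' ≫ G₀.hom = S.i₁ ≫ G.hom := by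
        rw [hw, ← Category.assoc, IsOpenImmersion.lift_fac, Category.assoc]
        congr 1
        rw [IsIso.inv_comp_eq]
        exact (Over.w τ).symm
      have hex : ValuativeCriterion.Existence G₀.hom := by
        have h : UniversallyClosed G₀.hom := inferInstance
        rw [UniversallyClosed.eq_valuativeCriterion] at h
        exact h.1
      obtain ⟨⟨⟨ℓ, h₁, h₂⟩⟩⟩ := hex { R := S.R, K := S.K, i₁ := i₁', i₂ := S.i₂, commSq := ⟨by rw [hi]; exact S.commSq.w⟩ }
      refine ⟨⟨⟨ℓ ≫ j.left ≫ τ.left, ?_, ?_⟩⟩⟩
      · rw [← Category.assoc, h₁, ← Category.assoc, IsOpenImmersion.lift_fac, Category.assoc, IsIso.inv_hom_id,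
          Category.comp_id]
      · rw [Category.assoc, Category.assoc, Over.w τ, Over.w j]
        exact h₂
    exact { }
  obtain ⟨H, _, i, hi, hic, hH⟩ := exists_affine_of_not_isProper hG₀
  haveI := hi
  haveI := hic
  exact ⟨H, inferInstance, i ≫ j, inferInstance, inferInstanceAs (IsClosedImmersion (i.left ≫ j.left)), hH⟩

end GrothLib.Chev24
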