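import Groth.Agent.Lib.MultDef14.SubTransporter
import Groth.Agent.Lib.MultDef14.EtaleLocal
import Groth.Agent.Lib.MultDef14.SubSpec
import Groth.Agent.S19141

/-!
# Transporters of subgroups of multiplicative type in separated groups
-/

universe u

open CategoryTheory MonoidalCategory CartesianMonoidalCategory MonObj GrpObj AlgebraicGeometry

set_option backward.isDefEq.respectTransparency false

namespace GrothLib.MultSep24

open GrothLib.MultDef14
open GrothLib.DiagGrp (HasChartsFpqc)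

variable {S : Scheme.{u}} {H₁ H₂ G : Over S} [GrpObj H₁] [GrpObj H₂] [GrpObj G]

/-- A subgroup of multiplicative type of a separated group of finite presentation is closed. -/
theorem isClosedImmersion_of_mono_separated {H : Over S} [GrpObj H] (hH : SGA3x.IsMultTypeFT H)
    [IsSeparated G.hom] [QuasiCompact G.hom] [LocallyOfFinitePresentation G.hom] (i : H ⟶ G) [IsMonHom i] [Mono i] :
    IsClosedImmersion i.left := by
  obtain ⟨Q, _, j, _, f, _, hj, -, hf, hs, hfj⟩ :=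
    (Groth.Agent.S19141.result H G (DiagGrp.locally_of_isMultTypeFT hH) i).1
  haveI := hj; haveI := hf; haveI := hs
  haveI : Mono (f ≫ j) := by rw [hfj]; infer_instance
  haveI : Mono f := mono_of_mono f j
  haveI : Mono f.left := inferInstance
  haveI : LocallyOfFinitePresentation (f.left ≫ Q.hom) := by
    rw [Over.w f]; exact DiagGrp.lfp_of_isMultTypeFT hH
  haveI : LocallyOfFiniteType Q.hom := by rw [← Over.w j]; infer_instance
  haveI : LocallyOfFinitePresentation f.left := DiagGrp.lfp_of_comp_of_lft f.left Q.hom inferInstance inferInstance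
  haveI : IsOpenImmersion f.left := IsOpenImmersion.of_flat_of_mono f.left
  haveI : IsIso f.left := (isIso_iff_isOpenImmersion_and_surjective _).mpr ⟨inferInstance, hs⟩
  rw [← hfj, Over.comp_left]
  infer_instance

variable (hH₁ : SGA3x.IsMultTypeFT H₁) (hH₂ : SGA3x.IsMultTypeFT H₂) (hG : Smooth G.hom) [IsSeparated G.hom] [QuasiCompact G.hom]
  (i₁ : H₁ ⟶ G) [IsMonHom i₁] (i₂ : H₂ ⟶ G) [IsMonHom i₂] [Mono i₂]

include hH₁ hH₂ hG in
/-- The closed transporter for containment. -/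
theorem exists_into : ∃ (T : Over S) (j : T ⟶ G), IsClosedImmersion j.left ∧ LocallyOfFinitePresentation T.hom ∧
    ∀ (X : Over S) (g : X ⟶ G), (∃ t : X ⟶ T, t ≫ j = g) ↔ ConjInto i₁ i₂ g := by
  haveI := hG
  haveI := hG
  haveI := isClosedImmersion_of_mono_separated hH₂ i₂
  haveI := EssFree.isAffineHom_multTypeFT H₁ hH₁
  obtain ⟨T, j, hj, hfp, hT⟩ := EssFree.exists_closed_transporter G H₁ H₂ inferInstance i₁
    (EssFree.of_multTypeFT H₁ hH₁) i₂ (DiagGrp.lfp_of_isMultTypeFT hH₂)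
  exact ⟨T, j, hj, hfp, hT⟩

omit [GrpObj H₁] [GrpObj H₂] [GrpObj G] in
theorem smooth_of_lift_unused (T : Over S) (hfp : LocallyOfFinitePresentation T.hom)
    (h : ∀ {R : Type u} [CommRing R] (q : Spec (CommRingCat.of R) ⟶ S) (J : Ideal R), J ^ 2 = ⊥ →
      ∀ t₀ : aff q (R ⧸ J) ⟶ T, ∃ t : aff q R ⟶ T, affMap q (Ideal.Quotient.mkₐ R J) ≫ t = t₀) :
    Smooth T.hom := by
  refine (Groth.Agent.S1488.result T.hom).mpr ⟨hfp, ?_⟩
  intro A _ I hI a b w
  obtain ⟨t, ht⟩ := h b I hI (Over.homMk a w.symm)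
  refine ⟨t.left, congrArg CommaMorphism.left ht, ?_⟩
  refine (Over.w t).trans ?_
  change Spec.map _ ≫ b = b
  rw [Algebra.algebraMap_self, CommRingCat.ofHom_id]
  exact (congrArg (· ≫ b) (Spec.map_id _)).trans (Category.id_comp b)

include hH₁ hH₂ hG in
/-- The smooth transporter for containment. -/
theorem exists_transporterInto : ∃ (T : Over S) (j : T ⟶ G), IsClosedImmersion j.left ∧ Smooth T.hom ∧
    ∀ (X : Over S) (g : X ⟶ G), (∃ t : X ⟶ T, t ≫ j = g) ↔ ConjInto i₁ i₂ g := by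
  obtain ⟨T, j, hj, hfp, hT⟩ := exists_into hH₁ hH₂ hG i₁ i₂
  haveI := hj
  have hjm : Mono j := (Over.forget S).mono_of_mono_map (show Mono j.left from inferInstance)
  refine ⟨T, j, hj, smooth_of_lift T hfp fun q J hJ t₀ => ?_, hT⟩
  obtain ⟨g₁, hg₁⟩ := exists_lift_point ((Groth.Agent.S1488.result G.hom).mp hG).2 q J hJ (t₀ ≫ j)
  obtain ⟨g, hg, hgc⟩ := exists_conjInto_step (DiagGrp.hasChartsFpqc_of_isMultTypeFT hH₁)
    (DiagGrp.hasChartsFpqc_of_isMultTypeFT hH₂) i₁ i₂ q J hJ g₁ (by rw [hg₁]; exact (hT _ _).mp ⟨t₀, rfl⟩)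
  obtain ⟨t, rfl⟩ := (hT _ g).mpr hgc
  exact ⟨t, by rw [← cancel_mono j, Category.assoc, hg, hg₁]⟩

include hH₁ hH₂ hG in
/-- The smooth transporter of one subgroup onto another. -/
theorem exists_transporterSub [Mono i₁] : ∃ (T : Over S) (j : T ⟶ G), IsClosedImmersion j.left ∧ Smooth T.hom ∧
    ∀ (X : Over S) (g : X ⟶ G), (∃ t : X ⟶ T, t ≫ j = g) ↔ ConjSub i₁ i₂ g := by
  obtain ⟨T₁, j₁, hj₁, hf₁, h₁⟩ := exists_into hH₁ hH₂ hG i₁ i₂
  obtain ⟨T₂, j₂, hj₂, hf₂, h₂⟩ := exists_into hH₂ hH₁ hG i₂ i₁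
  haveI := hj₁
  haveI := hj₂
  let j₂' : T₂ ⟶ G := j₂ ≫ ι[G]
  have hj₂' : IsClosedImmersion j₂'.left := by
    haveI : IsIso (ι[G] : G ⟶ G).left := inferInstanceAs (IsIso ((Over.forget S).map (ι[G])))
    change IsClosedImmersion (j₂.left ≫ (ι[G] : G ⟶ G).left)
    infer_instance
  haveI := hj₂'
  let P := Limits.pullback j₁ j₂'
  let j : P ⟶ G := Limits.pullback.fst j₁ j₂' ≫ j₁
  have sq := (IsPullback.of_hasPullback j₁ j₂').map (Over.forget S)
  haveI : IsClosedImmersion (Limits.pullback.fst j₁ j₂').left :=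
    MorphismProperty.of_isPullback sq.flip hj₂'
  have hj : IsClosedImmersion j.left := by
    change IsClosedImmersion ((Limits.pullback.fst j₁ j₂').left ≫ j₁.left)
    infer_instance
  haveI := hj
  have hjm : Mono j := (Over.forget S).mono_of_mono_map (show Mono j.left from inferInstance)
  haveI : LocallyOfFinitePresentation P.hom := by
    haveI : LocallyOfFinitePresentation j₂'.left := by
      haveI : LocallyOfFinitePresentation (j₂'.left ≫ G.hom) := by rw [Over.w j₂']; exact hf₂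
      haveI := hG
      exact DiagGrp.lfp_of_comp_of_lft j₂'.left G.hom inferInstance inferInstance
    haveI : LocallyOfFinitePresentation (Limits.pullback.fst j₁ j₂').left :=
      MorphismProperty.of_isPullback sq.flip ‹LocallyOfFinitePresentation j₂'.left›
    haveI := hf₁
    rw [← Over.w (Limits.pullback.fst j₁ j₂')]
    infer_instance
  have hspec : ∀ (X : Over S) (g : X ⟶ G), (∃ t : X ⟶ P, t ≫ j = g) ↔ ConjSub i₁ i₂ g := by
    intro X g
    constructor
    · rintro ⟨t, rfl⟩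
      intro Y p
      refine ⟨fun h => (h₁ X _).mp ⟨t ≫ Limits.pullback.fst j₁ j₂', by rw [Category.assoc]⟩ Y p h, fun h' => ?_⟩
      have e : (t ≫ j)⁻¹ = (t ≫ Limits.pullback.snd j₁ j₂') ≫ j₂ := by
        rw [show t ≫ j = t ≫ Limits.pullback.snd j₁ j₂' ≫ j₂ ≫ ι[G] from
          congrArg (t ≫ ·) Limits.pullback.condition, Hom.inv_def]
        simp
      obtain ⟨h, hh⟩ := (h₂ X _).mp ⟨_, e.symm⟩ Y p h'
      exact ⟨h, by rwa [GrpObj.comp_inv, _root_.inv_inv] at hh⟩
    · intro hg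
      obtain ⟨t₁, ht₁⟩ := (h₁ X g).mpr hg.conjInto
      obtain ⟨t₂, ht₂⟩ := (h₂ X g⁻¹).mpr hg.symm.conjInto
      refine ⟨Limits.pullback.lift t₁ t₂ ?_, by rw [Limits.pullback.lift_fst_assoc, ht₁]⟩
      rw [ht₁, ← Category.assoc, ht₂, Hom.inv_def]
      simp
  refine ⟨P, j, hj, smooth_of_lift P inferInstance fun q J hJ t₀ => ?_, hspec⟩
  obtain ⟨g₁, hg₁⟩ := exists_lift_point ((Groth.Agent.S1488.result G.hom).mp hG).2 q J hJ (t₀ ≫ j)
  obtain ⟨g, hg, hgc⟩ := exists_conjSub_step (DiagGrp.hasChartsFpqc_of_isMultTypeFT hH₁)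
    (DiagGrp.hasChartsFpqc_of_isMultTypeFT hH₂) i₁ i₂ q J hJ g₁ (by rw [hg₁]; exact (hspec _ _).mp ⟨t₀, rfl⟩)
  obtain ⟨t, rfl⟩ := (hspec _ g).mpr hgc
  exact ⟨t, by rw [← cancel_mono j, Category.assoc, hg, hg₁]⟩


end GrothLib.MultSep24
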