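import Groth.Agent.Lib.Flag27.BorelTori
import Groth.Agent.Lib.Flag27.Nilpotent
import Groth.Agent.Lib.CentMT14.ToUnip
import Groth.Agent.Lib.Rigidity.SemiAbelian
import Groth.Agent.Lib.Chev24.Tori
import Groth.Agent.Lib.Chev24.AffPart

/-!
# Normalizers of Cartan subgroups and of maximal tori
-/

set_option autoImplicit false
set_option linter.all false
set_option backward.isDefEq.respectTransparency false
set_option maxHeartbeats 1000000
set_option synthInstance.maxHeartbeats 200000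

universe u

open CategoryTheory CategoryTheory.Limits MonoidalCategory CartesianMonoidalCategory MonObj GrpObj AlgebraicGeometry
open GrothLib.Flag27 (IsUnip)

noncomputable section

namespace GrothLib.Chev24

section Comm

variable {k : Type u} [Field k]

/-- Connected smooth proper groups are commutative. -/
theorem comm_of_proper {A : Over (Spec (CommRingCat.of k))} [GrpObj A] [IsProper A.hom] [Smooth A.hom]
    [ConnectedSpace A.left] {Z : Over (Spec (CommRingCat.of k))} (a b : Z ⟶ A) : a * b = b * a := by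
  haveI : GeometricallyReduced A.hom := GrothLib.Rigidity.geometricallyReduced_of_smooth A.hom
  haveI : GeometricallyIntegral A.hom := GrothLib.Rigidity.geometricallyIntegral_of_connected A
  haveI : IsCommMonObj A := isCommMonObj_of_isProper_of_geometricallyIntegral A
  exact mul_comm a b

end Comm

attribute [-instance] Hom.commGroup Hom.commMonoid CommGrpObj.toIsCommMonObj

variable {k : Type u} [Field k]

/-- A family of homomorphisms from a torus to a unipotent group is trivial. -/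
theorem family_hom_eq_one {T U X : Over (Spec (CommRingCat.of k))} [GrpObj T] [GrpObj U] (hT : Red.IsTorus T)
    (hU : IsUnip k U) (ψ : X ⊗ T ⟶ U)
    (hψ : ∀ (Z : Over (Spec (CommRingCat.of k))) (a : Z ⟶ X) (t t' : Z ⟶ T),
      lift a (t * t') ≫ ψ = (lift a t ≫ ψ) * (lift a t' ≫ ψ))
    {Z : Over (Spec (CommRingCat.of k))} (a : Z ⟶ X) (t : Z ⟶ T) : lift a t ≫ ψ = 1 := by
  obtain ⟨A, _, _, -, hu, ⟨e⟩⟩ := hU
  let f := X.hom
  let TX := Red.bc f T
  let π : ∀ (W : Over X.left), (Over.map f).obj W ⟶ X := fun W => Over.homMk W.hom rfl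
  let E := GrothLib.DiagGrp.bcPointMulEquiv f T
  let F := GrothLib.DiagGrp.bcPointMulEquiv f U
  let ev : (Over.map f).obj TX ⟶ X ⊗ T := lift (π TX) ((E TX).symm (𝟙 TX))
  let u : TX ⟶ Red.bc f U := F TX (ev ≫ ψ)
  have key : ∀ (W : Over X.left) (w : W ⟶ TX), w ≫ u = F W (lift (π W) ((E W).symm w) ≫ ψ) := by
    intro W w
    show w ≫ GrothLib.DiagGrp.bcPoint f U TX (ev ≫ ψ) = GrothLib.DiagGrp.bcPoint f U W _
    rw [← GrothLib.DiagGrp.bcPoint_comp]
    congr 1
    rw [← Category.assoc, comp_lift]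
    congr 2
    exact Over.OverMorphism.ext (Over.w w)
  haveI : IsMonHom u := GrothLib.GrpSchField.isMonHom_of_mul u (by
    have h := key (TX ⊗ TX) (fst TX TX * snd TX TX)
    rw [map_mul, hψ, map_mul, ← key, ← key] at h
    rw [Hom.mul_def, Hom.mul_def, lift_fst_snd, Category.id_comp] at h
    rw [h, lift_fst_comp_snd_comp])
  have hcharts := GrothLib.DiagGrp.hasChartsFpqc_of_isTorus hT
  let a' := (Over.pullback f).mapGrp.mapIso e
  haveI : IsMonHom a'.inv.hom.hom := a'.inv.hom.isMonHom_hom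
  have h1 : u ≫ a'.inv.hom.hom = 1 :=
    GrothLib.CentMT14.hom_eq_one A f (hcharts.baseChange f) hu (u ≫ a'.inv.hom.hom)
  have hu1 : u = 1 := by
    haveI : Mono a'.inv.hom.hom := inferInstanceAs (Mono ((Grp.forget _).mapIso a').inv)
    rw [← cancel_mono a'.inv.hom.hom, h1, MonObj.one_comp]
  let W : Over X.left := Over.mk a.left
  let i₀ : (Over.map f).obj W ≅ Z := Over.isoMk (Iso.refl _) (by simp [W, f])
  have h2 := key W (E W (i₀.hom ≫ t))
  rw [MulEquiv.symm_apply_apply, hu1, MonObj.comp_one, eq_comm, map_eq_one_iff _ (F W).injective] at h2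
  have h3 : lift (π W) (i₀.hom ≫ t) = i₀.hom ≫ lift a t := by
    rw [comp_lift]
    congr 1
  rw [h3, Category.assoc] at h2
  rw [← cancel_epi i₀.hom, h2, MonObj.comp_one]

variable [IsAlgClosed k] {G : Over (Spec (CommRingCat.of k))} [GrpObj G] [Smooth G.hom]
  [QuasiCompact G.hom] [ConnectedSpace G.left]

/-- Points normalizing the centralizer of a maximal torus normalize the torus. -/
theorem conj_torus_of_normalizes {T C : Over (Spec (CommRingCat.of k))} [GrpObj T] [GrpObj C] (i : T ⟶ G)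
    (hT : Red.IsMaximalTorus i) (c : C ⟶ G) (hC : Red.IsCentralizerOf i c) {X : Over (Spec (CommRingCat.of k))}
    (g : X ⟶ G)
    (hg : ∀ (X' : Over (Spec (CommRingCat.of k))) (x : X' ⟶ X) (h : X' ⟶ C),
      ∃ h' : X' ⟶ C, (x ≫ g) * (h ≫ c) * (x ≫ g)⁻¹ = h' ≫ c)
    (X' : Over (Spec (CommRingCat.of k))) (x : X' ⟶ X) (h : X' ⟶ T) :
    ∃ h' : X' ⟶ T, (x ≫ g) * (h ≫ i) * (x ≫ g)⁻¹ = h' ≫ i := by
  haveI : IsSeparated G.hom := GrpSchField.isSeparated G
  haveI : LocallyOfFiniteType G.hom := inferInstance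
  obtain ⟨hm, hmono, hTt, hmax⟩ := isMaxTorus_of_isMaximalTorus hT
  haveI := hm; haveI := hmono
  obtain ⟨hcm, hcmono, hciff⟩ := hC
  haveI := hcm; haveI := hcmono
  obtain ⟨N, _, iN, hiN, hiNc, hNs, hNc, hNa, hNn, hNmax⟩ := exists_affPart (G := G)
  haveI := hiN; haveI := hiNc; haveI := hNs; haveI := hNc; haveI := hNa
  haveI : Mono iN := Over.mono_of_mono_left iN
  obtain ⟨Q, _, q, hq, hQs, hQq, hqf, hqs, -, hker⟩ := exists_quot iN hNn
  haveI := hq; haveI := hQs; haveI := hQq; haveI := hqf; haveI := hqs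
  haveI := isProper_quotient iN hNmax q hker
  haveI : ConnectedSpace Q.left := q.left.surjective.connectedSpace q.left.continuous
  obtain ⟨hTc, hTa, hTs, hTk⟩ := torus_facts' hTt i
  haveI := hTc; haveI := hTa; haveI := hTs; haveI := hTk
  obtain ⟨tN, htN⟩ := factor_affine iN hNmax hNn T i
  haveI : IsMonHom (tN ≫ iN) := by rw [htN]; infer_instance
  haveI : IsMonHom tN := GrothLib.CentMT14.isMonHom_of_comp tN iN
  haveI : Mono (tN ≫ iN) := by rw [htN]; infer_instance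
  haveI : Mono tN := mono_of_mono tN iN
  have hTN : AGF.IsMaxTorus tN := ⟨inferInstance, inferInstance, hTt, fun R _ r _ _ f hR hf =>
    hmax R (r ≫ iN) f hR (by rw [reassoc_of% hf, htN])⟩
  obtain ⟨CN, _, cN, hcN, -⟩ := GrothLib.MultDef14.exists_centralizer
    (GrothLib.DiagGrp.hasChartsFpqc_of_isTorus hTt) (inferInstance : Smooth N.hom) (isAffineHom_of_isAffine _) tN
  obtain ⟨hcNc, hCNa, hCNs, hCNk⟩ := GrothLib.Flag27.centralizer_facts tN hTt hcN
  haveI := hcNc; haveI := hCNa; haveI := hCNs; haveI := hCNk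
  have hsolv := GrothLib.Flag27.isSolvable_centralizer hTN hcN
  obtain ⟨hcNm, hcNmono, hcNiff⟩ := id hcN
  haveI := hcNm; haveI := hcNmono
  obtain ⟨tC, htC⟩ := (hcNiff _ tN).2 fun X x h => by
    rw [← MonObj.mul_comp, ← MonObj.mul_comp, GrothLib.RankCell14.comm_torus hTt x h]
  haveI : IsMonHom (tC ≫ cN) := by rw [htC]; infer_instance
  haveI : IsMonHom tC := GrothLib.CentMT14.isMonHom_of_comp tC cN
  haveI : Mono (tC ≫ cN) := by rw [htC]; infer_instance
  haveI : Mono tC := mono_of_mono tC cN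
  have hTC : AGF.IsMaxTorus tC := ⟨inferInstance, inferInstance, hTt, fun R _ r _ _ f hR hf =>
    hTN.2.2.2 R (r ≫ cN) f hR (by rw [reassoc_of% hf, htC])⟩
  have hcentral : ∀ (Y : Over (Spec (CommRingCat.of k))) (y : Y ⟶ CN) (w : Y ⟶ T),
      y * (w ≫ tC) = (w ≫ tC) * y := fun Y y w => by
    rw [← cancel_mono cN, MonObj.mul_comp, MonObj.mul_comp, Category.assoc, htC]
    have := (hcNiff _ (y ≫ cN)).1 ⟨y, rfl⟩ Y (𝟙 Y) w
    rwa [Category.id_comp] at this
  haveI : IsClosedImmersion (𝟙 CN : CN ⟶ CN).left := by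
    show IsClosedImmersion (𝟙 CN.left); infer_instance
  have hBC : Red.IsBorelOver k (𝟙 CN) := by
    refine ⟨inferInstance, inferInstance, hCNs, hCNk, GrothLib.Flag27.isSolvableGrp_of_points hsolv, ?_⟩
    intro B' _ i' _ f hic' hsm' hc' hs' hf
    haveI := hic'
    haveI : Mono i' := Over.mono_of_mono_left i'
    exact ⟨i', hf, by rw [← cancel_mono i', Category.assoc, hf, Category.comp_id, Category.id_comp]⟩
  obtain ⟨D, _, U, _, p, s, u, r, hp, hs, hu, hsp, hDt, -, -, -, huc, hup, -, hru, hUu, hUs, -⟩ :=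
    GrothLib.Flag27.hasSplit_of_solvable hsolv
  haveI := hp; haveI := hs; haveI := hu; haveI := huc; haveI := hUs
  haveI : Mono u := Over.mono_of_mono_left u
  obtain ⟨hiso, h₀, hh₀⟩ := GrothLib.Flag27.exists_iso_section_in_borel hBC p s u r hsp hup hru hUu hDt tC hTC tC
    (Category.comp_id _)
  haveI := hiso
  have e2 : AGF.conjBy h₀ tC = tC := by
    have e' := hcentral T (toUnit T ≫ h₀) (𝟙 T)
    rw [Category.id_comp] at e'
    rw [AGF.conjBy, e', mul_inv_cancel_right]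
  rw [e2] at hh₀
  have hs' : s = inv (tC ≫ p) ≫ tC := by
    rw [IsIso.eq_inv_comp, Category.assoc]
    exact hh₀.symm
  let rp : CN ⟶ CN := 𝟙 CN * (p ≫ s)⁻¹
  have hrpm : ∀ {Y : Over (Spec (CommRingCat.of k))} (y y' : Y ⟶ CN),
      (y * y') ≫ r = (y ≫ r) * (y' ≫ r) := by
    intro Y y y'
    rw [← cancel_mono u, Category.assoc (y * y') r u, MonObj.mul_comp (y ≫ r) (y' ≫ r) u, Category.assoc y r u,
      Category.assoc y' r u, hru]
    simp only [MonObj.comp_mul, GrpObj.comp_inv, Category.comp_id, MonObj.mul_comp, _root_.mul_inv_rev]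
    have hc₁ : (y' * (y' ≫ p ≫ s)⁻¹) * (y ≫ p ≫ s)⁻¹ = (y ≫ p ≫ s)⁻¹ * (y' * (y' ≫ p ≫ s)⁻¹) :=
      (Commute.inv_right (show Commute (y' * (y' ≫ p ≫ s)⁻¹) (y ≫ p ≫ s) by
        rw [hs', ← Category.assoc p, ← Category.assoc y]; exact hcentral _ _ _)).eq
    calc y * y' * ((y' ≫ p ≫ s)⁻¹ * (y ≫ p ≫ s)⁻¹)
        = y * ((y' * (y' ≫ p ≫ s)⁻¹) * (y ≫ p ≫ s)⁻¹) := by group
      _ = y * (y ≫ p ≫ s)⁻¹ * (y' * (y' ≫ p ≫ s)⁻¹) := by rw [hc₁]; group
  obtain ⟨tG, htG⟩ := (hciff _ i).2 fun X x h => by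
    rw [← MonObj.mul_comp, ← MonObj.mul_comp, GrothLib.RankCell14.comm_torus hTt x h]
  -- the conjugated torus lands in the affine centralizer
  have hland : ∀ (Z : Over (Spec (CommRingCat.of k))) (a : Z ⟶ X) (t : Z ⟶ T),
      ∃ z : Z ⟶ CN, z ≫ cN ≫ iN = (a ≫ g) * (t ≫ i) * (a ≫ g)⁻¹ := by
    intro Z a t
    obtain ⟨c', hc'⟩ := hg Z a (t ≫ tG)
    rw [Category.assoc, htG] at hc'
    have hq1 : ((a ≫ g) * (t ≫ i) * (a ≫ g)⁻¹) ≫ q = 1 := by
      rw [MonObj.mul_comp, MonObj.mul_comp, GrpObj.inv_comp, Category.assoc t i q,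
        ← htN, Category.assoc tN, GrpSchField.comp_eq_one hker, MonObj.comp_one, MonObj.comp_one, _root_.mul_one, mul_inv_cancel]
    obtain ⟨n, hn⟩ := GrpSchField.exists_lift_of_comp_eq_one hker _ hq1
    obtain ⟨z, hz⟩ := (hcNiff _ n).2 fun Y y w => by
      rw [← cancel_mono iN, MonObj.mul_comp, MonObj.mul_comp, Category.assoc y, hn, hc', Category.assoc w, htN]
      exact (hciff _ (c' ≫ c)).1 ⟨c', rfl⟩ Y y w
    exact ⟨z, by rw [reassoc_of% hz, hn]⟩
  haveI : Mono (cN ≫ iN) := mono_comp cN iN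
  obtain ⟨Ψ, hΨ⟩ := hland (X ⊗ T) (fst X T) (snd X T)
  have hpt : ∀ (Z : Over (Spec (CommRingCat.of k))) (a : Z ⟶ X) (t : Z ⟶ T) (z : Z ⟶ CN),
      z ≫ cN ≫ iN = (a ≫ g) * (t ≫ i) * (a ≫ g)⁻¹ → z = lift a t ≫ Ψ := by
    intro Z a t z hz
    rw [← cancel_mono (cN ≫ iN), hz, Category.assoc, hΨ]
    simp only [MonObj.comp_mul, GrpObj.comp_inv, lift_fst_assoc, lift_snd_assoc]
  have hmult : ∀ (Z : Over (Spec (CommRingCat.of k))) (a : Z ⟶ X) (t t' : Z ⟶ T),
      lift a (t * t') ≫ Ψ ≫ r = (lift a t ≫ Ψ ≫ r) * (lift a t' ≫ Ψ ≫ r) := by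
    intro Z a t t'
    obtain ⟨z, hz⟩ := hland Z a t
    obtain ⟨z', hz'⟩ := hland Z a t'
    have e : lift a (t * t') ≫ Ψ = z * z' := (hpt Z a (t * t') (z * z') (by
      rw [MonObj.mul_comp, hz, hz', MonObj.mul_comp]
      group)).symm
    rw [← Category.assoc, ← Category.assoc, ← Category.assoc, e, ← hpt Z a t z hz, ← hpt Z a t' z' hz', hrpm]
  have hone : ∀ (Z : Over (Spec (CommRingCat.of k))) (a : Z ⟶ X) (t : Z ⟶ T), lift a t ≫ Ψ ≫ r = 1 :=
    fun Z a t => family_hom_eq_one hTt hUu (Ψ ≫ r) hmult a t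
  obtain ⟨z, hz⟩ := hland X' x h
  have hz1 : z ≫ r = 1 := by rw [hpt X' x h z hz, Category.assoc]; exact hone X' x h
  have hzs : z = (z ≫ p ≫ inv (tC ≫ p)) ≫ tC := by
    have e := congrArg (· ≫ u) hz1
    simp only [Category.assoc, hru, MonObj.comp_mul, GrpObj.comp_inv, Category.comp_id, MonObj.one_comp] at e
    rw [mul_inv_eq_one, hs'] at e
    simpa only [Category.assoc] using e
  refine ⟨z ≫ p ≫ inv (tC ≫ p), ?_⟩
  rw [← hz, ← htN, ← htC]
  conv_lhs => rw [hzs]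
  simp only [Category.assoc]

/-- The normalizers of a maximal torus and of its centralizer agree. -/
theorem normalizes_iff {T C : Over (Spec (CommRingCat.of k))} [GrpObj T] [GrpObj C] (i : T ⟶ G)
    (hT : Red.IsMaximalTorus i) (c : C ⟶ G) (hC : Red.IsCentralizerOf i c) {X : Over (Spec (CommRingCat.of k))}
    (g : X ⟶ G) :
    (∀ (X' : Over (Spec (CommRingCat.of k))) (x : X' ⟶ X) (h : X' ⟶ C),
      (∃ h' : X' ⟶ C, (x ≫ g) * (h ≫ c) * (x ≫ g)⁻¹ = h' ≫ c) ∧
      (∃ h' : X' ⟶ C, (x ≫ g)⁻¹ * (h ≫ c) * (x ≫ g) = h' ≫ c)) ↔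
    ∀ (X' : Over (Spec (CommRingCat.of k))) (x : X' ⟶ X) (h : X' ⟶ T),
      (∃ h' : X' ⟶ T, (x ≫ g) * (h ≫ i) * (x ≫ g)⁻¹ = h' ≫ i) ∧
      (∃ h' : X' ⟶ T, (x ≫ g)⁻¹ * (h ≫ i) * (x ≫ g) = h' ≫ i) := by
  constructor
  · intro H X' x h
    refine ⟨conj_torus_of_normalizes i hT c hC g (fun X' x h => (H X' x h).1) X' x h, ?_⟩
    obtain ⟨h', hh'⟩ := conj_torus_of_normalizes i hT c hC g⁻¹ (fun X' x h => by
      obtain ⟨h', hh'⟩ := (H X' x h).2
      exact ⟨h', by rw [GrpObj.comp_inv, _root_.inv_inv, hh']⟩) X' x h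
    rw [GrpObj.comp_inv, _root_.inv_inv] at hh'
    exact ⟨h', hh'⟩
  · intro H X' x h
    obtain ⟨-, -, hciff⟩ := hC
    have hh := (hciff _ (h ≫ c)).1 ⟨h, rfl⟩
    constructor
    · obtain ⟨h', hh'⟩ := (hciff _ ((x ≫ g) * (h ≫ c) * (x ≫ g)⁻¹)).2 fun Y y w => by
        obtain ⟨w', hw'⟩ := (H Y (y ≫ x) w).2
        have e := hh Y y w'
        rw [← hw'] at e
        simp only [MonObj.comp_mul, GrpObj.comp_inv, Category.assoc] at e ⊢
        generalize y ≫ x ≫ g = a at e ⊢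
        generalize y ≫ h ≫ c = b at e ⊢
        generalize w ≫ i = d at e ⊢
        calc a * b * a⁻¹ * d = a * (b * (a⁻¹ * d * a)) * a⁻¹ := by group
          _ = a * (a⁻¹ * d * a * b) * a⁻¹ := by rw [e]
          _ = d * (a * b * a⁻¹) := by group
      exact ⟨h', hh'.symm⟩
    · obtain ⟨h', hh'⟩ := (hciff _ ((x ≫ g)⁻¹ * (h ≫ c) * (x ≫ g))).2 fun Y y w => by
        obtain ⟨w', hw'⟩ := (H Y (y ≫ x) w).1
        have e := hh Y y w'
        rw [← hw'] at e
        simp only [MonObj.comp_mul, GrpObj.comp_inv, Category.assoc] at e ⊢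
        generalize y ≫ x ≫ g = a at e ⊢
        generalize y ≫ h ≫ c = b at e ⊢
        generalize w ≫ i = d at e ⊢
        calc a⁻¹ * b * a * d = a⁻¹ * (b * (a * d * a⁻¹)) * a := by group
          _ = a⁻¹ * (a * d * a⁻¹ * b) * a := by rw [e]
          _ = d * (a⁻¹ * b * a) := by group
      exact ⟨h', hh'.symm⟩

end GrothLib.Chev24
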