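import Groth.Agent.Lib.Flag27.NormalizerBC
import Groth.Agent.Lib.Flag27.CentBC
import Groth.Agent.Lib.Flag27.Conj
import Groth.Agent.Lib.Flag27.BorelGeneral
import Groth.Agent.Lib.MaxTorBC14.Geom
import Groth.Agent.Lib.MultDef14.Spec
import Groth.Agent.Lib.TorusNorm25.SmoothLift
import Groth.Agent.Lib.Chev24.CommTorus

/-!
# Normalizers of subgroups containing the centralizer of a torus
-/

set_option autoImplicit false
set_option linter.all false
set_option backward.isDefEq.respectTransparency false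
set_option maxHeartbeats 1600000
set_option synthInstance.maxHeartbeats 200000

universe u

open CategoryTheory CategoryTheory.Limits MonoidalCategory CartesianMonoidalCategory MonObj GrpObj AlgebraicGeometry

noncomputable section

namespace GrothLib.Chev24

open GrothLib.MultDef14

attribute [-instance] Hom.commGroup Hom.commMonoid CommGrpObj.toIsCommMonObj

/-- A point of the normalizer of a subgroup containing the centralizer of a torus of it lies in the subgroup as soon
as it does so modulo a square-zero ideal. -/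
theorem exists_lift_normalizer_spec {R : Type u} [CommRing R] (J : Ideal R) (hJ : J ^ 2 = ⊥)
    {G H N T : Over (Spec (CommRingCat.of R))} [GrpObj G] [GrpObj H] [GrpObj N] [GrpObj T]
    (hHs : Smooth H.hom) (i : H ⟶ G) [IsMonHom i] [Mono i] (n : N ⟶ G) (hn : Red.IsNormalizerOf i n)
    (hT : Red.IsTorus T) (t : T ⟶ H) [IsMonHom t]
    (hcent : ∀ g : 𝟙_ (Over (Spec (CommRingCat.of R))) ⟶ G,
      (∀ (X : Over (Spec (CommRingCat.of R))) (a : X ⟶ T),
        (toUnit X ≫ g) * (a ≫ t ≫ i) = (a ≫ t ≫ i) * (toUnit X ≫ g)) → ∃ w, w ≫ i = g)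
    (z : 𝟙_ (Over (Spec (CommRingCat.of R))) ⟶ N) (z₀ : closedPt J ⟶ H)
    (hz : z₀ ≫ i = toUnit (closedPt J) ≫ z ≫ n) : ∃ w, w ≫ i = z ≫ n := by
  obtain ⟨l, hl⟩ := exists_lift_point ((Groth.Agent.S1488.result H.hom).mp hHs).2 (𝟙 _) J hJ (closedFrom J ≫ z₀)
  let h : 𝟙_ (Over (Spec (CommRingCat.of R))) ⟶ H := unitTo ≫ l
  have hh : toUnit (closedPt J) ≫ h = z₀ := by
    simp only [h]
    rw [← Category.assoc, toUnit_unitTo, Category.assoc, hl, ← Category.assoc, closedTo_from, Category.id_comp]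
  let g₁ : 𝟙_ (Over (Spec (CommRingCat.of R))) ⟶ G := (h ≫ i)⁻¹ * (z ≫ n)
  have hg₁ : toUnit (closedPt J) ≫ g₁ = 1 := by
    rw [MonObj.comp_mul, GrpObj.comp_inv, reassoc_of% hh, hz, inv_mul_cancel]
  haveI := hn.1
  obtain ⟨⟨y, hy⟩, -⟩ := (hn.2.2 (𝟙_ _) (z ≫ n)).1 ⟨z, rfl⟩ T (toUnit T) t
  let v : T ⟶ H := (toUnit T ≫ h)⁻¹ * y * (toUnit T ≫ h)
  have hv : v ≫ i = (toUnit T ≫ g₁) * (t ≫ i) * (toUnit T ≫ g₁)⁻¹ := by
    simp only [v, g₁, MonObj.mul_comp, GrpObj.inv_comp, MonObj.comp_mul, GrpObj.comp_inv, ← hy, Category.assoc]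
    group
  haveI : IsMonHom (v ≫ i) := by
    rw [hv]
    exact GrothLib.Flag27.isMonHom_conjBy g₁ (t ≫ i)
  haveI : IsMonHom v := GrothLib.DiagGrp.isMonHom_of_comp_mono v i
  obtain ⟨g', -, hg'⟩ := exists_conj_spec J (DiagGrp.hasChartsFpqc_of_isTorus hT) t v hJ 1 (by
    intro Y p a
    rw [← cancel_mono i, MonObj.comp_one, MonObj.comp_one, inv_one, _root_.one_mul, _root_.mul_one, Category.assoc,
      hv]
    simp only [MonObj.comp_mul, GrpObj.comp_inv, Category.assoc]
    have e : a ≫ toUnit T ≫ g₁ = 1 := by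
      rw [← Category.assoc, toUnit_unique (a ≫ toUnit T) (p ≫ toUnit (closedPt J)), Category.assoc, hg₁,
        MonObj.comp_one]
    rw [e, inv_one, _root_.one_mul, _root_.mul_one])
  obtain ⟨w, hw⟩ := hcent ((g' ≫ i)⁻¹ * g₁) fun X a => by
    have e := congrArg (fun f => f ≫ i) (hg' X (toUnit X) a)
    simp only [MonObj.mul_comp, GrpObj.inv_comp, Category.assoc, hv, MonObj.comp_mul, GrpObj.comp_inv] at e
    rw [← Category.assoc a (toUnit T), toUnit_unique (a ≫ toUnit T) (toUnit X)] at e
    simp only [MonObj.comp_mul, GrpObj.comp_inv]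
    generalize toUnit X ≫ g₁ = p at e ⊢
    generalize toUnit X ≫ g' ≫ i = r at e ⊢
    generalize a ≫ t ≫ i = s at e ⊢
    calc r⁻¹ * p * s = r⁻¹ * (p * s * p⁻¹) * p := by group
      _ = r⁻¹ * (r * s * r⁻¹) * p := by rw [e]
      _ = s * (r⁻¹ * p) := by group
  exact ⟨h * (g' * w), by rw [MonObj.mul_comp, MonObj.mul_comp, hw]; simp only [g₁]; group⟩

/-- A subgroup containing the centralizer of a torus of it is open in its normalizer. -/
theorem isOpenImmersion_normalizer_field {k : Type u} [Field k] {G H N T C : Over (Spec (CommRingCat.of k))}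
    [GrpObj G] [GrpObj H] [GrpObj N] [GrpObj T] [GrpObj C] [Smooth H.hom]
    (i : H ⟶ G) [IsMonHom i] [Mono i] (n : N ⟶ G) (hn : Red.IsNormalizerOf i n) [LocallyOfFiniteType N.hom]
    (hT : Red.IsTorus T) (t : T ⟶ H) [IsMonHom t] (c : C ⟶ H) (hC : Red.IsCentralizerOf (t ≫ i) (c ≫ i))
    (v : H ⟶ N) (hv : v ≫ n = i) : IsOpenImmersion v.left := by
  haveI := hn.1
  haveI := hn.2.1
  haveI : Mono (v ≫ n) := by rw [hv]; infer_instance
  haveI : Mono v := mono_of_mono v n
  haveI : Mono v.left := inferInstance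
  haveI : LocallyOfFinitePresentation v.left :=
    DiagGrp.lfp_of_comp_of_lft v.left N.hom (by rw [Over.w v]; infer_instance) ‹_›
  haveI : Smooth v.left := by
    refine TorusNorm25.smooth_of_lift (T := Over.mk v.left) ‹_› fun {A} _ I hI b z₀ => ?_
    let π : Spec (CommRingCat.of A) ⟶ Spec (CommRingCat.of k) := b ≫ N.hom
    haveI : IsMonHom ((Over.pullback π).map t) := inferInstance
    haveI : Mono ((Over.pullback π).map i) := mono_bc π i
    haveI : Smooth (Red.bc π H).hom := GrothLib.Flag27.smooth_bc π H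
    let z : 𝟙_ (Over (Spec (CommRingCat.of A))) ⟶ Red.bc π N :=
      Over.homMk (pullback.lift b (𝟙 _) (by rw [Category.id_comp])) (pullback.lift_snd _ _ _)
    let zH : closedPt I ⟶ Red.bc π H :=
      Over.homMk (pullback.lift z₀.left (Spec.map (CommRingCat.ofHom (Ideal.Quotient.mk I))) (by
        have e : z₀.left ≫ v.left = (Spec.map (CommRingCat.ofHom (algebraMap A (A ⧸ I))) ≫ b) := Over.w z₀
        rw [← Over.w v, reassoc_of% e]
        rfl)) (pullback.lift_snd _ _ _)
    obtain ⟨w, hw⟩ := exists_lift_normalizer_spec I hI inferInstance ((Over.pullback π).map i)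
      ((Over.pullback π).map n) (GrothLib.Flag27.isNormalizerOf_bc π hn) (MaxTorBC14.isTorus_bc π hT)
      ((Over.pullback π).map t) (fun g hg => by
        obtain ⟨x, hx⟩ := ((GrothLib.Flag27.isCentralizerOf_bc π hC).2.2 _ g).2 fun X' y a => by
          rw [toUnit_unique y (toUnit X'), Functor.map_comp]
          exact hg X' a
        exact ⟨x ≫ (Over.pullback π).map c, by rw [Category.assoc, ← Functor.map_comp, hx]⟩)
      z zH (by
        apply Over.OverMorphism.ext
        apply pullback.hom_ext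
        · have e : z₀.left ≫ v.left = (Spec.map (CommRingCat.ofHom (algebraMap A (A ⧸ I))) ≫ b) := Over.w z₀
          simp [zH, z, ← hv, reassoc_of% e]
        · simp [zH, z])
    have hwz : w ≫ (Over.pullback π).map v = z := by
      haveI : Mono ((Over.pullback π).map n) := mono_bc π n
      rw [← cancel_mono ((Over.pullback π).map n), Category.assoc, ← Functor.map_comp, hv, hw]
    have hwb : (w.left ≫ pullback.fst H.hom π) ≫ v.left = b := by
      have e := congrArg (fun f => f.left ≫ pullback.fst N.hom π) hwz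
      simpa [z] using e
    refine ⟨Over.homMk (w.left ≫ pullback.fst H.hom π) ?_, ?_⟩
    · refine hwb.trans ?_
      show b = Spec.map _ ≫ b
      rw [Algebra.algebraMap_self, CommRingCat.ofHom_id]
      exact ((congrArg (· ≫ b) (Spec.map_id _)).trans (Category.id_comp b)).symm
    · apply Over.OverMorphism.ext
      rw [← cancel_mono v.left]
      show (Spec.map _ ≫ w.left ≫ pullback.fst H.hom π) ≫ v.left = z₀.left ≫ v.left
      rw [Category.assoc, hwb]
      exact (Over.w z₀).symm
  exact IsOpenImmersion.of_flat_of_mono v.left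

end GrothLib.Chev24
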