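import Groth.Agent.Lib.Chev24.Spec
import Groth.Agent.Lib.Chev24.Loc
import Groth.Agent.Lib.GrpSchField.HeightMax
import Groth.Agent.Lib.Dim.Ring

/-!
# A positive dimensional family of parameters moving one point of the divisor to the same point
-/

set_option autoImplicit false
set_option linter.all false
set_option maxHeartbeats 2000000

universe u

open scoped TensorProduct

noncomputable section

namespace GrothLib.Chev24

variable {k : Type u} [Field k] {K : Type u} [Field K] [Algebra k K]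
  {A : Type u} [CommRing A] [Algebra k A] [Algebra A K] [IsFractionRing A K] [IsScalarTower k A K]

theorem Carries.value {σ : K ≃ₐ[k] K} {e' e : A →ₐ[k] k} (h : Carries σ e' e) {p q a : A}
    (heq : σ (algebraMap A K p) = algebraMap A K a * σ (algebraMap A K q)) : e' p = e a * e' q := by
  obtain ⟨c, d, hd, hcd, hec⟩ := h p
  obtain ⟨c₁, d₁, hd₁, hcd₁, hec₁⟩ := h q
  have h1 : c * d₁ = a * c₁ * d := IsFractionRing.injective A K (by
    simp only [map_mul]
    linear_combination (algebraMap A K d * algebraMap A K d₁) * heq - (algebraMap A K d₁) * hcd + (algebraMap A K a * algebraMap A K d) * hcd₁)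
  have h2 := congrArg e h1
  simp only [map_mul, hec, hec₁] at h2
  apply mul_right_cancel₀ (mul_ne_zero hd hd₁)
  linear_combination h2

variable {C : Type u} [CommRing C] [Algebra k C] [IsAlgClosed k] [IsDomain C] [Algebra.FiniteType k C]
  [IsDomain A] [Algebra.FiniteType k A] {T : (C →ₐ[k] k) → K ≃ₐ[k] K} {π : A}

theorem isNilpotent_sub {R : Type u} [CommRing R] [Algebra k R] (τ : C →ₐ[k] R) (e : A →ₐ[k] k) (n : ℕ)
    (z : C ⊗[k] A) :
    IsNilpotent (Algebra.TensorProduct.map τ (Ideal.Quotient.mkₐ k (RingHom.ker e ^ n)) z -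
      τ (evR e z) ⊗ₜ[k] (1 : jet e n)) := by
  induction z using TensorProduct.induction_on with
  | zero => simp
  | tmul c a =>
    refine ⟨n + 1, ?_⟩
    have e1 : Algebra.TensorProduct.map τ (Ideal.Quotient.mkₐ k (RingHom.ker e ^ n)) (c ⊗ₜ[k] a) -
        τ (evR e (c ⊗ₜ[k] a)) ⊗ₜ[k] (1 : jet e n) = τ c ⊗ₜ[k] Ideal.Quotient.mk _ (a - algebraMap k A (e a)) := by
      rw [Algebra.TensorProduct.map_tmul, evR_tmul, map_mul, AlgHom.commutes, map_sub, TensorProduct.tmul_sub,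
        mul_comm (τ c), ← Algebra.smul_def, TensorProduct.smul_tmul, Algebra.smul_def, _root_.mul_one,
        Ideal.Quotient.mkₐ_eq_mk]
      rfl
    have e2 : Ideal.Quotient.mk (RingHom.ker e ^ n) (a - algebraMap k A (e a)) ^ (n + 1) = 0 := by
      rw [← map_pow, Ideal.Quotient.eq_zero_iff_mem]
      exact Ideal.pow_le_pow_right (Nat.le_succ n) (Ideal.pow_mem_pow (by simp [RingHom.mem_ker]) _)
    rw [e1, Algebra.TensorProduct.tmul_pow, e2, TensorProduct.tmul_zero]
  | add x y hx hy =>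
    rw [map_add, map_add, map_add, TensorProduct.add_tmul, add_sub_add_comm]
    exact (Commute.all _ _).isNilpotent_add hx hy

theorem ev_map_fst {R V : Type u} [CommRing R] [Algebra k R] [CommRing V] [Algebra k V] (τ : C →ₐ[k] R)
    (g : A →ₐ[k] V) (ω : R →ₐ[k] k) (z : C ⊗[k] A) :
    ev ω (Algebra.TensorProduct.map τ g z) = g (ev (ω.comp τ) z) := by
  induction z using TensorProduct.induction_on with
  | zero => simp
  | tmul c a => simp
  | add x y hx hy => simp [hx, hy]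

/-- Two distinct parameters send the same point of the divisor to the same point; they move in a family
on whose truncations the induced maps are algebraic. -/
theorem IsFam.exists_orbit (hF : IsFam T π) (hdim : ringKrullDim C = ringKrullDim A) :
    ∃ (e e' : A →ₐ[k] k) (χ₂ : C →ₐ[k] k) (R : Type u) (_ : CommRing R) (_ : Algebra k R) (_ : IsDomain R)
      (_ : Algebra.FiniteType k R) (τ : C →ₐ[k] R) (ω₂ : R →ₐ[k] k),
      ω₂.comp τ = χ₂ ∧ (∀ ω ω' : R →ₐ[k] k, ω.comp τ = ω'.comp τ → ω = ω') ∧ (∃ r : R, r ≠ 0 ∧ ω₂ r = 0) ∧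
      Carries (T χ₂) e' e ∧ Carries (T χ₂).symm e e' ∧
      ∃ hω : ∀ ω : R →ₐ[k] k, Carries (T (ω.comp τ)) e' e,
        ∀ n, ∃ Ψ : A →ₐ[k] R ⊗[k] jet e n, ∀ (ω : R →ₐ[k] k) (f : A),
          ev ω (Ψ f) = red e n ⟨T (ω.comp τ) (algebraMap A K f), (hω ω).mem (algebraMap_mem_loc e' f)⟩ := by
  classical
  obtain ⟨Q, Φ, hQ, hΦ⟩ := hF.exists_hom
  choose P N hPN hV hdvd using hΦ
  obtain ⟨cQ, hcQ, hcQ'⟩ := exists_coeff_of_not_dvd π hQ
  obtain ⟨χ₂, χ₂', hχ₂, hχ₂', hsymm⟩ := hF.symm cQ hcQ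
  set b₂ := ev χ₂' Q with hb₂def
  have hb₂ : ¬ π ∣ b₂ := hcQ' χ₂' hχ₂'
  have hb₂0 : b₂ ≠ 0 := fun h => hb₂ (h ▸ dvd_zero _)
  have hb₂K : algebraMap A K b₂ ≠ 0 := fun h => hb₂0 (IsFractionRing.injective A K (h.trans (map_zero _).symm))
  have h1 : ¬ π ∣ (1 : A) := fun h => hF.prime.not_unit (isUnit_of_dvd_one h)
  obtain ⟨a'', b'', hb'', hab''⟩ := (hF.inv χ₂ (algebraMap A K b₂)).1 ⟨b₂, 1, h1, by simp⟩
  obtain ⟨c'', d'', hd'', hcd''⟩ := (hF.inv χ₂ (algebraMap A K b₂)⁻¹).1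
    ⟨1, b₂, hb₂, by simp [inv_mul_cancel₀ hb₂K]⟩
  have ha'' : ¬ π ∣ a'' := by
    intro h
    have hne : T χ₂ (algebraMap A K b₂) ≠ 0 := by simpa using hb₂K
    rw [map_inv₀, inv_mul_eq_iff_eq_mul₀ hne] at hcd''
    have : b'' * d'' = a'' * c'' := IsFractionRing.injective A K (by
      simp only [map_mul]; linear_combination (algebraMap A K b'') * hcd'' + (algebraMap A K c'') * hab'')
    exact (hF.prime.dvd_or_dvd (this ▸ dvd_mul_of_dvd_left h _)).elim hb'' hd''
  have hprod : ¬ π ∣ a'' * b'' * ev χ₂ Q := fun h =>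
    (hF.prime.dvd_or_dvd h).elim (fun h' => (hF.prime.dvd_or_dvd h').elim ha'' hb'') (hcQ' χ₂ hχ₂)
  haveI hpr : (Ideal.span {π}).IsPrime := (Ideal.span_singleton_prime hF.prime.ne_zero).2 hF.prime
  obtain ⟨ē, hē⟩ := exists_pt (k := k) (C := A ⧸ Ideal.span {π})
    (c := Ideal.Quotient.mk _ (a'' * b'' * ev χ₂ Q)) (fun h => hprod (Ideal.mem_span_singleton.1 (Ideal.Quotient.eq_zero_iff_mem.1 h)))
  let e : A →ₐ[k] k := ē.comp (Ideal.Quotient.mkₐ k _)
  have heπ : e π = 0 := by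
    show ē (Ideal.Quotient.mk _ π) = 0
    rw [Ideal.Quotient.eq_zero_iff_mem.2 (Ideal.mem_span_singleton_self π), map_zero]
  have he : e a'' * e b'' * e (ev χ₂ Q) ≠ 0 := by
    rw [← map_mul, ← map_mul]; exact hē
  let Qe : C := evR e Q
  let R₀ := Localization.Away Qe
  have hQe : χ₂ Qe ≠ 0 := by rw [evR_ev]; exact right_ne_zero_of_mul he
  have hQe0 : Qe ≠ 0 := fun h => hQe (by rw [h, map_zero])
  haveI : IsDomain R₀ := IsLocalization.isDomain_of_le_nonZeroDivisors (R := C) (M := Submonoid.powers Qe)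
    (S := R₀) (powers_le_nonZeroDivisors_of_noZeroDivisors hQe0)
  haveI : Algebra.FiniteType k R₀ := Algebra.FiniteType.trans (R := k) (S := C) (A := R₀) inferInstance
    (IsLocalization.finiteType_of_monoid_fg (Submonoid.powers Qe) R₀)
  let jC : C →ₐ[k] R₀ := IsScalarTower.toAlgHom k C R₀
  have hunit : IsUnit ((jC.comp (evR e)) Q) := IsLocalization.Away.algebraMap_isUnit Qe
  let LW : Localization.Away Q →ₐ[k] R₀ := IsLocalization.liftAlgHom (M := Submonoid.powers Q)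
    (f := jC.comp (evR e)) (fun y => by
      obtain ⟨m, hm⟩ := y.2
      rw [← hm, map_pow]
      exact hunit.pow m)
  have hLW : ∀ z, LW (algebraMap _ _ z) = jC (evR e z) := fun z => by
    simp [LW]
  let φ : A →ₐ[k] R₀ := LW.comp Φ
  have hφ : ∀ f, φ f * jC Qe ^ N f = jC (evR e (P f)) := fun f => by
    have := congrArg LW (hPN f)
    rwa [map_mul, map_pow, hLW, hLW] at this
  let ω₀ : R₀ →ₐ[k] k := IsLocalization.liftAlgHom (M := Submonoid.powers Qe) (f := χ₂) (fun y => by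
      obtain ⟨m, hm⟩ := y.2
      rw [← hm, map_pow]
      exact (isUnit_iff_ne_zero.2 hQe).pow m)
  have hω₀ : ∀ c, ω₀ (jC c) = χ₂ c := fun c => by simp [ω₀, jC]
  let e' : A →ₐ[k] k := ω₀.comp φ
  have hφπ : φ π = 0 := by
    obtain ⟨z, hz⟩ := hdvd π dvd_rfl
    have h2 := hφ π
    rw [hz, map_mul, map_mul, show evR e ((1 : C) ⊗ₜ[k] π) = 0 by simp [heπ], map_zero, zero_mul] at h2
    exact ((IsLocalization.Away.algebraMap_isUnit (S := R₀) Qe).pow (N π)).mul_left_eq_zero.1 h2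
  -- values of the automorphisms
  have hcar : ∀ (ω : R₀ →ₐ[k] k), (∀ f, ω (φ f) = e' f) → Carries (T (ω.comp jC)) e' e := by
    intro ω hω f
    have hne : e (ev (ω.comp jC) Q) ≠ 0 := by
      rw [← evR_ev]
      exact ((IsLocalization.Away.algebraMap_isUnit (S := R₀) Qe).map ω).ne_zero
    have hne' : ev (ω.comp jC) Q ≠ 0 := fun h => hne (by rw [h, map_zero])
    refine ⟨ev (ω.comp jC) (P f), ev (ω.comp jC) Q ^ N f, by rw [map_pow]; exact pow_ne_zero _ hne, ?_, ?_⟩
    · rw [map_pow]; exact hV f _ hne'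
    · rw [map_pow, ← evR_ev, ← evR_ev, AlgHom.comp_apply, AlgHom.comp_apply, show ω₀ (φ f) = ω (φ f) from (hω f).symm,
        show (ω.comp jC) (evR e Q) = ω (jC Qe) from rfl, ← map_pow, ← map_mul, hφ]
  have hc₂ : Carries (T χ₂) e' e := by
    have h3 : ω₀.comp jC = χ₂ := AlgHom.ext hω₀
    have := hcar ω₀ fun f => rfl
    rwa [h3] at this
  have he'b₂ : e' b₂ ≠ 0 := by
    obtain ⟨a, b, hb, hab, hea⟩ := hc₂ b₂
    have h4 : a * b'' = a'' * b := IsFractionRing.injective A K (by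
      simp only [map_mul]; linear_combination (algebraMap A K b) * hab'' - (algebraMap A K b'') * hab)
    have h5 := congrArg e h4
    rw [map_mul, map_mul, hea] at h5
    intro h0
    rw [h0, zero_mul, zero_mul] at h5
    exact mul_ne_zero (left_ne_zero_of_mul (left_ne_zero_of_mul he)) hb h5.symm
  have hc₂' : Carries (T χ₂).symm e e' := by
    intro f
    refine ⟨ev χ₂' (P f), b₂ ^ N f, by rw [map_pow]; exact pow_ne_zero _ he'b₂, ?_, ?_⟩
    · rw [← hsymm, map_pow]; exact hV f _ hb₂0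
    · refine hc₂.value ?_
      have h6 := hV f χ₂' hb₂0
      rw [← map_pow, hsymm] at h6
      rw [← h6, map_mul, AlgEquiv.apply_symm_apply]
  -- the fibre
  let Ā := A ⧸ Ideal.span {π}
  let φb : Ā →ₐ[k] R₀ := Ideal.Quotient.liftₐ _ φ (fun a ha => by
    obtain ⟨t, rfl⟩ := Ideal.mem_span_singleton.1 ha
    rw [map_mul, hφπ, zero_mul])
  letI : Algebra Ā R₀ := φb.toRingHom.toAlgebra
  let m₂ : Ideal R₀ := RingHom.ker ω₀
  haveI hm₂ : m₂.IsMaximal := RingHom.ker_isMaximal_of_surjective ω₀ fun r => ⟨algebraMap k _ r, by simp⟩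
  let p : Ideal Ā := m₂.comap (algebraMap Ā R₀)
  haveI : p.IsPrime := Ideal.IsPrime.comap _
  haveI : m₂.LiesOver p := ⟨rfl⟩
  let I : Ideal R₀ := p.map (algebraMap Ā R₀)
  have hIm : I ≤ m₂ := Ideal.map_comap_le
  obtain ⟨𝔮, h𝔮, h𝔮m⟩ := Ideal.exists_minimalPrimes_le hIm
  haveI : 𝔮.IsPrime := h𝔮.1.1
  have hne : 𝔮 ≠ m₂ := by
    intro heq
    haveI : IsNoetherianRing R₀ := Algebra.FiniteType.isNoetherianRing k R₀
    haveI : IsNoetherianRing A := Algebra.FiniteType.isNoetherianRing k A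
    haveI hP : (m₂.map (Ideal.Quotient.mk I)).IsPrime :=
      Ideal.map_isPrime_of_surjective Ideal.Quotient.mk_surjective (by rwa [Ideal.mk_ker])
    have h0 : (m₂.map (Ideal.Quotient.mk I)).height = 0 := by
      rw [Ideal.height_eq_zero_iff]
      refine ⟨⟨hP, bot_le⟩, ?_⟩
      rintro J ⟨hJ, -⟩ hJle
      haveI := hJ
      have hJ1 : I ≤ J.comap (Ideal.Quotient.mk I) := fun x hx => by
        rw [Ideal.mem_comap, Ideal.Quotient.eq_zero_iff_mem.2 hx]; exact zero_mem _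
      have hJ2 : J.comap (Ideal.Quotient.mk I) ≤ m₂ := by
        refine (Ideal.comap_mono hJle).trans ?_
        rw [Ideal.comap_map_of_surjective _ Ideal.Quotient.mk_surjective, ← RingHom.ker_eq_comap_bot, Ideal.mk_ker]
        exact sup_le le_rfl hIm
      have h3 : 𝔮 ≤ J.comap (Ideal.Quotient.mk I) :=
        h𝔮.2 ⟨Ideal.IsPrime.comap _, hJ1⟩ (heq ▸ hJ2)
      rw [heq] at h3
      exact (Ideal.map_mono h3).trans Ideal.map_comap_le
    have hle := Ideal.height_le_height_add_of_liesOver p m₂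
    rw [h0, add_zero] at hle
    have hd₀ : (m₂.height : WithBot ℕ∞) = ringKrullDim R₀ :=
      GrpSchField.height_eq_ringKrullDim_of_isMaximal k R₀ m₂
    have hd₁ : ringKrullDim R₀ = ringKrullDim C := Dim.ringKrullDim_away k C Qe hQe0 R₀
    have hd₂ : (p.height : WithBot ℕ∞) ≤ ringKrullDim Ā := Ideal.height_le_ringKrullDim_of_ne_top (Ideal.IsPrime.ne_top ‹_›)
    have hd₃ : ringKrullDim Ā + 1 ≤ ringKrullDim A :=
      ringKrullDim_quotient_succ_le_of_nonZeroDivisor (mem_nonZeroDivisors_of_ne_zero hF.prime.ne_zero) |>.trans le_rfl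
    obtain ⟨m, -, hm⟩ := Dim.exists_nat_trdeg_eq_and_ringKrullDim_eq k A
    have hd₄ : (m : WithBot ℕ∞) + 1 ≤ m := by
      calc (m : WithBot ℕ∞) + 1 = ringKrullDim R₀ + 1 := by rw [hd₁, hdim, hm]
        _ ≤ ringKrullDim Ā + 1 := by
          gcongr
          rw [← hd₀]
          exact (WithBot.coe_le_coe.2 hle).trans hd₂
        _ ≤ m := hm ▸ hd₃
    exact absurd hd₄ (by exact_mod_cast Nat.not_succ_le_self m)
  let R := R₀ ⧸ 𝔮
  let q : R₀ →ₐ[k] R := Ideal.Quotient.mkₐ k 𝔮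
  let ω₂ : R →ₐ[k] k := Ideal.Quotient.liftₐ 𝔮 ω₀ fun a ha => h𝔮m ha
  have hω₂ : ∀ x, ω₂ (q x) = ω₀ x := fun x => rfl
  obtain ⟨r, hr, hrq⟩ := Set.exists_of_ssubset (show (𝔮 : Set R₀) ⊂ m₂ from lt_of_le_of_ne h𝔮m fun h => hne (SetLike.coe_injective h))
  have hconst : ∀ f : A, q (φ f) = algebraMap k R (e' f) := by
    intro f
    have hmem : φ (f - algebraMap k A (e' f)) ∈ I := by
      have h2 : φ (f - algebraMap k A (e' f)) = algebraMap Ā R₀ (Ideal.Quotient.mk _ (f - algebraMap k A (e' f))) := rfl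
      rw [h2]
      refine Ideal.mem_map_of_mem _ ?_
      show ω₀ (φ (f - algebraMap k A (e' f))) = 0
      rw [map_sub, map_sub, AlgHom.commutes, AlgHom.commutes]
      exact sub_self _
    have h3 : q (φ (f - algebraMap k A (e' f))) = 0 := Ideal.Quotient.eq_zero_iff_mem.2 (h𝔮.1.2 hmem)
    rw [map_sub, map_sub, AlgHom.commutes, AlgHom.commutes, sub_eq_zero] at h3
    exact h3
  have hωcar : ∀ ω : R →ₐ[k] k, Carries (T (ω.comp (q.comp jC))) e' e := fun ω => by
    rw [← AlgHom.comp_assoc]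
    refine hcar (ω.comp q) fun f => ?_
    rw [AlgHom.comp_apply, hconst, AlgHom.commutes]
    rfl
  refine ⟨e, e', χ₂, R, inferInstance, inferInstance, Ideal.Quotient.isDomain 𝔮, inferInstance, q.comp jC, ω₂,
    AlgHom.ext fun c => hω₀ c, fun ω ω' h => ?_, ⟨q r, fun h => hrq (Ideal.Quotient.eq_zero_iff_mem.1 h), hr⟩,
    hc₂, hc₂', hωcar, fun n => ?_⟩
  · have h4 : ω.comp q = ω'.comp q := IsLocalization.algHom_ext (W := Submonoid.powers Qe) (AlgHom.ext fun c => congr($h c))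
    exact AlgHom.ext fun x => by
      obtain ⟨y, rfl⟩ := Ideal.Quotient.mk_surjective x
      exact congr($h4 y)
  · let g : C ⊗[k] A →ₐ[k] R ⊗[k] jet e n :=
      Algebra.TensorProduct.map (q.comp jC) (Ideal.Quotient.mkₐ k _)
    have hgQ : IsUnit (g Q) := by
      have hu : IsUnit ((q.comp jC) Qe ⊗ₜ[k] (1 : jet e n)) :=
        ((IsLocalization.Away.algebraMap_isUnit (S := R₀) Qe).map q).map
          (Algebra.TensorProduct.includeLeft : R →ₐ[k] R ⊗[k] jet e n)
      have := (isNilpotent_sub (q.comp jC) e n Q).isUnit_add_left_of_commute hu (Commute.all _ _)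
      rwa [add_sub_cancel] at this
    have hgy : ∀ y : Submonoid.powers Q, IsUnit (g y) := fun y => by
      obtain ⟨m, hm⟩ := y.2
      rw [← hm, map_pow]
      exact hgQ.pow m
    let LV := IsLocalization.liftAlgHom (A := k) (M := Submonoid.powers Q) (S := Localization.Away Q)
      (P := R ⊗[k] jet e n) (f := g) hgy
    refine ⟨LV.comp Φ, fun ω f => ?_⟩
    have h5 := congrArg (fun z => ev ω (LV z)) (hPN f)
    simp only [map_mul, map_pow, LV, IsLocalization.liftAlgHom_apply, IsLocalization.lift_eq] at h5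
    rw [show g.toRingHom Q = g Q from rfl,
      show g.toRingHom (P f) = g (P f) from rfl, ev_map_fst, ev_map_fst,
      Ideal.Quotient.mkₐ_eq_mk] at h5
    have hne2 : e (ev (ω.comp (q.comp jC)) Q) ≠ 0 := by
      rw [← evR_ev]
      exact (((IsLocalization.Away.algebraMap_isUnit (S := R₀) Qe).map q).map ω).ne_zero
    have hne3 : ev (ω.comp (q.comp jC)) Q ≠ 0 := fun h => hne2 (by rw [h, map_zero])
    apply ((isUnit_jet e n hne2).pow (N f)).mul_left_injective
    refine h5.trans ?_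
    have h6 := red_spec (n := n) (⟨_, (hωcar ω).mem (algebraMap_mem_loc e' f)⟩ : loc K e)
      (a := ev (ω.comp (q.comp jC)) (P f)) (b := ev (ω.comp (q.comp jC)) Q ^ N f)
      (by rw [map_pow]; exact pow_ne_zero _ hne2) (by rw [map_pow]; exact hV f _ hne3)
    rw [map_pow] at h6
    exact h6.symm

end GrothLib.Chev24
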