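import Groth.Agent.Lib.Chev24.Divisible
import Groth.Agent.Lib.KerDiag14.Basic
import Groth.Agent.Lib.FibreDimAt6.ZeroDim

/-!
# Power maps of anti-affine groups are isogenies
-/

set_option autoImplicit false
set_option linter.all false
set_option backward.isDefEq.respectTransparency false
set_option maxHeartbeats 1000000
set_option synthInstance.maxHeartbeats 200000

universe u

open CategoryTheory CategoryTheory.Limits MonoidalCategory CartesianMonoidalCategory MonObj GrpObj
open AlgebraicGeometry Topology

noncomputable section

namespace GrothLib.Chev24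

variable {k : Type u} [Field k]

/-- A surjective endomorphism of a group variety is finite. -/
theorem isFinite_of_surjective (M : Over (Spec (CommRingCat.of k))) [GrpObj M] [Smooth M.hom] [QuasiCompact M.hom]
    [ConnectedSpace M.left] (f : M ⟶ M) [IsMonHom f] [Surjective f.left] : IsFinite f.left := by
  haveI : IsSeparated M.hom := GrpSchField.isSeparated M
  haveI : IsIntegral M.left := Euler.isIntegral_of_smooth_connected k M.hom
  haveI : QuasiCompact f.left := by
    haveI : QuasiCompact (f.left ≫ M.hom) := by rw [Over.w f]; infer_instance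
    exact QuasiCompact.of_comp f.left M.hom
  haveI : LocallyOfFiniteType f.left := by
    haveI : LocallyOfFiniteType (f.left ≫ M.hom) := by rw [Over.w f]; infer_instance
    exact locallyOfFiniteType_of_comp f.left M.hom
  have hdim := Neutral.dim_eq_add_field f
  obtain ⟨a, ha⟩ := exists_nat_dim M
  have e1 : topologicalKrullDim (Set.range f.left) = topologicalKrullDim M.left := by
    rw [f.left.surjective.range_eq]
    exact (Homeomorph.Set.univ _).isHomeomorph.topologicalKrullDim_eq _
  rw [e1, ha] at hdim
  have hd0 : topologicalKrullDim ↥(pullback f.left η[M].left) ≤ 0 := by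
    revert hdim
    generalize topologicalKrullDim ↥(pullback f.left η[M].left) = t
    intro ht
    rcases t with _ | t
    · exact bot_le
    · have ht' : (a : ℕ∞) = (a : ℕ∞) + t := WithBot.coe_inj.1 ht
      have : t = 0 := by
        induction t using ENat.recTopCoe with
        | top => rw [add_top] at ht'; exact absurd ht' (ENat.coe_ne_top a)
        | coe t =>
          have : a = a + t := by exact_mod_cast ht'
          norm_cast; omega
      subst this
      exact le_rfl
  let K := pullback f η[M]
  let i : K ⟶ M := pullback.fst f η[M]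
  have hK : AlgGrp.IsKernel i f := by
    show IsPullback _ _ _ _
    rw [Subsingleton.elim (toUnit _) (pullback.snd f η[M])]
    exact IsPullback.of_hasPullback f η[M]
  obtain ⟨_, _⟩ := GrpDeligne.exists_grpObj_kernel f i hK
  have hsqK := (IsPullback.of_hasPullback f η[M]).map (Over.forget _)
  have hKdim : topologicalKrullDim K.left ≤ 0 := by
    refine le_of_eq_of_le ?_ hd0
    exact IsHomeomorph.topologicalKrullDim_eq _ hsqK.isoPullback.hom.homeomorph.isHomeomorph
  haveI : LocallyOfFiniteType K.hom := by
    haveI : LocallyOfFiniteType i.left :=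
      MorphismProperty.of_isPullback hsqK.flip (inferInstanceAs (LocallyOfFiniteType η[M].left))
    rw [← Over.w i]; infer_instance
  haveI : QuasiCompact K.hom := by
    haveI : QuasiCompact i.left :=
      MorphismProperty.of_isPullback hsqK.flip (inferInstanceAs (QuasiCompact η[M].left))
    rw [← Over.w i]; infer_instance
  haveI : LocallyQuasiFinite K.hom := by
    refine GrothLib.FibreDimAt6.locallyQuasiFinite_of_dim_fiber_le_zero K.hom fun y => ?_
    exact ((K.hom.fiberHomeo y).isHomeomorph.topologicalKrullDim_eq _).trans_le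
      (IsEmbedding.subtypeVal.topologicalKrullDim_le.trans hKdim)
  haveI : IsFinite K.hom := IsFinite.of_locallyQuasiFinite K.hom
  haveI : LocallyQuasiFinite f.left := (GrothLib.KerDiag14.lqf_iff f i hK).2.1.2 inferInstance
  have hKp : IsProper (pullback.snd f.left η[M].left) := by
    haveI : IsProper (pullback.snd f η[M]).left := by
      have e : (pullback.snd f η[M]).left ≫ 𝟙 _ = K.hom := Over.w (pullback.snd f η[M])
      rw [Category.comp_id] at e
      rw [e]; infer_instance
    have e2 : pullback.snd f.left η[M].left = hsqK.isoPullback.inv ≫ (pullback.snd f η[M]).left :=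
      hsqK.isoPullback_inv_snd.symm
    rw [e2]; infer_instance
  haveI := Neutral.isProper_of_kernel f hKp
  exact IsFinite.of_isProper_of_locallyQuasiFinite f.left

/-- Power maps of anti-affine groups over any field are isogenies. -/
theorem pow_isogeny (G : Over (Spec (CommRingCat.of k))) [GrpObj G] [Smooth G.hom] [QuasiCompact G.hom]
    (hG : AntiAffine.IsAntiAffine G) {n : ℕ} (hn : n ≠ 0) :
    Surjective ((𝟙 G : G ⟶ G) ^ n).left ∧ IsFinite ((𝟙 G : G ⟶ G) ^ n).left := by
  haveI : IsCommMonObj G := (Groth.Agent.S3293.result k G hG).2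
  haveI := (Groth.Agent.S3293.result k G hG).1
  haveI : IsSeparated G.hom := GrpSchField.isSeparated G
  let φ : Spec (CommRingCat.of (AlgebraicClosure k)) ⟶ Spec (CommRingCat.of k) :=
    Spec.map (CommRingCat.ofHom (algebraMap k (AlgebraicClosure k)))
  let P := Over.pullback φ
  let g : G ⟶ G := 𝟙 G ^ n
  haveI : Smooth (P.obj G).hom := by dsimp [P]; infer_instance
  haveI : QuasiCompact (P.obj G).hom := by dsimp [P]; infer_instance
  letI : GrpObj (P.obj G) := Functor.grpObjObj
  have hbc : AntiAffine.IsAntiAffine (P.obj G) := by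
    haveI : IsAffine (Over.mk φ).left := inferInstanceAs (IsAffine (Spec _))
    haveI h : IsIso (P.obj G).hom.appTop := AntiAffine.isIso_appTop_snd (T := Over.mk φ) hG
    exact (ConcreteCategory.isIso_iff_bijective _).1 inferInstance
  have hg : P.map g = 𝟙 (P.obj G) ^ n := by
    show P.map (𝟙 G ^ n) = _
    rw [show P.map (𝟙 G ^ n) = P.map (𝟙 G) ^ n from map_pow (Functor.homMonoidHom P) (𝟙 G) n, P.map_id]
  have hsurj : Surjective (P.map g).left := by rw [hg]; exact surjective_pow hn (P.obj G) hbc
  haveI : Surjective g.left := by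
    have hc : (P.map g).left ≫ pullback.fst G.hom φ = pullback.fst G.hom φ ≫ g.left := pullback.lift_fst _ _ _
    haveI : Surjective φ := inferInstance
    haveI : Surjective (pullback.fst G.hom φ ≫ g.left) := by rw [← hc]; infer_instance
    exact Surjective.of_comp (pullback.fst G.hom φ) g.left
  haveI hf : IsMonHom g := GrpDeligne.isMonHom_pow (𝟙 G) n
  exact ⟨‹_›, isFinite_of_surjective G g⟩

theorem zpow_isogeny (G : Over (Spec (CommRingCat.of k))) [GrpObj G] [Smooth G.hom] [QuasiCompact G.hom]
    (hG : AntiAffine.IsAntiAffine G) {n : ℤ} (hn : n ≠ 0) :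
    Surjective ((𝟙 G : G ⟶ G) ^ n).left ∧ IsFinite ((𝟙 G : G ⟶ G) ^ n).left := by
  obtain ⟨m, rfl | rfl⟩ := n.eq_nat_or_neg
  · rw [zpow_natCast]
    exact pow_isogeny G hG (by omega)
  · rw [zpow_neg, zpow_natCast, Hom.inv_def, Over.comp_left]
    obtain ⟨h1, h2⟩ := pow_isogeny G hG (n := m) (by omega)
    haveI : IsIso (GrpObj.inv : G ⟶ G).left := inferInstanceAs (IsIso ((Over.forget _).map (GrpObj.inv : G ⟶ G)))
    exact ⟨inferInstance, inferInstance⟩

end GrothLib.Chev24
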