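import Groth.Agent.Lib.Chev24.Tensor
import Groth.Agent.Lib.Dim.Ring
import Groth.Agent.Lib.TrdegBC19.Fields
import Groth.Agent.Lib.CvgBC4.Spec

/-!
# The divisorial valuation of a product of a variety with a divisor
-/

set_option autoImplicit false
set_option linter.all false
set_option maxHeartbeats 1000000

universe u

open scoped TensorProduct

noncomputable section

namespace GrothLib.Chev24

variable {k : Type u} [Field k] [IsAlgClosed k] {K : Type u} [Field K] [Algebra k K]
  {B : Type u} [CommRing B] [Algebra k B] [Algebra B K] [IsScalarTower k B K] [IsDomain B] [IsFractionRing B K]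
  {F : Type u} [Field F] [Algebra (K ⊗[k] K) F] [IsFractionRing (K ⊗[k] K) F] [Algebra k F]
  [IsScalarTower k (K ⊗[k] K) F]

variable (K B F) in
/-- The product of the field with the ring, inside the field of fractions. -/
def jB : K ⊗[k] B →ₐ[k] F :=
  (IsScalarTower.toAlgHom k (K ⊗[k] K) F).comp
    (Algebra.TensorProduct.map (AlgHom.id k K) (IsScalarTower.toAlgHom k B K))

theorem map_injective :
    Function.Injective (Algebra.TensorProduct.map (AlgHom.id k K) (IsScalarTower.toAlgHom k B K)) :=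
  Module.Flat.lTensor_preserves_injective_linearMap (IsScalarTower.toAlgHom k B K).toLinearMap
    (IsFractionRing.injective B K)

theorem jB_injective : Function.Injective (jB (k := k) K B F : K ⊗[k] B →ₐ[k] F) :=
  (IsFractionRing.injective (K ⊗[k] K) F).comp map_injective

theorem exists_clear (z : K ⊗[k] K) : ∃ (y : K ⊗[k] B) (b : B), b ≠ 0 ∧
    Algebra.TensorProduct.map (AlgHom.id k K) (IsScalarTower.toAlgHom k B K) y = z * ((1 : K) ⊗ₜ[k] algebraMap B K b) := by
  induction z using TensorProduct.induction_on with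
  | zero => exact ⟨0, 1, one_ne_zero, by simp⟩
  | tmul x y =>
    obtain ⟨a, b, hb, rfl⟩ := IsFractionRing.div_surjective B y
    refine ⟨x ⊗ₜ[k] a, b, nonZeroDivisors.ne_zero hb, ?_⟩
    simp [Algebra.TensorProduct.tmul_mul_tmul, div_mul_cancel₀ (algebraMap B K a) (IsFractionRing.to_map_ne_zero_of_mem_nonZeroDivisors (K := K) hb)]
  | add z w hz hw =>
    obtain ⟨y, b, hb, h⟩ := hz
    obtain ⟨y', b', hb', h'⟩ := hw
    refine ⟨y * ((1 : K) ⊗ₜ[k] b') + y' * ((1 : K) ⊗ₜ[k] b), b * b', mul_ne_zero hb hb', ?_⟩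
    simp only [map_add, map_mul, h, h', Algebra.TensorProduct.map_tmul, AlgHom.id_apply,
      IsScalarTower.toAlgHom_apply]
    rw [show ((1 : K) ⊗ₜ[k] (algebraMap B K b * algebraMap B K b')) =
      ((1 : K) ⊗ₜ[k] algebraMap B K b) * ((1 : K) ⊗ₜ[k] algebraMap B K b') by simp [Algebra.TensorProduct.tmul_mul_tmul]]
    ring

theorem exists_rep (x : F) : ∃ P Q : K ⊗[k] B, Q ≠ 0 ∧ x * jB (k := k) K B F Q = jB (k := k) K B F P := by
  haveI := GrpSchField.isDomain_tensorProduct (L := k) (A := K) (B := K)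
  haveI := GrpSchField.isDomain_tensorProduct (L := k) (A := K) (B := B)
  obtain ⟨u, v, hv, rfl⟩ := IsFractionRing.div_surjective (K ⊗[k] K) x
  obtain ⟨yu, bu, hbu, hu⟩ := exists_clear (B := B) u
  obtain ⟨yv, bv, hbv, hv'⟩ := exists_clear (B := B) v
  have hne : ∀ b : B, b ≠ 0 → ((1 : K) ⊗ₜ[k] algebraMap B K b) ≠ 0 := fun b hb h => hb
    (IsFractionRing.injective B K ((Algebra.TensorProduct.includeRight_injective (R := k) (A := K) (B := K)
      (algebraMap k K).injective).eq_iff.1 (h.trans (by simp) : (Algebra.TensorProduct.includeRight : K →ₐ[k] K ⊗[k] K) (algebraMap B K b) =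
        (Algebra.TensorProduct.includeRight : K →ₐ[k] K ⊗[k] K) (algebraMap B K 0))))
  refine ⟨yu * ((1 : K) ⊗ₜ[k] bv), yv * ((1 : K) ⊗ₜ[k] bu), fun h => ?_, ?_⟩
  · have := congrArg (Algebra.TensorProduct.map (AlgHom.id k K) (IsScalarTower.toAlgHom k B K)) h
    rw [map_mul, map_zero, hv', Algebra.TensorProduct.map_tmul] at this
    simp only [AlgHom.id_apply, IsScalarTower.toAlgHom_apply] at this
    exact mul_ne_zero (mul_ne_zero (nonZeroDivisors.ne_zero hv) (hne bv hbv)) (hne bu hbu) this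
  · simp only [jB, AlgHom.comp_apply, map_mul, hu, hv', Algebra.TensorProduct.map_tmul, AlgHom.id_apply,
      IsScalarTower.toAlgHom_apply]
    rw [div_mul_eq_mul_div, div_eq_iff (IsFractionRing.to_map_ne_zero_of_mem_nonZeroDivisors hv)]
    ring

theorem dvd_iff' (π : B) (x : K ⊗[k] B) :
    (1 : K) ⊗ₜ[k] π ∣ x ↔ Algebra.TensorProduct.map (AlgHom.id k K) (Ideal.Quotient.mkₐ k (Ideal.span {π})) x = 0 := by
  rw [← RingHom.mem_ker, Algebra.TensorProduct.lTensor_ker _ (Ideal.Quotient.mkₐ_surjective k _),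
    ← Ideal.mem_span_singleton]
  have e : RingHom.ker (Ideal.Quotient.mkₐ k (Ideal.span {π})) = Ideal.span {π} := Ideal.Quotient.mkₐ_ker k _
  rw [e, Ideal.map_span, Set.image_singleton]
  rfl

theorem prime_tmul' {π : B} (hπ : Prime π) : Prime ((1 : K) ⊗ₜ[k] π) := by
  haveI : (Ideal.span {π}).IsPrime := (Ideal.span_singleton_prime hπ.ne_zero).2 hπ
  haveI := GrpSchField.isDomain_tensorProduct (L := k) (A := K) (B := B ⧸ Ideal.span {π})
  have h0 : (1 : K) ⊗ₜ[k] π ≠ 0 := by
    intro h
    exact hπ.ne_zero (Algebra.TensorProduct.includeRight_injective (R := k) (A := K) (B := B)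
      (algebraMap k K).injective (h.trans (map_zero _).symm))
  rw [← Ideal.span_singleton_prime h0]
  have : Ideal.span {(1 : K) ⊗ₜ[k] π} =
      RingHom.ker (Algebra.TensorProduct.map (AlgHom.id k K) (Ideal.Quotient.mkₐ k (Ideal.span {π}))) := by
    ext x
    rw [Ideal.mem_span_singleton, dvd_iff', RingHom.mem_ker]
  rw [this]
  exact RingHom.ker_isPrime _

/-- The product with the ring maps onto the product with the divisor. -/
theorem surjective_mapQ (π : B) :
    Function.Surjective (Algebra.TensorProduct.map (AlgHom.id k K) (Ideal.Quotient.mkₐ k (Ideal.span {π}))) :=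
  LinearMap.lTensor_surjective K (g := (Ideal.Quotient.mkₐ k (Ideal.span {π})).toLinearMap)
    (Ideal.Quotient.mkₐ_surjective k _)

/-- Regularity along the product with the divisor. -/
def InW (π : B) (x : F) : Prop :=
  ∃ P Q : K ⊗[k] B, ¬ (1 : K) ⊗ₜ[k] π ∣ Q ∧ x * jB (k := k) K B F Q = jB (k := k) K B F P

variable (K F) in
/-- The functions regular along the product with the divisor. -/
def subW {π : B} (hπ : Prime π) : Subalgebra k F where
  carrier := {x | InW (k := k) (K := K) π x}
  add_mem' {x y} hx hy := by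
    obtain ⟨P, Q, hQ, h⟩ := hx
    obtain ⟨P', Q', hQ', h'⟩ := hy
    refine ⟨P * Q' + P' * Q, Q * Q', fun hd => ((prime_tmul' hπ).dvd_or_dvd hd).elim hQ hQ', ?_⟩
    simp only [map_add, map_mul]
    linear_combination (jB (k := k) K B F Q') * h + (jB (k := k) K B F Q) * h'
  mul_mem' {x y} hx hy := by
    obtain ⟨P, Q, hQ, h⟩ := hx
    obtain ⟨P', Q', hQ', h'⟩ := hy
    refine ⟨P * P', Q * Q', fun hd => ((prime_tmul' hπ).dvd_or_dvd hd).elim hQ hQ', ?_⟩
    simp only [map_mul]
    linear_combination (y * jB (k := k) K B F Q') * h + (jB (k := k) K B F P) * h'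
  algebraMap_mem' r := ⟨algebraMap k _ r, 1, fun h => (prime_tmul' hπ).not_unit (isUnit_of_dvd_one h),
    by rw [map_one, _root_.mul_one, AlgHom.commutes]⟩

/-- The residue field along the product with the divisor. -/
abbrev ResW (K : Type u) [Field K] [Algebra k K] (π : B) : Type u := FractionRing (K ⊗[k] (B ⧸ Ideal.span {π}))

variable (K) in
/-- The reduction map on the product. -/
def barW (π : B) : K ⊗[k] B →ₐ[k] ResW (k := k) K π :=
  (IsScalarTower.toAlgHom k (K ⊗[k] (B ⧸ Ideal.span {π})) _).comp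
    (Algebra.TensorProduct.map (AlgHom.id k K) (Ideal.Quotient.mkₐ k (Ideal.span {π})))

theorem barW_eq_zero_iff {π : B} (x : K ⊗[k] B) : barW K π x = 0 ↔ (1 : K) ⊗ₜ[k] π ∣ x := by
  rw [dvd_iff', barW, AlgHom.comp_apply]
  exact map_eq_zero_iff _ (IsFractionRing.injective (K ⊗[k] (B ⧸ Ideal.span {π})) _)

theorem exists_resW {π : B} (hπ : Prime π) [IsDomain (K ⊗[k] (B ⧸ Ideal.span {π}))] :
    ∃ φ : subW (k := k) K F hπ →ₐ[k] ResW (k := k) K π, ∀ (x : subW (k := k) K F hπ) (P Q : K ⊗[k] B),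
      ¬ (1 : K) ⊗ₜ[k] π ∣ Q → (x : F) * jB (k := k) K B F Q = jB (k := k) K B F P → φ x * barW K π Q = barW K π P := by
  classical
  choose P Q hQ hPQ using fun x : subW (k := k) K F hπ => x.2
  have hne : ∀ {q : K ⊗[k] B}, ¬ (1 : K) ⊗ₜ[k] π ∣ q → barW K π q ≠ 0 := fun h h0 => h ((barW_eq_zero_iff _).1 h0)
  let G : subW (k := k) K F hπ → ResW (k := k) K π := fun x => barW K π (P x) / barW K π (Q x)
  have hG : ∀ (x : subW (k := k) K F hπ) (c d : K ⊗[k] B), ¬ (1 : K) ⊗ₜ[k] π ∣ d →
      (x : F) * jB (k := k) K B F d = jB (k := k) K B F c → G x * barW K π d = barW K π c := by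
    intro x c d hd h
    have e : P x * d = c * Q x := jB_injective (F := F) (by
      simp only [map_mul]
      linear_combination (jB (k := k) K B F (Q x)) * h - (jB (k := k) K B F d) * hPQ x)
    have e' := congrArg (barW K π) e
    simp only [map_mul] at e'
    show barW K π (P x) / barW K π (Q x) * barW K π d = _
    rw [div_mul_eq_mul_div, div_eq_iff (hne (hQ x))]
    exact e'
  have h1 : ¬ (1 : K) ⊗ₜ[k] π ∣ (1 : K ⊗[k] B) := fun h => (prime_tmul' hπ).not_unit (isUnit_of_dvd_one h)
  have hk : ∀ r : k, G (algebraMap k _ r) = algebraMap k _ r := fun r => by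
    have := hG (algebraMap k _ r) (algebraMap k _ r) 1 h1 (by
      show algebraMap k F r * _ = _
      rw [map_one, _root_.mul_one, AlgHom.commutes])
    rwa [map_one, _root_.mul_one, AlgHom.commutes] at this
  refine ⟨{ toFun := G, map_one' := (by simpa using hk 1), map_mul' := fun x y => ?_, map_zero' := (by simpa using hk 0), map_add' := fun x y => ?_, commutes' := hk }, hG⟩
  · have hd : ¬ (1 : K) ⊗ₜ[k] π ∣ Q x * Q y := fun hd => ((prime_tmul' hπ).dvd_or_dvd hd).elim (hQ x) (hQ y)
    have := hG (x * y) (P x * P y) (Q x * Q y) hd (by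
      simp only [MulMemClass.coe_mul, map_mul]
      linear_combination ((y : F) * jB (k := k) K B F (Q y)) * hPQ x + (jB (k := k) K B F (P x)) * hPQ y)
    apply mul_right_cancel₀ (hne hd)
    show G (x * y) * _ = G x * G y * _
    rw [this, map_mul, map_mul, ← hG x _ _ (hQ x) (hPQ x), ← hG y _ _ (hQ y) (hPQ y)]
    ring
  · have hd : ¬ (1 : K) ⊗ₜ[k] π ∣ Q x * Q y := fun hd => ((prime_tmul' hπ).dvd_or_dvd hd).elim (hQ x) (hQ y)
    have := hG (x + y) (P x * Q y + P y * Q x) (Q x * Q y) hd (by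
      simp only [AddMemClass.coe_add, map_mul, map_add]
      linear_combination (jB (k := k) K B F (Q y)) * hPQ x + (jB (k := k) K B F (Q x)) * hPQ y)
    apply mul_right_cancel₀ (hne hd)
    show G (x + y) * _ = (G x + G y) * _
    rw [this, map_add, map_mul, map_mul, map_mul, ← hG x _ _ (hQ x) (hPQ x), ← hG y _ _ (hQ y) (hPQ y)]
    ring

/-- The residue map along the product with the divisor. -/
def resW {π : B} (hπ : Prime π) [IsDomain (K ⊗[k] (B ⧸ Ideal.span {π}))] : subW (k := k) K F hπ →ₐ[k] ResW (k := k) K π :=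
  (exists_resW hπ).choose

theorem resW_spec {π : B} (hπ : Prime π) [IsDomain (K ⊗[k] (B ⧸ Ideal.span {π}))] (x : subW (k := k) K F hπ)
    {P Q : K ⊗[k] B} (hQ : ¬ (1 : K) ⊗ₜ[k] π ∣ Q) (h : (x : F) * jB (k := k) K B F Q = jB (k := k) K B F P) :
    resW hπ x * barW K π Q = barW K π P :=
  (exists_resW hπ).choose_spec x P Q hQ h

variable [Algebra.FiniteType k B]

/-- Every nonzero function or its inverse is regular along the product with the divisor. -/
theorem inW_or_inv {π : B} (hπ : Prime π) (x : F) : InW (k := k) (K := K) π x ∨ InW (k := k) (K := K) π x⁻¹ := by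
  haveI := GrpSchField.isDomain_tensorProduct (L := k) (A := K) (B := B)
  haveI : Algebra.FiniteType K (K ⊗[k] B) := inferInstance
  haveI : IsNoetherianRing (K ⊗[k] B) := Algebra.FiniteType.isNoetherianRing K _
  have hp := prime_tmul' (K := K) (k := k) hπ
  rcases eq_or_ne x 0 with rfl | hx
  · exact Or.inl ⟨0, 1, fun h => hp.not_unit (isUnit_of_dvd_one h), by simp⟩
  obtain ⟨P, Q, hQ, h⟩ := exists_rep (k := k) (B := B) (K := K) x
  have hP : P ≠ 0 := by
    rintro rfl
    rw [map_zero, mul_eq_zero] at h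
    exact hQ (jB_injective (k := k) (F := F) ((h.resolve_left hx).trans (map_zero _).symm))
  obtain ⟨i, P', hP', rfl⟩ := WfDvdMonoid.max_power_factor hP hp.irreducible
  obtain ⟨j, Q', hQ', rfl⟩ := WfDvdMonoid.max_power_factor hQ hp.irreducible
  have hj : jB (k := k) K B F ((1 : K) ⊗ₜ[k] π) ≠ 0 := fun h0 => hp.ne_zero (jB_injective (k := k) (F := F) (h0.trans (map_zero _).symm))
  rcases le_total j i with hji | hij
  · obtain ⟨d, rfl⟩ := Nat.exists_eq_add_of_le hji
    refine Or.inl ⟨((1 : K) ⊗ₜ[k] π) ^ d * P', Q', hQ', ?_⟩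
    apply mul_left_cancel₀ (pow_ne_zero j hj)
    simp only [map_mul, map_pow] at h ⊢
    rw [pow_add] at h
    linear_combination h
  · obtain ⟨d, rfl⟩ := Nat.exists_eq_add_of_le hij
    refine Or.inr ⟨((1 : K) ⊗ₜ[k] π) ^ d * Q', P', hP', ?_⟩
    rw [inv_mul_eq_iff_eq_mul₀ hx]
    apply mul_left_cancel₀ (pow_ne_zero i hj)
    simp only [map_mul, map_pow] at h ⊢
    rw [pow_add] at h
    linear_combination -h

end GrothLib.Chev24
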