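import Groth.Agent.Lib.Chev24.Divisible
import Groth.Agent.Lib.Torsor21.SmoothSection
import Groth.Agent.Lib.WeilExt.Dedekind
import Groth.Agent.Lib.AlgSp.FppfDescent
import Groth.Agent.S11994
import Mathlib.FieldTheory.Galois.Infinite
import Mathlib.FieldTheory.IsSepClosed

/-!
# A central abelian subvariety is a retract up to isogeny
-/

set_option autoImplicit false
set_option linter.all false
set_option backward.isDefEq.respectTransparency false
set_option maxHeartbeats 1000000
set_option synthInstance.maxHeartbeats 200000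

universe u

open CategoryTheory CategoryTheory.Limits MonoidalCategory CartesianMonoidalCategory MonObj GrpObj
open AlgebraicGeometry VecGrp Topology

noncomputable section

namespace GrothLib.Chev24

variable {k : Type u} [Field k]

/-- Morphisms out of the spectrum of a field extension are determined on the larger field. -/
theorem cancel_fieldExt {A : Over (Spec (CommRingCat.of k))} [IsSeparated A.hom] {F M : Type u} [Field F]
    [Algebra k F] [Field M] [Algebra k M] (φ : F →ₐ[k] M) {a b : pt k F ⟶ A} (h : ptMap φ ≫ a = ptMap φ ≫ b) :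
    a = b := by
  haveI : A.left.IsSeparated := ⟨by
    rw [show terminal.from A.left = A.hom ≫ terminal.from _ from Subsingleton.elim _ _]
    infer_instance⟩
  haveI : IsReduced (pt k F).left := inferInstanceAs (IsReduced (Spec (CommRingCat.of F)))
  haveI : IsDominant (ptMap φ).left := by
    refine ⟨fun y => subset_closure ⟨IsLocalRing.closedPoint M, ?_⟩⟩
    exact Subsingleton.elim (α := PrimeSpectrum F) _ _
  exact Over.OverMorphism.ext (ext_of_isDominant (ptMap φ).left (congrArg (fun t => t.left) h))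

/-- A field valued point of a separated scheme fixed by the Galois group descends. -/
theorem exists_pt_of_fixed {A : Over (Spec (CommRingCat.of k))} {F M : Type u} [Field F] [Algebra k F] [Field M]
    [Algebra k M] [Algebra F M] [IsScalarTower k F M] [IsGalois F M] (R : pt k M ⟶ A)
    (hR : ∀ τ : M ≃ₐ[F] M, ptMap (τ.toAlgHom.restrictScalars k) ≫ R = R) :
    ∃ ρ : pt k F ⟶ A, ptMap (IsScalarTower.toAlgHom k F M) ≫ ρ = R := by
  haveI hs : Subsingleton ↥(pt k M).left := inferInstanceAs (Subsingleton (PrimeSpectrum M))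
  obtain ⟨_, ⟨U, hU, rfl⟩, hxU, -⟩ := A.left.isBasis_affineOpens.exists_subset_of_mem_open
    (Set.mem_univ (R.left (IsLocalRing.closedPoint M))) isOpen_univ
  have hU : IsAffineOpen U := hU
  letI : Algebra k Γ(A.left, U) := sectAlg A.hom U
  let jU : pt k Γ(A.left, U) ⟶ A := affPt A.hom hU
  haveI : IsOpenImmersion jU.left := inferInstanceAs (IsOpenImmersion hU.fromSpec)
  haveI : Mono jU := Over.mono_of_mono_left jU
  obtain ⟨χ, hχ⟩ := exists_alg jU R (by
    rintro _ ⟨s, rfl⟩
    rw [show Set.range jU.left = (U : Set A.left) from hU.range_fromSpec,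
      Subsingleton.elim s (IsLocalRing.closedPoint M)]
    exact hxU)
  let φ := IsScalarTower.toAlgHom k F M
  have hfix : ∀ c, χ c ∈ φ.range := by
    intro c
    obtain ⟨x, hx⟩ := (InfiniteGalois.mem_range_algebraMap_iff_fixed (k := F) (χ c)).2 fun τ => by
      have h1 : (τ.toAlgHom.restrictScalars k).comp χ = χ := by
        refine ptMap_injective ((cancel_mono jU).1 ?_)
        rw [Repr.ptMap_comp, Category.assoc, hχ, hR]
      exact congr($h1 c)
    exact ⟨x, hx⟩
  let e := AlgEquiv.ofInjective φ φ.injective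
  let χ' : Γ(A.left, U) →ₐ[k] F := e.symm.toAlgHom.comp (χ.codRestrict φ.range hfix)
  refine ⟨ptMap χ' ≫ jU, ?_⟩
  rw [← Category.assoc, ← Repr.ptMap_comp, ← hχ]
  congr 2
  refine AlgHom.ext fun c => ?_
  exact congrArg Subtype.val (e.apply_symm_apply ⟨χ c, hfix c⟩)

/-- Lifting a map of fields to separable closures. -/
theorem exists_lift_sep {F M M' : Type u} [Field F] [Field M] [Field M'] [Algebra F M] [Algebra.IsSeparable F M]
    [IsSepClosed M'] (g : F →+* M') : ∃ ψ : M →+* M', ∀ x, ψ (algebraMap F M x) = g x := by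
  letI := g.toAlgebra
  let ψ : M →ₐ[F] M' := IsSepClosed.lift
  exact ⟨ψ.toRingHom, fun x => ψ.commutes x⟩

/-- A field valued point spreads out to an open neighbourhood. -/
theorem exists_spread {A X : Over (Spec (CommRingCat.of k))} [LocallyOfFiniteType A.hom] [IsIntegral X.left]
    {C : Type u} [CommRing C] [Algebra k C] [IsDomain C] (jC : pt k C ⟶ X) [IsOpenImmersion jC.left]
    (ρ : pt k (FractionRing C) ⟶ A) :
    ∃ (W : X.left.Opens) (f : (W : Scheme.{u}) ⟶ A.left), Dense (W : Set X.left) ∧ f ≫ A.hom = W.ι ≫ X.hom ∧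
      ∃ l : Spec (CommRingCat.of (FractionRing C)) ⟶ W, l ≫ W.ι = (gen (FractionRing C) jC).left ∧ l ≫ f = ρ.left := by
  classical
  let F := FractionRing C
  haveI : Subsingleton ↥(pt k F).left := inferInstanceAs (Subsingleton (PrimeSpectrum F))
  obtain ⟨_, ⟨U, hU, rfl⟩, hxU, -⟩ := A.left.isBasis_affineOpens.exists_subset_of_mem_open
    (Set.mem_univ (ρ.left (IsLocalRing.closedPoint F))) isOpen_univ
  have hU : IsAffineOpen U := hU
  letI : Algebra k Γ(A.left, U) := sectAlg A.hom U
  haveI : Algebra.FiniteType k Γ(A.left, U) := finiteType_sectAlg A.hom hU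
  let jU : pt k Γ(A.left, U) ⟶ A := affPt A.hom hU
  haveI : IsOpenImmersion jU.left := inferInstanceAs (IsOpenImmersion hU.fromSpec)
  obtain ⟨χ, hχ⟩ := exists_alg jU ρ (by
    rintro _ ⟨s, rfl⟩
    rw [show Set.range jU.left = (U : Set A.left) from hU.range_fromSpec,
      Subsingleton.elim s (IsLocalRing.closedPoint F)]
    exact hxU)
  obtain ⟨t, ht⟩ := (inferInstance : Algebra.FiniteType k Γ(A.left, U)).out
  obtain ⟨⟨c, hc⟩, hcint⟩ := IsLocalization.exist_integer_multiples (nonZeroDivisors C) t (fun x => χ x)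
  have hc0 : c ≠ 0 := nonZeroDivisors.ne_zero hc
  have hcF : algebraMap C F c ≠ 0 := IsFractionRing.to_map_ne_zero_of_mem_nonZeroDivisors hc
  have hP : Submonoid.powers c ≤ nonZeroDivisors C := powers_le_nonZeroDivisors_of_noZeroDivisors hc0
  let B := Localization.subalgebra.ofField F (Submonoid.powers c) hP
  haveI : IsLocalization.Away c B := inferInstanceAs (IsLocalization (Submonoid.powers c) B)
  have hcinv : (algebraMap C F c)⁻¹ ∈ B := ⟨1, c, ⟨1, pow_one c⟩, by simp⟩
  have hmem : ∀ x, χ x ∈ B.restrictScalars k := by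
    intro x
    have hx : x ∈ Algebra.adjoin k (t : Set Γ(A.left, U)) := ht.symm ▸ Algebra.mem_top
    induction hx using Algebra.adjoin_induction with
    | mem y hy =>
      obtain ⟨d, hd⟩ := hcint y hy
      have hd' : algebraMap C F d = algebraMap C F c * χ y := by rw [hd, Algebra.smul_def]
      show χ y ∈ B
      rw [show χ y = algebraMap C F d * (algebraMap C F c)⁻¹ by rw [hd']; field_simp]
      exact mul_mem (B.algebraMap_mem d) hcinv
    | algebraMap r => rw [χ.commutes]; exact (B.restrictScalars k).algebraMap_mem r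
    | add a b _ _ ha hb => rw [map_add]; exact add_mem ha hb
    | mul a b _ _ ha hb => rw [map_mul]; exact mul_mem ha hb
  let Bk := B.restrictScalars k
  let χ' : Γ(A.left, U) →ₐ[k] Bk := χ.codRestrict Bk hmem
  let iota : C →ₐ[k] Bk := (IsScalarTower.toAlgHom k C F).codRestrict Bk fun x => B.algebraMap_mem x
  haveI : IsOpenImmersion (ptMap iota).left :=
    IsOpenImmersion.of_isLocalization (R := C) (S := B) c
  let jB : pt k Bk ⟶ X := ptMap iota ≫ jC
  haveI : IsOpenImmersion jB.left := inferInstanceAs (IsOpenImmersion ((ptMap iota).left ≫ jC.left))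
  let W := jB.left.opensRange
  let f : (W : Scheme.{u}) ⟶ A.left := jB.left.isoOpensRange.inv ≫ (ptMap χ' ≫ jU).left
  have hl : ptMap Bk.val ≫ jB = gen F jC := by
    rw [show jB = ptMap iota ≫ jC from rfl, ← Category.assoc, ← Repr.ptMap_comp]
    rfl
  refine ⟨W, f, ?_, ?_, (ptMap Bk.val).left ≫ jB.left.isoOpensRange.hom, ?_, ?_⟩
  · refine W.2.dense ⟨_, ⟨(ptMap Bk.val).left (IsLocalRing.closedPoint F), rfl⟩⟩
  · show (jB.left.isoOpensRange.inv ≫ (ptMap χ' ≫ jU).left) ≫ A.hom = W.ι ≫ X.hom
    rw [Category.assoc, Over.w, ← Scheme.Hom.isoOpensRange_inv_comp jB.left, Category.assoc, Over.w]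
  · rw [Category.assoc, Scheme.Hom.isoOpensRange_hom_ι, ← Over.comp_left, hl]
  · show ((ptMap Bk.val).left ≫ _) ≫ jB.left.isoOpensRange.inv ≫ (ptMap χ' ≫ jU).left = ρ.left
    rw [Category.assoc, Iso.hom_inv_id_assoc, ← Over.comp_left, ← hχ, ← Category.assoc, ← Repr.ptMap_comp]
    rfl

/-- A point over the generic point factors through the function field. -/
theorem exists_funField_hom {V : Over (Spec (CommRingCat.of k))} {D : Type u} [CommRing D] [Algebra k D] [IsDomain D]
    [GrpObj V] (jD : pt k D ⟶ V) [IsOpenImmersion jD.left] [IsIntegral V.left] {L : Type u} [Field L] [Algebra k L]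
    (v : pt k L ⟶ V) (hv : v.left (IsLocalRing.closedPoint L) = genericPoint V.left) :
    ∃ φ : FractionRing D →ₐ[k] L, ptMap φ ≫ gen (FractionRing D) jD = v := by
  let K := FractionRing D
  haveI : Subsingleton ↥(pt k L).left := inferInstanceAs (Subsingleton (PrimeSpectrum L))
  obtain ⟨φ, hφ⟩ := exists_alg jD v (by
    rintro _ ⟨s, rfl⟩
    refine ⟨(ptMap (IsScalarTower.toAlgHom k D K)).left (IsLocalRing.closedPoint K), ?_⟩
    rw [Subsingleton.elim s (IsLocalRing.closedPoint L), hv, ← Scheme.Hom.comp_apply, ← Over.comp_left]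
    exact gen_pt jD _)
  have hinj : Function.Injective φ := by
    rw [injective_iff_map_eq_zero]
    intro c hc
    by_contra hc0
    have h1 := hv
    rw [← hφ, ← gen_pt (K := K) jD (IsLocalRing.closedPoint K), gen, Over.comp_left, Over.comp_left,
      Scheme.Hom.comp_apply, Scheme.Hom.comp_apply] at h1
    have h2 : (PrimeSpectrum.comap φ.toRingHom (IsLocalRing.closedPoint L)) =
        PrimeSpectrum.comap (algebraMap D K) (IsLocalRing.closedPoint K) :=
      jD.left.isOpenEmbedding.injective h1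
    have h3 : c ∈ (PrimeSpectrum.comap φ.toRingHom (IsLocalRing.closedPoint L)).asIdeal := by
      show φ c ∈ IsLocalRing.maximalIdeal L
      rw [hc]; exact zero_mem _
    rw [h2] at h3
    exact hc0 (IsFractionRing.injective D K (by
      have h4 : algebraMap D K c ∈ IsLocalRing.maximalIdeal K := h3
      rw [IsLocalRing.isField_iff_maximalIdeal_eq.1 (Field.toIsField K), Ideal.mem_bot] at h4
      rw [h4, map_zero]))
  refine ⟨IsFractionRing.liftAlgHom hinj, ?_⟩
  rw [← hφ, gen, ← Category.assoc, ← Repr.ptMap_comp]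
  congr 2
  exact AlgHom.ext fun c => by simp [IsFractionRing.liftAlgHom]

variable [IsAlgClosed k]

/-- An abelian subvariety of a group variety has a homomorphic retraction up to isogeny. -/
theorem exists_retraction (G : Over (Spec (CommRingCat.of k))) [GrpObj G] [Smooth G.hom] [QuasiCompact G.hom]
    [ConnectedSpace G.left] (A : Over (Spec (CommRingCat.of k))) [GrpObj A] [IsProper A.hom] [Smooth A.hom]
    [ConnectedSpace A.left] (i : A ⟶ G) [IsMonHom i] [IsClosedImmersion i.left] :
    ∃ (m : ℕ) (r : G ⟶ A), m ≠ 0 ∧ IsMonHom r ∧ i ≫ r = (𝟙 A : A ⟶ A) ^ m := by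
  classical
  haveI : IsSeparated G.hom := GrpSchField.isSeparated G
  haveI : IsIntegral G.left := Euler.isIntegral_of_smooth_connected k G.hom
  haveI : IsIntegral A.left := Euler.isIntegral_of_smooth_connected k A.hom
  haveI := Cube.geometricallyIntegral_of_isAlgClosed A
  haveI := Cube.geometricallyIntegral_of_isAlgClosed G
  haveI : IsCommMonObj A := Cube.isCommMonObj_abVar (A := A)
  haveI : Mono i := Over.mono_of_mono_left i
  have hA : AntiAffine.IsAntiAffine A := Cube.isAntiAffine_of_proper (X := A) η[A]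
  have hcen : ∀ {W : Over (Spec (CommRingCat.of k))} (a : W ⟶ A) (b : W ⟶ G), (a ≫ i) * b = b * (a ≫ i) :=
    fun a b => hA.central i a b
  have hnorm : AlgGrp.IsNormalHom i := fun T g x => ⟨x, by rw [← hcen x g, mul_inv_cancel_right]⟩
  obtain ⟨V, _, π, hπ, hVs, hVq, hπf, hπs, -, hker⟩ := exists_quot i hnorm
  haveI := hπ; haveI := hVs; haveI := hVq; haveI := hπf; haveI := hπs
  haveI : IsSeparated V.hom := GrpSchField.isSeparated V
  haveI : ConnectedSpace V.left := π.left.surjective.connectedSpace π.left.continuous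
  haveI : IsIntegral V.left := Euler.isIntegral_of_smooth_connected k V.hom
  haveI : LocallyOfFiniteType π.left := by
    haveI : LocallyOfFiniteType (π.left ≫ V.hom) := by rw [Over.w π]; infer_instance
    exact locallyOfFiniteType_of_comp π.left V.hom
  haveI : IsLocallyNoetherian V.left := LocallyOfFiniteType.isLocallyNoetherian V.hom
  haveI hπsm : Smooth π.left :=
    GrothLib.AlgSp.fppfDescends_smooth π.left π.left _ _
      ((GrothLib.GrpSchField.isPullback_kernelPair hker).map (Over.forget _)).flip hπf inferInstance hπs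
      (MorphismProperty.pullback_fst G.hom A.hom ‹Smooth A.hom›)
  -- charts
  obtain ⟨_, ⟨U₀, hU₀, rfl⟩, hxU₀, -⟩ := G.left.isBasis_affineOpens.exists_subset_of_mem_open
    (Set.mem_univ (genericPoint G.left)) isOpen_univ
  have hU₀ : IsAffineOpen U₀ := hU₀
  haveI : Nonempty U₀ := ⟨⟨_, hxU₀⟩⟩
  let C := Γ(G.left, U₀)
  letI : Algebra k C := sectAlg G.hom U₀
  let jC : pt k C ⟶ G := affPt G.hom hU₀
  haveI : IsOpenImmersion jC.left := inferInstanceAs (IsOpenImmersion hU₀.fromSpec)
  haveI : Mono jC := Over.mono_of_mono_left jC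
  obtain ⟨_, ⟨U₁, hU₁, rfl⟩, hxU₁, -⟩ := V.left.isBasis_affineOpens.exists_subset_of_mem_open
    (Set.mem_univ (genericPoint V.left)) isOpen_univ
  have hU₁ : IsAffineOpen U₁ := hU₁
  haveI : Nonempty U₁ := ⟨⟨_, hxU₁⟩⟩
  let D := Γ(V.left, U₁)
  letI : Algebra k D := sectAlg V.hom U₁
  let jD : pt k D ⟶ V := affPt V.hom hU₁
  haveI : IsOpenImmersion jD.left := inferInstanceAs (IsOpenImmersion hU₁.fromSpec)
  haveI : Mono jD := Over.mono_of_mono_left jD
  let F := FractionRing C
  let K := FractionRing D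
  let ξ : pt k F ⟶ G := gen F jC
  let ζ : pt k K ⟶ V := gen K jD
  obtain ⟨φK, hφK⟩ := exists_funField_hom jD (ξ ≫ π) (by
    rw [Over.comp_left, Scheme.Hom.comp_apply, gen_pt]
    have h1 := (genericPoint_spec G.left).image π.left.continuous
    rw [Set.image_univ, π.left.surjective.range_eq, closure_univ] at h1
    exact h1.eq (genericPoint_spec V.left))
  -- a separable point of the generic fibre
  let Y := pullback π.left ζ.left
  haveI : Smooth (pullback.snd π.left ζ.left) := inferInstance
  haveI : Nonempty Y := by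
    obtain ⟨x, hx⟩ := π.left.surjective (ζ.left (IsLocalRing.closedPoint K))
    obtain ⟨z, -, -⟩ := Scheme.Pullback.exists_preimage_pullback (f := π.left) (g := ζ.left) x
      (IsLocalRing.closedPoint K) hx
    exact ⟨z⟩
  obtain ⟨L, _, _, hLf, hLs, c, hc⟩ := GrothLib.Torsor21.exists_separable_point (pullback.snd π.left ζ.left)
  letI : Algebra k L := ((algebraMap K L).comp (algebraMap k K)).toAlgebra
  haveI : IsScalarTower k K L := IsScalarTower.of_algebraMap_eq fun _ => rfl
  have hs₀ : (c ≫ pullback.fst π.left ζ.left) ≫ π.left =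
      Spec.map (CommRingCat.ofHom (algebraMap K L)) ≫ ζ.left := by
    rw [Category.assoc, pullback.condition, ← Category.assoc, hc]
  let s : pt k L ⟶ G := Over.homMk (c ≫ pullback.fst π.left ζ.left) (by
    rw [← Over.w π, ← Category.assoc, hs₀, Category.assoc, Over.w ζ]
    show Spec.map _ ≫ Spec.map (CommRingCat.ofHom (algebraMap k K)) = Spec.map (CommRingCat.ofHom (algebraMap k L))
    rw [← Spec.map_comp]
    rfl)
  have hs : s ≫ π = ptMap (IsScalarTower.toAlgHom k K L) ≫ ζ := Over.OverMorphism.ext hs₀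
  -- the separable closure of the function field
  letI : Algebra K F := φK.toRingHom.toAlgebra
  haveI : IsScalarTower k K F := IsScalarTower.of_algebraMap_eq fun x => (φK.commutes x).symm
  let M := SeparableClosure F
  letI : Algebra K M := ((algebraMap F M).comp (algebraMap K F)).toAlgebra
  haveI : IsScalarTower K F M := IsScalarTower.of_algebraMap_eq fun _ => rfl
  letI : Algebra k M := ((algebraMap F M).comp (algebraMap k F)).toAlgebra
  haveI : IsScalarTower k F M := IsScalarTower.of_algebraMap_eq fun _ => rfl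
  haveI : IsScalarTower k K M := IsScalarTower.of_algebraMap_eq fun x => by
    show algebraMap F M (algebraMap k F x) = algebraMap F M (φK (algebraMap k K x))
    rw [φK.commutes]
  haveI : FiniteDimensional K L := hLf
  haveI : Algebra.IsSeparable K L := hLs
  haveI : Fintype (L →ₐ[K] M) := minpoly.AlgHom.fintype K L M
  haveI : Nonempty (L →ₐ[K] M) := ⟨IsSepClosed.lift⟩
  let φM : F →ₐ[k] M := IsScalarTower.toAlgHom k F M
  let ξM : pt k M ⟶ G := ptMap φM ≫ ξ
  have hKM : φM.comp φK = IsScalarTower.toAlgHom k K M := AlgHom.ext fun _ => rfl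
  have hd : ∀ e : L →ₐ[K] M, ∃ d : pt k M ⟶ A, d ≫ i = ξM * (ptMap (e.restrictScalars k) ≫ s)⁻¹ := by
    intro e
    have h1 : (ξM * (ptMap (e.restrictScalars k) ≫ s)⁻¹) ≫ π = toUnit _ ≫ η[V] := by
      rw [MonObj.mul_comp, GrpObj.inv_comp, ← Hom.one_def, Category.assoc, Category.assoc, hs, ← hφK,
        ← Category.assoc, ← Repr.ptMap_comp, ← Category.assoc, ← Repr.ptMap_comp, hKM,
        show (e.restrictScalars k).comp (IsScalarTower.toAlgHom k K L) = IsScalarTower.toAlgHom k K M from
          AlgHom.ext fun x => e.commutes x, mul_inv_cancel]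
    obtain ⟨d, hd, -⟩ := hker.exists_lift _ _ h1
    exact ⟨d, hd⟩
  choose d hd using hd
  let R : pt k M ⟶ A := ∏ e, d e
  let m := Fintype.card (L →ₐ[K] M)
  have hprod : ∀ (ψ : M →ₐ[k] M) (a : pt k M ⟶ A) (σ : (L →ₐ[K] M) → (L →ₐ[K] M)), Function.Injective σ →
      (∀ e, ptMap ψ ≫ d e = a * d (σ e)) → ptMap ψ ≫ R = a ^ m * R := by
    intro ψ a σ hσ h
    let Φ : (pt k M ⟶ A) →* (pt k M ⟶ A) :=
      MonoidHom.mk' (fun x => ptMap ψ ≫ x) fun x y => MonObj.comp_mul _ x y
    show Φ R = _
    rw [map_prod]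
    show ∏ e, ptMap ψ ≫ d e = _
    simp only [h]
    rw [Finset.prod_mul_distrib, Finset.prod_const, Finset.card_univ]
    congr 1
    exact Fintype.prod_bijective σ (Finite.injective_iff_bijective.1 hσ) _ _ fun _ => rfl
  -- descent to the function field
  have hfix : ∀ τ : M ≃ₐ[F] M, ptMap (τ.toAlgHom.restrictScalars k) ≫ R = R := by
    intro τ
    let τK : M →ₐ[K] M := τ.toAlgHom.restrictScalars K
    rw [hprod _ 1 (fun e => τK.comp e) (fun e e' h => AlgHom.ext fun x => τ.injective congr($h x)) ?_, one_pow,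
      _root_.one_mul]
    intro e
    have e1 : ptMap (τ.toAlgHom.restrictScalars k) ≫ ξM = ξM := by
      rw [← Category.assoc, ← Repr.ptMap_comp,
        show (τ.toAlgHom.restrictScalars k).comp φM = φM from AlgHom.ext fun x => τ.commutes x]
    have e2 : ptMap (τ.toAlgHom.restrictScalars k) ≫ ptMap (e.restrictScalars k) ≫ s =
        ptMap ((τK.comp e).restrictScalars k) ≫ s := by
      rw [← Category.assoc, ← Repr.ptMap_comp]
      rfl
    rw [_root_.one_mul, ← cancel_mono i, Category.assoc, hd, hd, MonObj.comp_mul, GrpObj.comp_inv, e1, e2]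
  haveI : IsGalois F M := inferInstance
  obtain ⟨ρ, hρ⟩ := exists_pt_of_fixed R hfix
  -- equivariance
  have hequi : ∀ a : pt k k ⟶ A, ptMap (translHom F jC (a ≫ i)) ≫ ρ = cst F a ^ m * ρ := by
    intro a
    let τa := translHom F jC (a ≫ i)
    have hτa : ptMap τa ≫ ξ = cst F (a ≫ i) * ξ := translHom_spec jC _
    have hai : (a ≫ i) ≫ π = 1 := by rw [Category.assoc, hker.w, ← Hom.one_def, MonObj.comp_one]
    have hτK : τa.comp φK = φK := by
      refine gen_inj jD ?_
      rw [Repr.ptMap_comp, Category.assoc, hφK, ← Category.assoc, hτa, MonObj.mul_comp, cst, Category.assoc,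
        hai, MonObj.comp_one, _root_.one_mul]
    obtain ⟨ψ₀, hψ₀⟩ := exists_lift_sep (M := M) ((algebraMap F M).comp τa.toRingHom)
    let ψ : M →ₐ[k] M := { ψ₀ with commutes' := fun x => (hψ₀ (algebraMap k F x)).trans (congrArg (algebraMap F M) (τa.commutes x)) }
    have hψK : ∀ x : K, ψ (algebraMap K M x) = algebraMap K M x := fun x =>
      (hψ₀ (φK x)).trans (congrArg (algebraMap F M) congr($hτK x))
    let ψK : M →ₐ[K] M := { ψ₀ with commutes' := hψK }
    have hψφ : ψ.comp φM = φM.comp τa := AlgHom.ext fun x => hψ₀ x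
    refine cancel_fieldExt φM ?_
    rw [← Category.assoc, ← Repr.ptMap_comp, ← hψφ, Repr.ptMap_comp, Category.assoc, hρ, MonObj.comp_mul, hρ,
      MonObj.comp_pow, cst_comp]
    refine hprod ψ (cst M a) (fun e => ψK.comp e) (fun e e' h => AlgHom.ext fun x =>
      ψ₀.injective congr($h x)) fun e => ?_
    have e1 : ptMap ψ ≫ ξM = cst M (a ≫ i) * ξM := by
      rw [← Category.assoc, ← Repr.ptMap_comp, hψφ, Repr.ptMap_comp, Category.assoc, hτa, MonObj.comp_mul,
        cst_comp]
    have e2 : ptMap ψ ≫ ptMap (e.restrictScalars k) ≫ s = ptMap ((ψK.comp e).restrictScalars k) ≫ s := by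
      rw [← Category.assoc, ← Repr.ptMap_comp]
      rfl
    rw [← cancel_mono i, Category.assoc, hd, MonObj.mul_comp, hd, MonObj.comp_mul, GrpObj.comp_inv, e1, e2,
      show cst M a ≫ i = cst M (a ≫ i) from Category.assoc _ _ _, _root_.mul_assoc]
  -- the rational map and its extension
  obtain ⟨W, f, hWd, hf, l, hl₁, hl₂⟩ := exists_spread jC ρ
  letI : GrpObj (Over.mk A.hom) := inferInstanceAs (GrpObj A)
  obtain ⟨g, ⟨hg, hgW⟩, -⟩ := GrothLib.WeilExt.existsUnique_extension_of_isProper (R := k) G.hom A.hom W hWd f hf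
  let r₀ : G ⟶ A := Over.homMk g hg
  have hr₀ : ξ ≫ r₀ = ρ := by
    refine Over.OverMorphism.ext ?_
    show ξ.left ≫ g = ρ.left
    rw [show ξ.left = l ≫ W.ι from hl₁.symm, Category.assoc, hgW, hl₂]
  haveI : A.left.IsSeparated := ⟨by
    rw [show terminal.from A.left = A.hom ≫ terminal.from _ from Subsingleton.elim _ _]
    infer_instance⟩
  haveI : IsDominant ξ.left := by
    refine ⟨?_⟩
    rw [denseRange_iff_closure_range]
    refine Set.eq_univ_of_univ_subset ?_
    rw [← (genericPoint_spec G.left).def]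
    exact closure_mono (Set.singleton_subset_iff.2 ⟨IsLocalRing.closedPoint F, gen_pt jC _⟩)
  let c₁ : pt k k ⟶ A := (1 : pt k k ⟶ G) ≫ r₀
  have hval : ∀ a : pt k k ⟶ A, (a ≫ i) ≫ r₀ = a ^ m * c₁ := by
    intro a
    let t : G ⟶ G := (toUnit G ≫ unitIso.hom ≫ (a ≫ i)) * 𝟙 G
    let cm : G ⟶ A := toUnit G ≫ unitIso.hom ≫ (a ^ m)
    have hcst : ∀ {L' : Type u} [CommRing L'] [Algebra k L'] (p : pt k L' ⟶ G),
        p ≫ toUnit G ≫ unitIso.hom = ptMap (Algebra.ofId k L') := fun p => by
      rw [← cancel_mono (unitIso (k := k)).inv]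
      exact toUnit_unique _ _
    have h1 : t ≫ r₀ = cm * r₀ := by
      refine Over.OverMorphism.ext (ext_of_isDominant ξ.left ?_)
      rw [← Over.comp_left, ← Over.comp_left]
      congr 1
      have e1 : ξ ≫ t = ptMap (translHom F jC (a ≫ i)) ≫ ξ := by
        simp only [t, MonObj.comp_mul, Category.comp_id]
        rw [reassoc_of% (hcst ξ), translHom_spec]
        rfl
      rw [← Category.assoc, e1, Category.assoc, hr₀, hequi, MonObj.comp_mul, hr₀]
      congr 1
      simp only [cm]
      rw [reassoc_of% (hcst ξ), cst, ← MonObj.comp_pow]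
    have h2 := congrArg (fun z => (1 : pt k k ⟶ G) ≫ z) h1
    simp only [t, cm, MonObj.comp_mul, Category.comp_id, ← Category.assoc] at h2
    rw [show ((1 : pt k k ⟶ G) ≫ toUnit G) ≫ unitIso.hom = 𝟙 _ from
      (cancel_mono (unitIso (k := k)).inv).1 (toUnit_unique _ _)] at h2
    simpa [c₁] using h2
  let r : G ⟶ A := r₀ * (toUnit G ≫ η[G] ≫ r₀)⁻¹
  haveI hr : IsMonHom r := Groth.Agent.S11994.result k G A r (by
    rw [MonObj.comp_mul, GrpObj.comp_inv, ← Category.assoc, Subsingleton.elim (η[G] ≫ toUnit G) (𝟙 _),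
      Category.id_comp, mul_inv_cancel, Hom.one_def, Subsingleton.elim (toUnit (𝟙_ _)) (𝟙 _), Category.id_comp])
  refine ⟨m, r, Fintype.card_ne_zero, hr, ?_⟩
  haveI : IsReduced A.left := inferInstance
  refine Rigidity.ext_of_points _ _ fun p => ?_
  refine (cancel_epi unitIso.inv).1 ?_
  let a : pt k k ⟶ A := unitIso.inv ≫ p
  show unitIso.inv ≫ p ≫ i ≫ r = unitIso.inv ≫ p ≫ 𝟙 A ^ m
  rw [← Category.assoc, ← Category.assoc unitIso.inv p (𝟙 A ^ m), MonObj.comp_pow, Category.comp_id]
  show a ≫ i ≫ r = a ^ m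
  simp only [r, MonObj.comp_mul, GrpObj.comp_inv, ← Category.assoc]
  rw [hval, show (((a ≫ i) ≫ toUnit G) ≫ η[G]) = (1 : pt k k ⟶ G) by
    rw [Category.assoc, ← Hom.one_def, MonObj.comp_one]]
  exact mul_inv_cancel_right _ _

end GrothLib.Chev24
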