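import Groth.Agent.Lib.Chev24.TorusQuot
import Groth.Agent.Lib.Chev24.PerfChev
import Groth.Agent.Lib.Flag27.Small
import Groth.Agent.Lib.Flag27.Geom

/-!
# Semi-abelian varieties over an algebraically closed field
-/

set_option autoImplicit false
set_option linter.all false
set_option backward.isDefEq.respectTransparency false
set_option maxHeartbeats 1000000
set_option synthInstance.maxHeartbeats 200000

universe u

open CategoryTheory CategoryTheory.Limits MonoidalCategory CartesianMonoidalCategory MonObj GrpObj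
open AlgebraicGeometry
open GrothLib.Flag27 (IsUnip)

noncomputable section

namespace GrothLib.Chev24

attribute [-instance] Hom.commGroup Hom.commMonoid CommGrpObj.toIsCommMonObj

variable {k : Type u} [Field k] [IsAlgClosed k]

/-- An extension of an abelian variety by a torus. -/
def IsSemiAb (G : Over (Spec (CommRingCat.of k))) [GrpObj G] : Prop :=
  ∃ (T : Over (Spec (CommRingCat.of k))) (_ : GrpObj T) (i : T ⟶ G) (A : Over (Spec (CommRingCat.of k))) (_ : GrpObj A)
    (q : G ⟶ A), IsMonHom i ∧ IsClosedImmersion i.left ∧ Red.IsTorus T ∧ IsMonHom q ∧ Surjective q.left ∧ Flat q.left ∧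
      AlgGrp.IsKernel i q ∧ IsProper A.hom ∧ Smooth A.hom ∧ ConnectedSpace ↥A.left

/-- Connected unipotent groups map trivially. -/
def NoUnipHom (G : Over (Spec (CommRingCat.of k))) [GrpObj G] : Prop :=
  ∀ (U : Over (Spec (CommRingCat.of k))) [GrpObj U] (v : U ⟶ G), IsMonHom v → IsUnip k U → Smooth U.hom →
    ConnectedSpace U.left → v = 1

/-- Unipotent groups are affine. -/
theorem isAffine_of_isUnip {U : Over (Spec (CommRingCat.of k))} [GrpObj U] (h : IsUnip k U) : IsAffine U.left := by
  obtain ⟨A, _, _, -, -, ⟨e⟩⟩ := h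
  let i : MultHopf14.specGrp (R := k) A ≅ U := (Grp.forget _).mapIso e
  haveI : IsIso i.inv.left := inferInstanceAs (IsIso ((Over.forget _).map i.inv))
  haveI : IsAffine (MultHopf14.specGrp (R := k) A).left := inferInstanceAs (IsAffine (Spec (CommRingCat.of A)))
  exact IsAffine.of_isIso i.inv.left

/-- A homomorphism from a connected affine group to a proper group is trivial. -/
theorem hom_affine_proper_eq_one {H Q : Over (Spec (CommRingCat.of k))} [GrpObj H] [GrpObj Q] [Smooth H.hom]
    [ConnectedSpace H.left] [IsAffine H.left] [IsProper Q.hom] (f : H ⟶ Q) [IsMonHom f] : f = 1 := by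
  haveI : IsAffineHom H.hom := isAffineHom_of_isAffine _
  haveI : IsSeparated H.hom := GrpSchField.isSeparated H
  haveI : QuasiCompact f.left := by
    haveI : QuasiCompact (f.left ≫ Q.hom) := by rw [Over.w]; infer_instance
    exact QuasiCompact.of_comp _ Q.hom
  obtain ⟨I, _, p, jI, hp, hjI, hpj, hps, hpf, hplfp, hm, hIlft, -⟩ := Neutral.exists_factor_field f
  haveI := hp; haveI := hjI; haveI := hm; haveI := hps; haveI := hpf; haveI := hplfp; haveI := hIlft
  haveI := (Neutral.isClosedImmersion_factor f hpj).1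
  haveI : Smooth I.hom := GrothLib.FppfSource.fppfSourceDescends_smooth p.left I.hom hpf hplfp hps
    (by rw [Over.w p]; infer_instance)
  haveI : ConnectedSpace I.left := p.left.surjective.connectedSpace p.left.continuous
  haveI : IsAffine I.left := Chevalley.isAffine_of_surjective_hom p
  haveI : IsProper I.hom := by rw [← Over.w jI]; infer_instance
  haveI : IsIntegral I.left := Euler.isIntegral_of_smooth_connected k I.hom
  haveI := Cube.geometricallyIntegral_of_isAlgClosed I
  haveI := subsingleton_of_affine (Cube.isAntiAffine_of_proper (X := I) η[I])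
  haveI := isIso_hom_of_subsingleton I
  rw [← hpj, show p = (1 : H ⟶ I) from Over.OverMorphism.ext ((cancel_mono I.hom).1 (by rw [Over.w, Over.w])),
      MonObj.one_comp]

/-- A semi-abelian variety receives no unipotent groups. -/
theorem IsSemiAb.noUnipHom {G : Over (Spec (CommRingCat.of k))} [GrpObj G] (h : IsSemiAb G) : NoUnipHom G := by
  obtain ⟨T, _, i, A, _, q, hi, hic, hT, hq, -, -, hker, hAp, -, -⟩ := h
  haveI := hi; haveI := hic; haveI := hq; haveI := hAp
  intro U _ v hv hU hUs hUc
  haveI := hv; haveI := hUs; haveI := hUc; haveI := isAffine_of_isUnip hU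
  haveI : Mono i := Over.mono_of_mono_left i
  obtain ⟨w, hw⟩ := GrpSchField.exists_lift_of_comp_eq_one hker v (hom_affine_proper_eq_one (v ≫ q))
  haveI : IsMonHom (w ≫ i) := by rw [hw]; infer_instance
  haveI : IsMonHom w := GrothLib.CentMT14.isMonHom_of_comp w i
  rw [← hw, unip_to_torus_eq_one hU hT w, MonObj.one_comp]

/-- The property passes to subgroups. -/
theorem NoUnipHom.of_mono {G H : Over (Spec (CommRingCat.of k))} [GrpObj G] [GrpObj H] (j : H ⟶ G) [IsMonHom j] [Mono j]
    (h : NoUnipHom G) : NoUnipHom H := fun U _ v hv hU hUs hUc => by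
  haveI := hv
  rw [← cancel_mono j, MonObj.one_comp]
  exact h U (v ≫ j) inferInstance hU hUs hUc

/-- The property passes to extensions. -/
theorem NoUnipHom.extension {N G Q : Over (Spec (CommRingCat.of k))} [GrpObj N] [GrpObj G] [GrpObj Q] (j : N ⟶ G)
    [IsMonHom j] [Mono j] (p : G ⟶ Q) [IsMonHom p] (hex : AlgGrp.IsKernel j p) (hN : NoUnipHom N) (hQ : NoUnipHom Q) :
    NoUnipHom G := fun U _ v hv hU hUs hUc => by
  haveI := hv
  obtain ⟨w, hw⟩ := GrpSchField.exists_lift_of_comp_eq_one hex v (hQ U (v ≫ p) inferInstance hU hUs hUc)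
  haveI : IsMonHom (w ≫ j) := by rw [hw]; infer_instance
  haveI : IsMonHom w := GrothLib.CentMT14.isMonHom_of_comp w j
  rw [← hw, hN U w inferInstance hU hUs hUc, MonObj.one_comp]

/-- A connected affine group receiving no unipotent group is a torus. -/
theorem isTorus_of_noUnipHom {N : Over (Spec (CommRingCat.of k))} [GrpObj N] [IsAffine N.left] [Smooth N.hom]
    [ConnectedSpace N.left] (h : NoUnipHom N) : Red.IsTorus N := by
  obtain ⟨B, _, iB, hB, -⟩ := Flag27.exists_borel (G := N)
  obtain ⟨hi, hic, hBsm, hBc, hBs, -⟩ := id hB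
  haveI := hi; haveI := hic; haveI := hBsm; haveI := hBc
  haveI : IsAffine B.left := isAffine_of_isAffineHom iB.left
  haveI : Mono iB := Over.mono_of_mono_left iB
  have hBt : Red.IsTorus B := isTorus_of_noUnip (Flag27.isSolvable_points hBs)
    fun U _ w hw _ hU hUs hUc => h.of_mono iB U w hw hU hUs hUc
  refine isTorus_of_noUnip (isSolvable_pts_of_comm (Flag27.comm_of_borel_comm hB fun a b => torus_comm hBt a b))
    fun U _ w hw _ hU hUs hUc => h U w hw hU hUs hUc

/-- A connected group receiving no unipotent group is semi-abelian. -/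
theorem NoUnipHom.isSemiAb {G : Over (Spec (CommRingCat.of k))} [GrpObj G] [Smooth G.hom] [QuasiCompact G.hom]
    [ConnectedSpace G.left] (h : NoUnipHom G) : IsSemiAb G := by
  haveI : IsSeparated G.hom := GrpSchField.isSeparated G
  obtain ⟨N, _, i, hi, hic, hNs, hNc, hNa, hNn, hmax⟩ := exists_affPart (G := G)
  haveI := hi; haveI := hic; haveI := hNs; haveI := hNc; haveI := hNa
  haveI : Mono i := Over.mono_of_mono_left i
  obtain ⟨A, _, q, hq, hAs, hAq, hqf, hqs, -, hker⟩ := exists_quot i hNn
  haveI := hq; haveI := hAs; haveI := hAq; haveI := hqf; haveI := hqs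
  exact ⟨N, inferInstance, i, A, inferInstance, q, hi, hic, isTorus_of_noUnipHom (h.of_mono i), hq, hqs, hqf, hker,
    isProper_quotient i hmax q hker, hAs, q.left.surjective.connectedSpace q.left.continuous⟩

/-- An affine group covered by a torus is a torus. -/
theorem isTorus_of_torus_surjective {T I : Over (Spec (CommRingCat.of k))} [GrpObj T] [GrpObj I] (hT : Red.IsTorus T)
    [IsAffine I.left] [Smooth I.hom] [ConnectedSpace I.left] (r : T ⟶ I) [IsMonHom r] [Surjective r.left] :
    Red.IsTorus I := by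
  obtain ⟨hTa, hTl⟩ := GrothLib.OneMotFaith14.isAffine_of_isTorus hT
  haveI := hTa; haveI := hTl
  haveI : Smooth T.hom := TorusNorm25.smooth_of_isTorus hT
  haveI : IsSeparated I.hom := GrpSchField.isSeparated I
  haveI : IsReduced I.left := GrothLib.Rigidity.isReduced_of_smooth I.hom
  have hlift : ∀ y : 𝟙_ (Over (Spec (CommRingCat.of k))) ⟶ I, ∃ x : 𝟙_ (Over (Spec (CommRingCat.of k))) ⟶ T, x ≫ r = y :=
    fun y => IsogProps19.ptMap_surjective r y
  have hc : ∀ (a b : 𝟙_ (Over (Spec (CommRingCat.of k))) ⟶ I), a * b = b * a := fun a b => by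
    obtain ⟨a', rfl⟩ := hlift a
    obtain ⟨b', rfl⟩ := hlift b
    rw [← MonObj.mul_comp, torus_comm hT, MonObj.mul_comp]
  obtain ⟨D, _, U, _, p, s, w, rI, hp, hs', hu, hsp, hDt, hDa, hDs, hDc, huc, hup, hur, hru, hUu, hUs, hUc⟩ :=
    Flag27.hasSplit_of_solvable (isSolvable_pts_of_comm hc)
  haveI := hp; haveI := hs'; haveI := hu; haveI := huc
  haveI : Mono w := Over.mono_of_mono_left w
  haveI : IsMonHom ((r ≫ rI) ≫ w) := by
    rw [Category.assoc, hru, MonObj.comp_mul, GrpObj.comp_inv, Category.comp_id]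
    refine GrpSchField.isMonHom_of_mul _ ?_
    haveI : LocallyOfFiniteType (T ⊗ T).hom := by
      show LocallyOfFiniteType (pullback.fst T.hom T.hom ≫ T.hom)
      infer_instance
    haveI : IsReduced T.left := GrothLib.Rigidity.isReduced_of_smooth T.hom
    haveI : IsReduced (T ⊗ T).left := GrothLib.GrpSchField.isReduced_pullback T.hom T.hom
    refine GrothLib.Rigidity.ext_of_points _ _ fun v => ?_
    have e1 : v ≫ μ[T] = (v ≫ fst T T) * (v ≫ snd T T) := by
      rw [Hom.mul_def, ← comp_lift, lift_fst_snd, Category.comp_id]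
    have e2 : ∀ f : T ⟶ I, v ≫ (f ⊗ₘ f) ≫ μ[I] = ((v ≫ fst T T) ≫ f) * ((v ≫ snd T T) ≫ f) := fun f => by
      rw [Hom.mul_def, ← lift_map, ← Category.assoc, ← comp_lift, lift_fst_snd, Category.comp_id]
    rw [e2, ← Category.assoc, e1]
    simp only [MonObj.mul_comp, MonObj.comp_mul, GrpObj.comp_inv, ← Category.assoc]
    set a := ((v ≫ fst T T) ≫ r)
    set b := ((v ≫ snd T T) ≫ r)
    simp only [_root_.mul_inv_rev]
    rw [hc ((b ≫ p) ≫ s)⁻¹]
    simp only [_root_.mul_assoc]
    congr 1
    simp only [← _root_.mul_assoc]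
    rw [hc b]
  haveI : IsMonHom (r ≫ rI) := GrothLib.CentMT14.isMonHom_of_comp (r ≫ rI) w
  have h1 := hUu.torus_hom_eq_one hT (r ≫ rI)
  have hrI : rI ≫ w = 1 := GrothLib.Rigidity.ext_of_points _ _ fun y => by
    obtain ⟨x, rfl⟩ := hlift y
    rw [Category.assoc, ← Category.assoc r rI w, h1, MonObj.one_comp, MonObj.comp_one, MonObj.comp_one]
  have hps : p ≫ s = 𝟙 I := by
    rw [hrI] at hru
    exact (mul_inv_eq_one.1 hru.symm).symm
  let f : D ≅ I := ⟨s, p, hsp, hps⟩
  haveI : IsMonHom f.hom := hs'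
  exact Flag27.isTorus_of_grpIso (Grp.mkIso' f) hDt

/-- Quotients of semi-abelian varieties are semi-abelian. -/
theorem IsSemiAb.quotient {G Q : Over (Spec (CommRingCat.of k))} [GrpObj G] [GrpObj Q] [Smooth G.hom]
    [QuasiCompact G.hom] [Smooth Q.hom] [QuasiCompact Q.hom] [ConnectedSpace Q.left] (h : IsSemiAb G) (p : G ⟶ Q)
    [IsMonHom p] [Surjective p.left] [Flat p.left] : IsSemiAb Q := by
  obtain ⟨T, _, i, A, _, q, hi, hic, hT, hq, hqs, hqf, hker, hAp, hAs, hAc⟩ := h
  haveI := hi; haveI := hic; haveI := hq; haveI := hqs; haveI := hqf; haveI := hAp; haveI := hAs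
  haveI : IsSeparated G.hom := GrpSchField.isSeparated G
  haveI : IsSeparated Q.hom := GrpSchField.isSeparated Q
  haveI : Mono i := Over.mono_of_mono_left i
  obtain ⟨-, hTa, hTs, hTc⟩ := torus_facts' hT i
  haveI := hTa; haveI := hTs; haveI := hTc
  haveI : QuasiCompact (i ≫ p).left := by
    haveI : QuasiCompact ((i ≫ p).left ≫ Q.hom) := by rw [Over.w]; infer_instance
    exact QuasiCompact.of_comp _ Q.hom
  obtain ⟨I₀, _, r, jI₀, hr, hjI₀, hrj, hrs, hrf, hrlfp, hm, hIlft, -⟩ := Neutral.exists_factor_field (i ≫ p)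
  haveI := hr; haveI := hjI₀; haveI := hm; haveI := hrs; haveI := hrf; haveI := hrlfp; haveI := hIlft
  haveI := (Neutral.isClosedImmersion_factor (i ≫ p) hrj).1
  haveI : Smooth I₀.hom := GrothLib.FppfSource.fppfSourceDescends_smooth r.left I₀.hom hrf hrlfp hrs
    (by rw [Over.w r]; infer_instance)
  haveI : ConnectedSpace I₀.left := r.left.surjective.connectedSpace r.left.continuous
  haveI : IsAffine I₀.left := Chevalley.isAffine_of_surjective_hom r
  have hI₀t := isTorus_of_torus_surjective hT r
  have hn : AlgGrp.IsNormalHom jI₀ := isNormalHom_of_pts jI₀ fun g x => by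
    obtain ⟨g', hg'⟩ : ∃ g', g' ≫ p = g := IsogProps19.ptMap_surjective p g
    obtain ⟨x', hx'⟩ : ∃ x', x' ≫ r = x := IsogProps19.ptMap_surjective r x
    obtain ⟨z, hz⟩ := isNormalHom_kernel i q hker _ g' x'
    refine ⟨z ≫ r, ?_⟩
    rw [Category.assoc, hrj, ← Category.assoc, ← hz, MonObj.mul_comp, MonObj.mul_comp, GrpObj.inv_comp, hg', ← hx',
      Category.assoc x' r, hrj, Category.assoc]
  haveI : QuasiCompact I₀.hom := by rw [← Over.w jI₀]; infer_instance
  obtain ⟨B, _, q₂, hq₂, hBs, hBq, hq₂f, hq₂s, -, hker₂⟩ := exists_quot jI₀ hn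
  haveI := hq₂; haveI := hBs; haveI := hBq; haveI := hq₂f; haveI := hq₂s
  haveI : IsSeparated B.hom := GrpSchField.isSeparated B
  haveI : QuasiCompact q.left := by
    haveI : QuasiCompact (q.left ≫ A.hom) := by rw [Over.w]; infer_instance
    exact QuasiCompact.of_comp q.left A.hom
  obtain ⟨f, hf, hqf'⟩ := GrpDeligne.exists_factor q i hker (p ≫ q₂) (by
    rw [← Category.assoc, ← hrj, Category.assoc, GrpSchField.comp_eq_one hker₂, MonObj.comp_one])
  haveI : Surjective f.left := by
    haveI : Surjective (q.left ≫ f.left) := by rw [← Over.comp_left, hqf', Over.comp_left]; infer_instance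
    exact Surjective.of_comp q.left f.left
  haveI : IsProper B.hom := by
    haveI : UniversallyClosed (f.left ≫ B.hom) := by rw [Over.w f]; infer_instance
    haveI : UniversallyClosed B.hom := UniversallyClosed.of_comp_surjective f.left B.hom
    exact { }
  exact ⟨I₀, inferInstance, jI₀, B, inferInstance, q₂, hjI₀, inferInstance, hI₀t, hq₂, hq₂s, hq₂f, hker₂,
    inferInstance, hBs, q₂.left.surjective.connectedSpace q₂.left.continuous⟩

end GrothLib.Chev24
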