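import Groth.Agent.Lib.Chev24.Div
import Groth.Agent.Lib.Chev24.Lin

/-!
# Translations on the function field of a group variety
-/

set_option autoImplicit false
set_option linter.all false
set_option backward.isDefEq.respectTransparency false
set_option maxHeartbeats 1000000
set_option synthInstance.maxHeartbeats 100000

universe u

open CategoryTheory CategoryTheory.Limits MonoidalCategory CartesianMonoidalCategory MonObj GrpObj
open AlgebraicGeometry VecGrp Topology
open scoped TensorProduct

noncomputable section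

namespace GrothLib.Chev24

attribute [-instance] Hom.commGroup Hom.commMonoid CommGrpObj.toIsCommMonObj

variable {k : Type u} [Field k]

local notation "S₀" => Spec (CommRingCat.of k)
local notation "𝒞" => Over (Spec (CommRingCat.of k))

theorem ptMap_injective {R R' : Type u} [CommRing R] [Algebra k R] [CommRing R'] [Algebra k R'] {φ ψ : R →ₐ[k] R'}
    (h : ptMap φ = ptMap ψ) : φ = ψ := by
  have h3 := congrArg (fun t => t.left) h
  simp only [ptMap_left] at h3
  exact AlgHom.ext fun c => congr($(Spec.map_injective h3).hom c)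

theorem exists_alg {G : 𝒞} {C L : Type u} [CommRing C] [Algebra k C] [CommRing L] [Algebra k L] (jC : pt k C ⟶ G)
    [IsOpenImmersion jC.left] (v : pt k L ⟶ G) (hv : Set.range v.left ⊆ Set.range jC.left) :
    ∃ φ : C →ₐ[k] L, ptMap φ ≫ jC = v := by
  let w : pt k L ⟶ pt k C := Over.homMk (IsOpenImmersion.lift jC.left v.left hv) (by
    rw [← Over.w jC, ← Category.assoc, IsOpenImmersion.lift_fac, Over.w])
  obtain ⟨φ, hφ⟩ := Repr.exists_ptMap w
  refine ⟨φ, ?_⟩
  rw [← hφ]
  exact Over.OverMorphism.ext (IsOpenImmersion.lift_fac _ _ _)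

theorem fromSpec_comp_eq {X : 𝒞} {U : X.left.Opens} (hU : IsAffineOpen U) :
    hU.fromSpec ≫ X.hom = Spec.map ((Scheme.ΓSpecIso (CommRingCat.of k)).inv ≫ X.hom.appLE ⊤ U le_top) := by
  rw [Spec.map_comp, ← IsAffineOpen.SpecMap_appLE_fromSpec X.hom (isAffineOpen_top _) hU le_top]
  congr 1
  simp [IsAffineOpen.fromSpec_top, Scheme.isoSpec_Spec_inv]

variable {C : Type u} [CommRing C] [Algebra k C] {K : Type u} [Field K] [Algebra k K] [Algebra C K]
  [IsScalarTower k C K] {G : Over (Spec (CommRingCat.of k))} (jC : pt k C ⟶ G)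

variable (K) in
/-- The generic point. -/
def gen : pt k K ⟶ G := ptMap (IsScalarTower.toAlgHom k C K) ≫ jC

theorem gen_inj [Mono jC] [IsFractionRing C K] {L : Type u} [CommRing L] [Algebra k L] {σ τ : K →ₐ[k] L}
    (h : ptMap σ ≫ gen K jC = ptMap τ ≫ gen K jC) : σ = τ := by
  rw [gen, ← Category.assoc, ← Category.assoc, cancel_mono, ← Repr.ptMap_comp, ← Repr.ptMap_comp] at h
  exact IsLocalization.algHom_ext (W := nonZeroDivisors C) (ptMap_injective h)

/-- A constant point. -/
def cst (L : Type u) [CommRing L] [Algebra k L] (g : pt k k ⟶ G) : pt k L ⟶ G := ptMap (Algebra.ofId k L) ≫ g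

theorem cst_comp {L L' : Type u} [CommRing L] [Algebra k L] [CommRing L'] [Algebra k L'] (σ : L →ₐ[k] L')
    (g : pt k k ⟶ G) : ptMap σ ≫ cst L g = cst L' g := by
  rw [cst, cst, ← Category.assoc, ← Repr.ptMap_comp]
  congr 2
  exact AlgHom.ext fun r => σ.commutes r

variable [GrpObj G] [IsOpenImmersion jC.left] [IsDomain C] [IsFractionRing C K]

theorem cst_mul (L : Type u) [CommRing L] [Algebra k L] (g h : pt k k ⟶ G) : cst L (g * h) = cst L g * cst L h :=
  MonObj.comp_mul _ g h

variable [IsIntegral G.left]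

theorem gen_pt (s : Spec (CommRingCat.of K)) : (gen K jC).left s = genericPoint G.left := by
  haveI : IsIntegral (pt k C).left := inferInstanceAs (IsIntegral (Spec (CommRingCat.of C)))
  haveI : IsOpenImmersion jC.left := ‹_›
  haveI : Nonempty (pt k C).left := inferInstance
  rw [← genericPoint_eq_of_isOpenImmersion jC.left, gen, Over.comp_left, Scheme.Hom.comp_apply]
  congr 1
  refine ((genericPoint_spec (pt k C).left).eq ?_).symm
  have hb : ((ptMap (IsScalarTower.toAlgHom k C K)).left s : PrimeSpectrum C) = ⟨⊥, Ideal.isPrime_bot⟩ := by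
    refine PrimeSpectrum.ext ?_
    have hs : (s : PrimeSpectrum K).asIdeal = ⊥ := (Ideal.eq_bot_or_top _).resolve_right (Ideal.IsPrime.ne_top inferInstance)
    show Ideal.comap (algebraMap C K) (s : PrimeSpectrum K).asIdeal = ⊥
    rw [hs, ← RingHom.ker_eq_comap_bot, RingHom.injective_iff_ker_eq_bot _ |>.1 (IsFractionRing.injective C K)]
  rw [hb]
  show IsGenericPoint (⟨⊥, Ideal.isPrime_bot⟩ : PrimeSpectrum C) Set.univ
  rw [isGenericPoint_def, PrimeSpectrum.closure_singleton]
  exact PrimeSpectrum.zeroLocus_bot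

theorem exists_transl (g : pt k k ⟶ G) : ∃ σ : K →ₐ[k] K, ptMap σ ≫ gen K jC = cst K g * gen K jC := by
  haveI : Mono jC := by
    haveI : Mono jC.left := inferInstance
    exact Over.mono_of_mono_left jC
  let tr : G ⟶ G := (toUnit G ≫ unitIso.hom ≫ g) * 𝟙 G
  have htr : IsIso tr := by
    refine ⟨(toUnit G ≫ unitIso.hom ≫ g⁻¹) * 𝟙 G, ?_, ?_⟩ <;>
    · simp only [tr, MonObj.comp_mul, Category.comp_id, ← Category.assoc]
      rw [toUnit_unique (_ ≫ toUnit G) (toUnit G)]
      simp [GrpObj.comp_inv, ← _root_.mul_assoc]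
  have hv : gen K jC ≫ tr = cst K g * gen K jC := by
    simp only [tr, MonObj.comp_mul, Category.comp_id, cst, ← Category.assoc]
    congr 2
    exact (cancel_mono (unitIso (k := k)).inv).1 (toUnit_unique _ _)
  haveI : IsIso tr.left := inferInstanceAs (IsIso ((Over.forget _).map tr))
  have hgen : ∀ s, (cst K g * gen K jC).left s = genericPoint G.left := fun s => by
    rw [← hv, Over.comp_left, Scheme.Hom.comp_apply, gen_pt, genericPoint_eq_of_isOpenImmersion tr.left]
  obtain ⟨φ, hφ⟩ := exists_alg jC (cst K g * gen K jC) (by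
    rintro _ ⟨s, rfl⟩
    refine ⟨(ptMap (IsScalarTower.toAlgHom k C K)).left (IsLocalRing.closedPoint K), ?_⟩
    rw [hgen, ← Scheme.Hom.comp_apply, ← Over.comp_left]
    exact gen_pt jC _)
  have hinj : Function.Injective φ := by
    rw [injective_iff_map_eq_zero]
    intro c hc
    by_contra hc0
    have h1 := hgen (IsLocalRing.closedPoint K)
    rw [← hφ, ← gen_pt jC (IsLocalRing.closedPoint K), gen, Over.comp_left, Over.comp_left, Scheme.Hom.comp_apply,
      Scheme.Hom.comp_apply] at h1
    have h2 : (PrimeSpectrum.comap φ.toRingHom (IsLocalRing.closedPoint K)) =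
        PrimeSpectrum.comap (algebraMap C K) (IsLocalRing.closedPoint K) :=
      jC.left.isOpenEmbedding.injective h1
    have h3 : c ∈ (PrimeSpectrum.comap φ.toRingHom (IsLocalRing.closedPoint K)).asIdeal := by
      show φ c ∈ IsLocalRing.maximalIdeal K
      rw [hc]; exact zero_mem _
    rw [h2] at h3
    exact hc0 (IsFractionRing.injective C K (by
      have h4 : algebraMap C K c ∈ IsLocalRing.maximalIdeal K := h3
      rw [IsLocalRing.isField_iff_maximalIdeal_eq.1 (Field.toIsField K), Ideal.mem_bot] at h4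
      rw [h4, map_zero]))
  refine ⟨IsFractionRing.liftAlgHom hinj, ?_⟩
  rw [← hφ, gen, ← Category.assoc, ← Repr.ptMap_comp]
  congr 2
  exact AlgHom.ext fun c => by simp [IsFractionRing.liftAlgHom]

variable (K) in
/-- The endomorphism of the function field induced by a translation. -/
def translHom (g : pt k k ⟶ G) : K →ₐ[k] K := (exists_transl (K := K) jC g).choose

theorem translHom_spec (g : pt k k ⟶ G) : ptMap (translHom K jC g) ≫ gen K jC = cst K g * gen K jC :=
  (exists_transl (K := K) jC g).choose_spec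

theorem translHom_comp [Mono jC] (g h : pt k k ⟶ G) :
    translHom K jC (g * h) = (translHom K jC h).comp (translHom K jC g) := by
  refine gen_inj jC ?_
  rw [translHom_spec, Repr.ptMap_comp, Category.assoc, translHom_spec, MonObj.comp_mul, cst_comp, translHom_spec,
    cst_mul, _root_.mul_assoc]

theorem translHom_one [Mono jC] : translHom K jC (1 : pt k k ⟶ G) = AlgHom.id k K := by
  refine gen_inj jC ?_
  rw [translHom_spec, Repr.ptMap_id, Category.id_comp, cst, MonObj.comp_one, _root_.one_mul]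

variable (K) in
/-- The automorphism of the function field induced by a translation. -/
def transl [Mono jC] (g : pt k k ⟶ G) : K ≃ₐ[k] K :=
  AlgEquiv.ofAlgHom (translHom K jC g) (translHom K jC g⁻¹)
    (by rw [← translHom_comp, inv_mul_cancel, translHom_one])
    (by rw [← translHom_comp, mul_inv_cancel, translHom_one])

theorem transl_mul [Mono jC] (g h : pt k k ⟶ G) : transl K jC (g * h) = (transl K jC g).trans (transl K jC h) :=
  AlgEquiv.ext fun x => congr($(translHom_comp (K := K) jC g h) x)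

theorem transl_symm [Mono jC] (g : pt k k ⟶ G) : (transl K jC g).symm = transl K jC g⁻¹ :=
  AlgEquiv.ext fun x => rfl

theorem eq_one_of_transl [IsAlgClosed k] [Mono jC] [LocallyOfFiniteType G.hom] [IsSeparated G.hom] (g : pt k k ⟶ G)
    (h : transl K jC g = AlgEquiv.refl) : g = 1 := by
  have h1 : translHom K jC g = AlgHom.id k K := AlgHom.ext fun x => congr($h x)
  have h2 := translHom_spec (K := K) jC g
  rw [h1, Repr.ptMap_id, Category.id_comp] at h2
  have h3 : cst K g = cst K (1 : pt k k ⟶ G) := by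
    show _ = ptMap (Algebra.ofId k K) ≫ (1 : pt k k ⟶ G)
    rw [MonObj.comp_one]
    exact right_eq_mul.1 h2
  refine point_ext ?_
  have h4 := congrArg (fun t => t.left (IsLocalRing.closedPoint K)) h3
  simp only [cst, Over.comp_left, Scheme.Hom.comp_apply] at h4
  haveI : Subsingleton ↥(pt k k).left := inferInstanceAs (Subsingleton (PrimeSpectrum k))
  rwa [Subsingleton.elim ((ptMap (Algebra.ofId k K)).left (IsLocalRing.closedPoint K)) (IsLocalRing.closedPoint k)] at h4

variable [IsAlgClosed k] [Algebra.FiniteType k C]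

/-- A group variety with a divisor of one model having no centre on it contains a positive dimensional
affine subgroup. -/
theorem exists_affine_of_boundary [LocallyOfFiniteType G.hom] [QuasiCompact G.hom] [Mono jC]
    {B : Type u} [CommRing B] [Algebra k B] [Algebra B K] [IsScalarTower k B K] [IsDomain B] [IsFractionRing B K]
    [Algebra.FiniteType k B] {πB : B} (hπ : Prime πB)
    (hB : ¬ ∃ (O : Subalgebra k K) (w : pt k O ⟶ G), (∀ x : K, x ∈ O ↔ InO πB x) ∧ ptMap O.val ≫ w = gen K jC) :
    ∃ (H : 𝒞) (_ : GrpObj H) (j : H ⟶ G), IsMonHom j ∧ IsClosedImmersion j.left ∧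
      Smooth H.hom ∧ IsAffine H.left ∧ 0 < topologicalKrullDim ↥H.left := by
  classical
  haveI : IsSeparated G.hom := GrpSchField.isSeparated G
  haveI := GrpSchField.isDomain_tensorProduct (L := k) (A := C) (B := C)
  haveI := GrpSchField.isDomain_tensorProduct (L := k) (A := K) (B := K)
  let CC := C ⊗[k] C
  let F := FractionRing (K ⊗[k] K)
  let T := fun χ : C →ₐ[k] k => transl K jC (ptMap χ ≫ jC)
  haveI : JacobsonSpace G.left := LocallyOfFiniteType.jacobsonSpace G.hom
  have hpts : ∀ W : Set G.left, IsOpen W → W.Nonempty → W ⊆ Set.range jC.left →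
      ∃ χ : C →ₐ[k] k, (ptMap χ ≫ jC).left (IsLocalRing.closedPoint k) ∈ W := by
    intro W hW hne hsub
    obtain ⟨x, hx, hxc⟩ := nonempty_inter_closedPoints hne hW.isLocallyClosed
    obtain ⟨a, ha⟩ := exists_point hxc
    obtain ⟨χ, hχ⟩ := exists_alg jC a (by
      haveI : Subsingleton ↥(pt k k).left := inferInstanceAs (Subsingleton (PrimeSpectrum k))
      rintro _ ⟨s, rfl⟩
      rw [Subsingleton.elim s (IsLocalRing.closedPoint k), ha]
      exact hsub hx)
    exact ⟨χ, by rw [hχ, ha]; exact hx⟩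
  -- the product lands in the chart somewhere
  let inL : C →ₐ[k] CC := Algebra.TensorProduct.includeLeft
  let inR : C →ₐ[k] CC := Algebra.TensorProduct.includeRight
  let m₀ : pt k CC ⟶ G := (ptMap inL ≫ jC) * (ptMap inR ≫ jC)
  let V : Set (PrimeSpectrum CC) := m₀.left ⁻¹' Set.range jC.left
  haveI : IrreducibleSpace G.left := inferInstance
  have hU : IsOpen (Set.range jC.left) := jC.left.isOpenEmbedding.isOpen_range
  have hUne : (Set.range jC.left).Nonempty := ⟨_, (gen_pt (K := K) jC (IsLocalRing.closedPoint K)).symm ▸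
    (by rw [gen, Over.comp_left, Scheme.Hom.comp_apply]; exact ⟨_, rfl⟩ :
      (gen K jC).left (IsLocalRing.closedPoint K) ∈ Set.range jC.left)⟩
  obtain ⟨χu, -⟩ := hpts _ hU hUne subset_rfl
  let u := ptMap χu ≫ jC
  let τu : G ⟶ G := 𝟙 G * (toUnit G ≫ unitIso.hom ≫ u)
  have hsurj : Function.Surjective τu.left := by
    intro y
    refine ⟨(𝟙 G * (toUnit G ≫ unitIso.hom ≫ u⁻¹)).left y, ?_⟩
    have : (𝟙 G * (toUnit G ≫ unitIso.hom ≫ u⁻¹)) ≫ τu = 𝟙 G := by
      simp only [τu, MonObj.comp_mul, Category.comp_id, ← Category.assoc]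
      rw [toUnit_unique (_ ≫ toUnit G) (toUnit G)]
      simp [GrpObj.comp_inv, _root_.mul_assoc]
    rw [← Scheme.Hom.comp_apply, ← Over.comp_left, this]
    rfl
  obtain ⟨χ₁, hχ₁⟩ := hpts (Set.range jC.left ∩ τu.left ⁻¹' Set.range jC.left)
    (hU.inter (hU.preimage τu.left.continuous))
    (nonempty_preirreducible_inter hU (hU.preimage τu.left.continuous) hUne
      (by obtain ⟨v, hv⟩ := hUne; obtain ⟨w, rfl⟩ := hsurj v; exact ⟨w, hv⟩))
    Set.inter_subset_left
  have hVne : V.Nonempty := by
    refine ⟨(ptMap (Algebra.TensorProduct.productMap χ₁ χu)).left (IsLocalRing.closedPoint k), ?_⟩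
    show m₀.left _ ∈ Set.range jC.left
    rw [← Scheme.Hom.comp_apply, ← Over.comp_left]
    have e : ptMap (Algebra.TensorProduct.productMap χ₁ χu) ≫ m₀ = (ptMap χ₁ ≫ jC) ≫ τu := by
      simp only [m₀, τu, MonObj.comp_mul, Category.comp_id, ← Category.assoc, ← Repr.ptMap_comp, inL, inR,
        Algebra.TensorProduct.productMap_left, Algebra.TensorProduct.productMap_right]
      congr 1
      show u = _
      rw [show ((ptMap χ₁ ≫ jC) ≫ toUnit G) ≫ unitIso.hom = 𝟙 (pt k k) from
        (cancel_mono (unitIso (k := k)).inv).1 (toUnit_unique _ _), Category.id_comp]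
    rw [e, Over.comp_left, Scheme.Hom.comp_apply]
    exact hχ₁.2
  obtain ⟨x₀, hx₀⟩ := hVne
  obtain ⟨_, ⟨_, ⟨q, rfl⟩, rfl⟩, hxq, hqV⟩ := PrimeSpectrum.isBasis_basic_opens.exists_subset_of_mem_open hx₀
    (hU.preimage m₀.left.continuous)
  have hq0 : q ≠ 0 := fun h => by
    rw [h] at hxq
    exact (PrimeSpectrum.mem_basicOpen _ _).1 hxq (zero_mem _)
  let L := Localization.Away q
  let toL : CC →ₐ[k] L := IsScalarTower.toAlgHom k CC L
  obtain ⟨μq, hμq⟩ := exists_alg jC (ptMap toL ≫ m₀) (by
    rintro _ ⟨s, rfl⟩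
    rw [Over.comp_left, Scheme.Hom.comp_apply]
    refine hqV ?_
    have : (ptMap toL).left s ∈ Set.range (PrimeSpectrum.comap (algebraMap CC L)) := ⟨s, rfl⟩
    rwa [PrimeSpectrum.localization_away_comap_range L q] at this)
  -- specialisation
  have hspec : ∀ (χ : C →ₐ[k] k), ev χ q ≠ 0 → ∃ θ : L →ₐ[k] K,
      (∀ z : CC, θ (toL z) = algebraMap C K (ev χ z)) ∧ θ.comp μq = ((T χ : K →ₐ[k] K)).comp (IsScalarTower.toAlgHom k C K) := by
    intro χ hχ
    let θ₀ : CC →ₐ[k] K := (IsScalarTower.toAlgHom k C K).comp (ev χ)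
    have hne : IsUnit (θ₀ q) := isUnit_iff_ne_zero.2 fun h => hχ (IsFractionRing.injective C K (h.trans (map_zero _).symm))
    have hy : ∀ y : Submonoid.powers q, IsUnit (θ₀ y) := fun y => by
      obtain ⟨m, hm⟩ := y.2
      rw [← hm, map_pow]
      exact hne.pow m
    let θ := IsLocalization.liftAlgHom (A := k) (M := Submonoid.powers q) (S := L) (P := K) (f := θ₀) hy
    have hθ : θ.comp toL = θ₀ := AlgHom.ext fun z => by simp [θ, toL]
    refine ⟨θ, fun z => congr($hθ z), ptMap_injective ?_⟩
    rw [← cancel_mono jC, Repr.ptMap_comp, Category.assoc, hμq, ← Category.assoc, ← Repr.ptMap_comp, hθ]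
    have hR : ptMap (((T χ : K →ₐ[k] K)).comp (IsScalarTower.toAlgHom k C K)) ≫ jC = cst K (ptMap χ ≫ jC) * gen K jC := by
      rw [Repr.ptMap_comp, Category.assoc]
      exact translHom_spec jC _
    rw [hR]
    have e1 : θ₀.comp inL = (Algebra.ofId k K).comp χ := AlgHom.ext fun c => by
      show algebraMap C K (ev χ (c ⊗ₜ[k] (1 : C))) = algebraMap k K (χ c)
      simp [ev_tmul, ← IsScalarTower.algebraMap_apply k C K]
    have e2 : θ₀.comp inR = IsScalarTower.toAlgHom k C K := AlgHom.ext fun c => by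
      show algebraMap C K (ev χ ((1 : C) ⊗ₜ[k] c)) = algebraMap C K c
      simp [ev_tmul]
    simp only [m₀, MonObj.comp_mul, cst, gen, ← Category.assoc, ← Repr.ptMap_comp, e1, e2]
  -- the map to the double function field
  let jCC : CC →ₐ[k] F := (IsScalarTower.toAlgHom k (K ⊗[k] K) F).comp
    (Algebra.TensorProduct.map (IsScalarTower.toAlgHom k C K) (IsScalarTower.toAlgHom k C K))
  have hjCC : Function.Injective jCC := by
    refine (IsFractionRing.injective (K ⊗[k] K) F).comp ?_
    have hi : Function.Injective (IsScalarTower.toAlgHom k C K).toLinearMap := IsFractionRing.injective C K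
    have e : (Algebra.TensorProduct.map (IsScalarTower.toAlgHom k C K) (IsScalarTower.toAlgHom k C K)) =
        (Algebra.TensorProduct.map (IsScalarTower.toAlgHom k C K) (AlgHom.id k K)).comp
          (Algebra.TensorProduct.map (AlgHom.id k C) (IsScalarTower.toAlgHom k C K)) := by
      rw [← Algebra.TensorProduct.map_comp, AlgHom.comp_id, AlgHom.id_comp]
    rw [e]
    exact (Module.Flat.rTensor_preserves_injective_linearMap _ hi).comp
      (Module.Flat.lTensor_preserves_injective_linearMap _ hi)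
  have hqF : ∀ y : Submonoid.powers q, IsUnit (jCC y) := fun y => by
    obtain ⟨m, hm⟩ := y.2
    rw [← hm, map_pow]
    exact (isUnit_iff_ne_zero.2 fun h => hq0 (hjCC (h.trans (map_zero _).symm))).pow m
  let jL := IsLocalization.liftAlgHom (A := k) (M := Submonoid.powers q) (S := L) (P := F) (f := jCC) hqF
  have hjL : jL.comp toL = jCC := AlgHom.ext fun z => by simp [jL, toL]
  haveI : IsDomain L := IsLocalization.isDomain_of_le_nonZeroDivisors (R := CC) (M := Submonoid.powers q)
    (S := L) (powers_le_nonZeroDivisors_of_noZeroDivisors hq0)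
  have hjLinj : Function.Injective jL := IsLocalization.lift_injective_iff _ |>.2 fun x y => by
    constructor
    · intro h; exact congrArg jCC (IsLocalization.injective L (powers_le_nonZeroDivisors_of_noZeroDivisors hq0) h)
    · intro h; rw [hjCC h]
  obtain ⟨c, hc, hev⟩ := exists_coeff_of_ne_zero (k := k) (C := C) (A := C) hq0
  obtain ⟨χ₀, hχ₀⟩ := exists_pt (k := k) hc
  obtain ⟨θ, hθ₀, hθ⟩ := hspec χ₀ (hev χ₀ hχ₀)
  have hμinj : Function.Injective (jL.comp μq) := by
    refine hjLinj.comp fun x y h => ?_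
    have := congrArg θ h
    change (θ.comp μq) x = (θ.comp μq) y at this
    rw [hθ] at this
    exact IsFractionRing.injective C K ((T χ₀).injective this)
  let μK : K →ₐ[k] F := IsFractionRing.liftAlgHom hμinj
  have hμC : μK.comp (IsScalarTower.toAlgHom k C K) = jL.comp μq :=
    AlgHom.ext fun c => by simp [μK, IsFractionRing.liftAlgHom]
  let aK : K →ₐ[k] F := (IsScalarTower.toAlgHom k (K ⊗[k] K) F).comp Algebra.TensorProduct.includeLeft
  let bK : K →ₐ[k] F := (IsScalarTower.toAlgHom k (K ⊗[k] K) F).comp Algebra.TensorProduct.includeRight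
  have hm : ptMap μK ≫ gen K jC = (ptMap aK ≫ gen K jC) * (ptMap bK ≫ gen K jC) := by
    rw [gen, ← Category.assoc, ← Repr.ptMap_comp, hμC, Repr.ptMap_comp, Category.assoc, hμq, ← Category.assoc,
      ← Repr.ptMap_comp, hjL]
    simp only [m₀, MonObj.comp_mul, ← Category.assoc, ← Repr.ptMap_comp]
    congr 3
    · refine AlgHom.ext fun c => ?_
      show algebraMap (K ⊗[k] K) F (algebraMap C K c ⊗ₜ[k] algebraMap C K 1) = algebraMap (K ⊗[k] K) F (algebraMap C K c ⊗ₜ[k] (1 : K))
      rw [map_one]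
    · refine AlgHom.ext fun c => ?_
      show algebraMap (K ⊗[k] K) F (algebraMap C K 1 ⊗ₜ[k] algebraMap C K c) = algebraMap (K ⊗[k] K) F ((1 : K) ⊗ₜ[k] algebraMap C K c)
      rw [map_one]
  have hlam : ∀ g, (lam F (transl K jC g)).comp μK = μK.comp (transl K jC g).toAlgHom := by
    intro g
    refine gen_inj jC ?_
    have h1 : (lam F (transl K jC g)).comp aK = aK.comp (translHom K jC g) := AlgHom.ext fun x => by
      simp only [aK, AlgHom.comp_apply, IsScalarTower.toAlgHom_apply]
      rw [lam_algebraMap]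
      rfl
    have h2 : (lam F (transl K jC g)).comp bK = bK := AlgHom.ext fun x => by
      simp only [bK, AlgHom.comp_apply, IsScalarTower.toAlgHom_apply]
      rw [lam_algebraMap]
      simp
    have h3 : ptMap (μK.comp (transl K jC g).toAlgHom) ≫ gen K jC =
        ptMap μK ≫ ptMap (translHom K jC g) ≫ gen K jC := by
      rw [← Category.assoc, ← Repr.ptMap_comp]
      rfl
    rw [Repr.ptMap_comp, Category.assoc, hm, MonObj.comp_mul, ← Category.assoc, ← Category.assoc, ← Repr.ptMap_comp,
      ← Repr.ptMap_comp, h1, h2, Repr.ptMap_comp, Category.assoc, translHom_spec, MonObj.comp_mul, cst_comp,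
      h3, translHom_spec, MonObj.comp_mul, cst_comp, hm, _root_.mul_assoc]
  -- the divisor is not fixed
  have hne : ∃ f : K, ¬ InW (k := k) (K := K) πB (μK f) := by
    by_contra hall
    push_neg at hall
    haveI : IsDomain (K ⊗[k] (B ⧸ Ideal.span {πB})) := by
      haveI : (Ideal.span {πB}).IsPrime := (Ideal.span_singleton_prime hπ.ne_zero).2 hπ
      exact GrpSchField.isDomain_tensorProduct
    let W := subW (k := k) K F hπ
    let μ' : K →ₐ[k] W := μK.codRestrict W hall
    have haW : ∀ x : K, aK x ∈ W := fun x => ⟨x ⊗ₜ[k] (1 : B), 1, fun h => (prime_tmul' hπ).not_unit (isUnit_of_dvd_one h),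
      by rw [map_one, _root_.mul_one]; simp [aK, jB]⟩
    let a' : K →ₐ[k] W := aK.codRestrict W haW
    let b' : pt k W ⟶ G := (ptMap a' ≫ gen K jC)⁻¹ * (ptMap μ' ≫ gen K jC)
    have hb' : ptMap W.val ≫ b' = ptMap bK ≫ gen K jC := by
      simp only [b', MonObj.comp_mul, GrpObj.comp_inv, ← Category.assoc, ← Repr.ptMap_comp]
      rw [show W.val.comp a' = aK from AlgHom.ext fun _ => rfl,
        show W.val.comp μ' = μK from AlgHom.ext fun _ => rfl, hm, inv_mul_cancel_left]
    haveI hP : (RingHom.ker (resW (k := k) (K := K) (F := F) hπ)).IsPrime := RingHom.ker_isPrime _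
    let P₀ : PrimeSpectrum W := ⟨RingHom.ker (resW (k := k) (K := K) (F := F) hπ), hP⟩
    obtain ⟨_, ⟨U', hU', rfl⟩, hxU', -⟩ := G.left.isBasis_affineOpens.exists_subset_of_mem_open
      (Set.mem_univ (b'.left P₀)) isOpen_univ
    let C' := Γ(G.left, U')
    letI : Algebra k C' := ((Scheme.ΓSpecIso (CommRingCat.of k)).inv ≫ G.hom.appLE ⊤ U' le_top).hom.toAlgebra
    let jC' : pt k C' ⟶ G := Over.homMk hU'.fromSpec (by
      show hU'.fromSpec ≫ G.hom = Spec.map (CommRingCat.ofHom (algebraMap k C'))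
      exact fromSpec_comp_eq hU')
    haveI : IsOpenImmersion jC'.left := inferInstanceAs (IsOpenImmersion hU'.fromSpec)
    haveI : Mono jC' := Over.mono_of_mono_left jC'
    have hrange : Set.range jC'.left = (U' : Set G.left) := hU'.range_fromSpec
    have hunit : ∀ h : W, h ∉ RingHom.ker (resW (k := k) (K := K) (F := F) hπ) → IsUnit h := by
      intro h hh
      obtain ⟨P, Q, hQ, hPQ⟩ := h.2
      have hs := resW_spec hπ h hQ hPQ
      have hP' : ¬ (1 : K) ⊗ₜ[k] πB ∣ P := by
        intro hd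
        rw [(barW_eq_zero_iff P).2 hd, mul_eq_zero] at hs
        exact hs.elim hh (fun h0 => hQ ((barW_eq_zero_iff Q).1 h0))
      have hh0 : (h : F) ≠ 0 := fun e => hh (by
        rw [show h = 0 from Subtype.ext e]; exact zero_mem _)
      refine IsUnit.of_mul_eq_one ⟨(h : F)⁻¹, Q, P, hP', ?_⟩ (Subtype.ext (mul_inv_cancel₀ hh0))
      rw [inv_mul_eq_iff_eq_mul₀ hh0]
      exact hPQ.symm
    obtain ⟨φ', hφ'⟩ := exists_alg jC' b' (by
      rintro _ ⟨s, rfl⟩
      rw [hrange]
      obtain ⟨_, ⟨_, ⟨h, rfl⟩, rfl⟩, hsh, hhsub⟩ := PrimeSpectrum.isBasis_basic_opens.exists_subset_of_mem_open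
        (show P₀ ∈ b'.left ⁻¹' (U' : Set G.left) from hxU') (U'.2.preimage b'.left.continuous)
      have hsU : (s : PrimeSpectrum W) ∈ PrimeSpectrum.basicOpen h := fun hm' =>
        (s : PrimeSpectrum W).isPrime.ne_top (Ideal.eq_top_of_isUnit_mem _ hm' (hunit h hsh))
      exact hhsub hsU)
    obtain ⟨φK, hφK⟩ := exists_alg jC' (gen K jC) (by
      rintro _ ⟨s, rfl⟩
      rw [hrange, gen_pt]
      exact ((genericPoint_spec G.left).mem_open_set_iff U'.2).2 (by simpa using ⟨_, hxU'⟩))
    have hcomp : W.val.comp φ' = bK.comp φK := by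
      refine ptMap_injective ?_
      rw [← cancel_mono jC', Repr.ptMap_comp, Category.assoc, hφ', hb', ← hφK, ← Category.assoc, ← Repr.ptMap_comp]
    have hO : ∀ c, InO πB (φK c) := by
      intro c
      have hmem : InW (k := k) (K := K) πB (bK (φK c)) := by
        rw [show bK (φK c) = W.val (φ' c) from (congr($hcomp c)).symm]
        exact (φ' c).2
      exact inO_of_inW hπ hmem
    let O : Subalgebra k K := inOSub hπ
    refine hB ⟨O, ptMap (φK.codRestrict O hO) ≫ jC', fun x => Iff.rfl, ?_⟩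
    rw [← Category.assoc, ← Repr.ptMap_comp, ← hφK]
    rfl
  obtain ⟨A, π, _, _, hprime, hdim, hinv⟩ := exists_invariant_model (F := F) hπ μK (fun g => transl K jC g) hlam
    (fun g => ⟨g⁻¹, (transl_symm jC g).symm⟩) hne
  have hdimC : ringKrullDim C = ringKrullDim A := by
    rw [hdim]
    obtain ⟨a, ha, hda⟩ := Dim.exists_nat_trdeg_eq_and_ringKrullDim_eq k C
    obtain ⟨b, hb, hdb⟩ := Dim.exists_nat_trdeg_eq_and_ringKrullDim_eq k B
    have := (trdeg_frac (k := k) (A := C) (K := K)).symm.trans (trdeg_frac (A := B))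
    rw [ha, hb] at this
    rw [hda, hdb, show a = b from Nat.cast_injective this]
  refine exists_affine_of_fam (π := π) jC (fun g => transl K jC g) (transl_mul jC) (eq_one_of_transl jC) ?_ hdimC
  haveI := GrpSchField.isDomain_tensorProduct (L := k) (A := C) (B := A)
  refine ⟨hprime, fun f => ?_, fun χ x => hinv _ x, fun c hc => ?_⟩
  · -- presentations
    obtain ⟨f₁, f₂, hf₂, rfl⟩ := IsFractionRing.div_surjective C f
    obtain ⟨⟨P₁, ⟨_, i, rfl⟩⟩, h₁⟩ := IsLocalization.surj (Submonoid.powers q) (μq f₁)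
    obtain ⟨⟨P₂, ⟨_, j, rfl⟩⟩, h₂⟩ := IsLocalization.surj (Submonoid.powers q) (μq f₂)
    have htr : ∀ z : CC, ∃ (y : C ⊗[k] A) (a : A), a ≠ 0 ∧
        ∀ χ : C →ₐ[k] k, algebraMap C K (ev χ z) * algebraMap A K a = algebraMap A K (ev χ y) := by
      intro z
      induction z using TensorProduct.induction_on with
      | zero => exact ⟨0, 1, one_ne_zero, fun χ => by simp⟩
      | tmul s t =>
        obtain ⟨a₁, a₂, ha₂, h⟩ := IsFractionRing.div_surjective A (algebraMap C K t)
        refine ⟨s ⊗ₜ[k] a₁, a₂, nonZeroDivisors.ne_zero ha₂, fun χ => ?_⟩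
        simp only [ev_tmul, map_mul, ← IsScalarTower.algebraMap_apply k C K, ← IsScalarTower.algebraMap_apply k A K]
        rw [← h, _root_.mul_assoc, div_mul_cancel₀ _ (IsFractionRing.to_map_ne_zero_of_mem_nonZeroDivisors ha₂)]
      | add s t hs ht =>
        obtain ⟨y, a, ha, h⟩ := hs
        obtain ⟨y', a', ha', h'⟩ := ht
        refine ⟨y * ((1 : C) ⊗ₜ[k] a') + y' * ((1 : C) ⊗ₜ[k] a), a * a', mul_ne_zero ha ha', fun χ => ?_⟩
        simp only [map_add, map_mul, ev_tmul, map_one, _root_.one_mul]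
        linear_combination (algebraMap A K a') * h χ + (algebraMap A K a) * h' χ
    have hμq0 : μq f₂ ≠ 0 := fun h => by
      have := hμinj (show jL.comp μq f₂ = jL.comp μq 0 by simp [h])
      exact nonZeroDivisors.ne_zero hf₂ this
    have hP₂ : P₂ ≠ 0 := by
      rintro rfl
      rw [map_zero, mul_eq_zero] at h₂
      exact h₂.elim hμq0 (fun h => pow_ne_zero j hq0
        (IsLocalization.injective L (powers_le_nonZeroDivisors_of_noZeroDivisors hq0) (h.trans (map_zero _).symm)))
    obtain ⟨yP, aP, haP, hyP⟩ := htr (P₁ * q ^ j * q)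
    obtain ⟨yQ, aQ, haQ, hyQ⟩ := htr (P₂ * q ^ i * q)
    have hz0 : P₂ * q ^ i * q ≠ 0 := mul_ne_zero (mul_ne_zero hP₂ (pow_ne_zero i hq0)) hq0
    refine ⟨yP * ((1 : C) ⊗ₜ[k] aQ) * 1, yQ * ((1 : C) ⊗ₜ[k] aP), ?_, fun χ hχ => ?_⟩
    · intro h0
      obtain ⟨c', hc', hev'⟩ := exists_coeff_of_ne_zero (k := k) hz0
      obtain ⟨χ', hχ'⟩ := exists_pt (k := k) hc'
      have h3 := hev' χ' hχ'
      have h4 := congrArg (fun w => algebraMap A K (ev χ' w)) h0
      simp only [map_mul, ev_tmul, map_one, _root_.one_mul, map_zero, ← hyQ χ'] at h4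
      have hCne : algebraMap C K (ev χ' (P₂ * q ^ i * q)) ≠ 0 := fun h => h3
        (IsFractionRing.injective C K (h.trans (map_zero _).symm))
      simp only [map_mul] at hCne
      have hA : ∀ a : A, a ≠ 0 → algebraMap A K a ≠ 0 := fun a ha h => ha
        (IsFractionRing.injective A K (h.trans (map_zero _).symm))
      exact mul_ne_zero (mul_ne_zero hCne (hA aQ haQ)) (hA aP haP) h4
    · simp only [map_mul, ev_tmul, map_one, _root_.one_mul, _root_.mul_one, pow_one] at hχ ⊢
      have hyQ' := hyQ χ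
      have hyP' := hyP χ
      simp only [map_mul, map_pow] at hyQ' hyP'
      have hqχ : ev χ q ≠ 0 := fun h => hχ (by
        have : algebraMap A K (ev χ yQ) = 0 := by rw [← hyQ', h, map_zero, mul_zero, zero_mul]
        rw [IsFractionRing.injective A K (this.trans (map_zero _).symm), zero_mul])
      obtain ⟨θ', hθ1, hθ2⟩ := hspec χ hqχ
      have e₁ := congrArg θ' h₁
      have e₂ := congrArg θ' h₂
      simp only [map_mul, map_pow] at e₁ e₂
      have hev₁ : θ' (μq f₁) = T χ (algebraMap C K f₁) := congr($hθ2 f₁)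
      have hev₂ : θ' (μq f₂) = T χ (algebraMap C K f₂) := congr($hθ2 f₂)
      rw [hev₁, show θ' (algebraMap CC L q) = algebraMap C K (ev χ q) from hθ1 q,
        show θ' (algebraMap CC L P₁) = algebraMap C K (ev χ P₁) from hθ1 P₁] at e₁
      rw [hev₂, show θ' (algebraMap CC L q) = algebraMap C K (ev χ q) from hθ1 q,
        show θ' (algebraMap CC L P₂) = algebraMap C K (ev χ P₂) from hθ1 P₂] at e₂
      have hT2 : T χ (algebraMap C K f₂) ≠ 0 := by
        simp [nonZeroDivisors.ne_zero hf₂, IsFractionRing.to_map_ne_zero_of_mem_nonZeroDivisors hf₂]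
      show T χ (algebraMap C K f₁ / algebraMap C K f₂) * _ = _
      rw [map_div₀, div_mul_eq_mul_div, div_eq_iff hT2, ← hyP', ← hyQ', ← e₁, ← e₂]
      ring
  · -- translations by a point and by its inverse
    haveI : IsIso (ι[G] : G ⟶ G).left := by
      haveI : IsIso (ι[G] : G ⟶ G) := inferInstance
      exact inferInstanceAs (IsIso ((Over.forget _).map ι[G]))
    let Dc : Set G.left := jC.left '' (PrimeSpectrum.basicOpen c : Set (PrimeSpectrum C))
    have hDc : IsOpen Dc := jC.left.isOpenEmbedding.isOpenMap _ (PrimeSpectrum.basicOpen c).2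
    have hDne : Dc.Nonempty := by
      obtain ⟨χ, hχ⟩ := exists_pt (k := k) hc
      exact ⟨_, ⟨(ptMap χ).left (IsLocalRing.closedPoint k), fun h => hχ (by
        have h' : χ c ∈ IsLocalRing.maximalIdeal k := h
        rwa [IsLocalRing.isField_iff_maximalIdeal_eq.1 (Field.toIsField k), Ideal.mem_bot] at h'), rfl⟩⟩
    have hinv' : ((ι[G] : G ⟶ G).left ⁻¹' Dc).Nonempty := by
      obtain ⟨v, hv⟩ := hDne
      obtain ⟨w, rfl⟩ := (ι[G] : G ⟶ G).left.homeomorph.surjective v
      exact ⟨w, hv⟩
    obtain ⟨χ, hχ, hχ'⟩ := hpts (Dc ∩ (ι[G] : G ⟶ G).left ⁻¹' Dc) (hDc.inter (hDc.preimage (Scheme.Hom.continuous _)))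
      (nonempty_preirreducible_inter hDc (hDc.preimage (Scheme.Hom.continuous _)) hDne hinv')
      (Set.inter_subset_left.trans (Set.image_subset_range _ _))
    have hval : ∀ ψ : C →ₐ[k] k, (ptMap ψ ≫ jC).left (IsLocalRing.closedPoint k) ∈ Dc → ψ c ≠ 0 := by
      rintro ψ ⟨z, hz, hzz⟩ h0
      rw [Over.comp_left, Scheme.Hom.comp_apply] at hzz
      rw [jC.left.isOpenEmbedding.injective hzz] at hz
      refine hz ?_
      show ψ c ∈ IsLocalRing.maximalIdeal k
      rw [h0]; exact zero_mem _
    obtain ⟨χ', hχ'e⟩ := exists_alg jC (ptMap χ ≫ jC)⁻¹ (by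
      haveI : Subsingleton ↥(pt k k).left := inferInstanceAs (Subsingleton (PrimeSpectrum k))
      rintro _ ⟨s, rfl⟩
      rw [Subsingleton.elim s (IsLocalRing.closedPoint k), Hom.inv_def, Over.comp_left, Scheme.Hom.comp_apply]
      exact Set.image_subset_range _ _ hχ')
    refine ⟨χ, χ', hval χ hχ, hval χ' ?_, ?_⟩
    · rw [hχ'e, Hom.inv_def, Over.comp_left, Scheme.Hom.comp_apply]; exact hχ'
    · show transl K jC (ptMap χ' ≫ jC) = _
      rw [hχ'e, ← transl_symm]

end GrothLib.Chev24
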