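import Groth.Agent.Lib.Chev24.UnipDim
import Groth.Agent.Lib.Flag27.BorelTori

/-!
# Solvable subgroups and extensions of algebraically closed fields
-/

set_option autoImplicit false
set_option linter.all false
set_option backward.isDefEq.respectTransparency false
set_option maxHeartbeats 1000000
set_option synthInstance.maxHeartbeats 200000

universe u

open CategoryTheory CategoryTheory.Limits MonoidalCategory CartesianMonoidalCategory MonObj GrpObj
open AlgebraicGeometry Topology

noncomputable section

namespace GrothLib.Chev24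

attribute [-instance] Hom.commGroup Hom.commMonoid CommGrpObj.toIsCommMonObj

variable {k : Type u} [Field k] [IsAlgClosed k] {F : Type u} [Field F] [IsAlgClosed F]
variable (f : Spec (CommRingCat.of F) ⟶ Spec (CommRingCat.of k))

/-- Connected smooth groups over the big field land in the reduced neutral component. -/
theorem exists_lift_redNeutral_bc {G : Over (Spec (CommRingCat.of k))} [GrpObj G] [LocallyOfFiniteType G.hom]
    [QuasiCompact G.hom] :
    ∃ (H : Over (Spec (CommRingCat.of k))) (_ : GrpObj H) (j : H ⟶ G) (_ : IsMonHom j) (_ : IsClosedImmersion j.left)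
      (_ : Smooth H.hom) (_ : QuasiCompact H.hom) (_ : ConnectedSpace H.left),
      ∀ (U : Over (Spec (CommRingCat.of F))) [GrpObj U] (u : U ⟶ Red.bc f G) [IsMonHom u] [IsClosedImmersion u.left]
        [Smooth U.hom] [ConnectedSpace U.left],
        ∃ (uH : U ⟶ Red.bc f H) (_ : IsMonHom uH) (_ : IsClosedImmersion uH.left), uH ≫ (Over.pullback f).map j = u := by
  haveI : IsSeparated G.hom := GrpSchField.isSeparated G
  obtain ⟨H, _, j, hj, hjc, hHs, hHc, -, hHfac⟩ := exists_redNeutral G
  haveI := hj; haveI := hjc; haveI := hHs; haveI := hHc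
  haveI : QuasiCompact H.hom := by rw [← Over.w j]; infer_instance
  haveI : IsClosedImmersion ((Over.pullback f).map j).left := GrothLib.Flag27.property_map f j hjc
  haveI : Mono ((Over.pullback f).map j) := Over.mono_of_mono_left _
  refine ⟨H, inferInstance, j, hj, hjc, hHs, inferInstance, hHc, fun U _ u _ _ _ _ => ?_⟩
  haveI : IsReduced U.left := GrothLib.RedSmooth.isReduced_of_smooth U.hom
  let x : (Over.map f).obj U ⟶ G :=
    Over.homMk (u.left ≫ pullback.fst G.hom f) (by
      show (u.left ≫ pullback.fst G.hom f) ≫ G.hom = U.hom ≫ f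
      rw [Category.assoc, pullback.condition, ← Over.w u, Category.assoc]; rfl)
  obtain ⟨x', hx'⟩ := hHfac ((Over.map f).obj U) x ‹IsReduced U.left› ‹ConnectedSpace U.left› (by
    refine ⟨η[U].left (IsLocalRing.closedPoint F), ?_⟩
    show (u.left ≫ pullback.fst G.hom f) (η[U].left (IsLocalRing.closedPoint F)) = _
    rw [← Scheme.Hom.comp_apply, ← Category.assoc, ← Over.comp_left, IsMonHom.one_hom]
    have e : (η[Red.bc f G]).left ≫ pullback.fst G.hom f = f ≫ η[G].left := by
      simp [Functor.obj.η_def, Over.pullback_map_left]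
    rw [e, Scheme.Hom.comp_apply]
    exact congrArg _ (Subsingleton.elim (α := PrimeSpectrum k) _ _))
  let uH : U ⟶ Red.bc f H := Over.homMk (pullback.lift x'.left U.hom (Over.w x')) (pullback.lift_snd _ _ _)
  have huH : uH ≫ (Over.pullback f).map j = u := by
    apply Over.OverMorphism.ext
    refine pullback.hom_ext ?_ ((Over.w _).trans (Over.w _).symm)
    have e2 : x'.left ≫ j.left = u.left ≫ pullback.fst G.hom f := congrArg Over.Hom.left hx'
    simp [uH, Over.pullback_map_left, e2]
  haveI : IsMonHom (uH ≫ (Over.pullback f).map j) := by rw [huH]; infer_instance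
  haveI : IsMonHom uH := GrothLib.CentMT14.isMonHom_of_comp uH ((Over.pullback f).map j)
  haveI : IsClosedImmersion (uH.left ≫ ((Over.pullback f).map j).left) := by
    rw [← Over.comp_left, huH]; infer_instance
  exact ⟨uH, inferInstance, IsClosedImmersion.of_comp uH.left ((Over.pullback f).map j).left, huH⟩

/-- A solvable subgroup over the big field is conjugate into a Borel subgroup defined over the small one. -/
theorem exists_borel_bc {G : Over (Spec (CommRingCat.of k))} [GrpObj G] [Smooth G.hom] [QuasiCompact G.hom]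
    [ConnectedSpace G.left] :
    ∃ (B : Over (Spec (CommRingCat.of k))) (_ : GrpObj B) (b : B ⟶ G) (_ : Red.IsBorelOver k b),
      ∀ (U : Over (Spec (CommRingCat.of F))) [GrpObj U] (u : U ⟶ Red.bc f G) [IsMonHom u] [IsClosedImmersion u.left]
        [Smooth U.hom] [ConnectedSpace U.left], Red.IsSolvableGrp U →
        ∃ φ : U ⟶ Red.bc f B, IsClosedImmersion φ.left := by
  haveI : LocallyOfFiniteType G.hom := inferInstance
  obtain ⟨H, _, _, _, _, ρ, hρ, hρs, hρsur, N, _, hNs, hNq, hNc, i, hi, hic, hker, hcen⟩ :=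
    GrothLib.Flag27.exists_affine_part (G := G)
  obtain ⟨B₀, _, iB₀, hB₀, hU₀⟩ := GrothLib.Flag27.exists_borel (G := H)
  obtain ⟨hiB₀, hiB₀c, hB₀s, hB₀c, hB₀solv, -⟩ := id hB₀
  haveI := hiB₀; haveI := hiB₀c; haveI := hB₀s; haveI := hB₀c
  obtain ⟨X, a, o, hX, hXp⟩ := GrothLib.Flag27.isProper_quotient_good hU₀
  haveI := hXp
  obtain ⟨B, _, b, π, hB, sq⟩ := GrothLib.Flag27.exists_borel_preimage ρ i hker hcen hB₀
  obtain ⟨hbm, hbc, -, -, -, -⟩ := id hB
  haveI := hbm; haveI := hbc
  refine ⟨B, inferInstance, b, hB, fun U _ u _ _ _ _ hUsolv => ?_⟩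
  haveI : IsProper (Red.bc f X).hom := MorphismProperty.pullback_snd (P := @IsProper) X.hom f ‹_›
  haveI := GrothLib.Flag27.isAffine_bc f H
  haveI := GrothLib.Flag27.smooth_bc f H
  haveI := GrothLib.Flag27.smooth_bc f G
  haveI := GrothLib.Flag27.connectedSpace_bc f H
  haveI : Surjective ((Over.pullback f).map ρ).left := GrothLib.Flag27.property_map f ρ hρsur
  haveI : IsClosedImmersion ((Over.pullback f).map b).left := GrothLib.Flag27.property_map f b hbc
  haveI : Mono ((Over.pullback f).map b) := Over.mono_of_mono_left _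
  haveI : LocallyOfFiniteType (Red.bc f G).hom := inferInstance
  haveI : IsSeparated (Red.bc f G).hom := GrpSchField.isSeparated _
  haveI : IsSeparated U.hom := GrpSchField.isSeparated U
  haveI : QuasiCompact U.hom := by
    haveI : QuasiCompact (Red.bc f G).hom := MorphismProperty.pullback_snd (P := @QuasiCompact) G.hom f ‹_›
    rw [← Over.w u]; infer_instance
  let v := u ≫ (Over.pullback f).map ρ
  haveI : QuasiCompact v.left := by
    haveI : QuasiCompact (v.left ≫ (Red.bc f H).hom) := by rw [Over.w v]; infer_instance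
    exact QuasiCompact.of_comp v.left (Red.bc f H).hom
  obtain ⟨M, _, jM, hjM, hjMc, q, hq, hqd, hqq⟩ := GrothLib.AntiAffine.exists_image_subgroup v
  haveI := hjM; haveI := hjMc
  haveI : Mono jM := Over.mono_of_mono_left jM
  haveI : IsMonHom (q ≫ jM) := by rw [hq]; infer_instance
  haveI : IsMonHom q := GrothLib.CentMT14.isMonHom_of_comp q jM
  haveI : IsAffine M.left := isAffine_of_isAffineHom jM.left
  haveI : LocallyOfFiniteType M.hom := by rw [← Over.w jM]; infer_instance
  haveI : IsReduced U.left := GrothLib.RedSmooth.isReduced_of_smooth U.hom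
  haveI : LocallyOfFiniteType U.hom := inferInstance
  have hqs : Surjective q.left :=
    (GrothLib.AffHull14.flat_surjective_of_dominant q (q.left.app_injective ⊤)).2
  haveI : IsReduced M.left := IsSchemeTheoreticallyDominant.isReduced q.left
  haveI : Smooth M.hom := GrothLib.Flag27.smooth_of_reduced_grp M
  haveI : ConnectedSpace M.left := q.left.surjective.connectedSpace q.left.continuous
  obtain ⟨g, φ₀, hφ₀⟩ := GrothLib.Flag27.exists_conj_into (a.bc f) (GrothLib.Flag27.bcPt f o)
    (GrothLib.Flag27.isQuotient_bc f a o hX) jM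
    (GrothLib.Flag27.isSolvable_of_surjective q (GrothLib.Flag27.isSolvable_points hUsolv))
  haveI : LocallyOfFiniteType (Red.bc f H).hom := inferInstance
  obtain ⟨g', -, hg'⟩ := GrothLib.Flag27.exists_cl_lift ((Over.pullback f).map ρ) (E := Set.univ)
    isClosed_univ.isLocallyClosed (w := g)
    (by rw [Set.image_univ, Set.range_eq_univ.2 ‹Surjective ((Over.pullback f).map ρ).left›.surj]; exact Set.mem_univ _)
  have w : AGF.conjBy g' u ≫ (Over.pullback f).map ρ = (q ≫ φ₀) ≫ (Over.pullback f).map iB₀ := by
    rw [Category.assoc, hφ₀, GrothLib.Flag27.comp_conjBy', hq]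
    simp only [AGF.conjBy, MonObj.mul_comp, GrpObj.inv_comp, Category.assoc, hg', v]
  haveI : (Over.pullback f).IsRightAdjoint := (Over.mapPullbackAdj _).isRightAdjoint
  haveI : PreservesLimit (cospan ρ iB₀) (Over.pullback f) :=
    ((Over.mapPullbackAdj f).rightAdjoint_preservesLimits.preservesLimitsOfShape).preservesLimit
  have sqF := IsPullback.map (Over.pullback f) sq
  refine ⟨sqF.lift (AGF.conjBy g' u) (q ≫ φ₀) w, ?_⟩
  haveI : IsClosedImmersion ((sqF.lift (AGF.conjBy g' u) (q ≫ φ₀) w).left ≫ ((Over.pullback f).map b).left) := by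
    rw [← Over.comp_left, sqF.lift_fst]; exact GrothLib.Flag27.isClosedImmersion_conjBy g' u
  exact IsClosedImmersion.of_comp _ ((Over.pullback f).map b).left

/-- Solvable subgroups over the big field are no larger than those over the small one. -/
theorem exists_solv_sub_dim [Algebra k F] {G : Over (Spec (CommRingCat.of k))} [GrpObj G] [LocallyOfFiniteType G.hom]
    [QuasiCompact G.hom] {U : Over (Spec (CommRingCat.of F))} [GrpObj U]
    (u : U ⟶ Red.bc (Spec.map (CommRingCat.ofHom (algebraMap k F))) G) [IsMonHom u] [IsClosedImmersion u.left]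
    [Smooth U.hom] [ConnectedSpace U.left] (hU : Red.IsSolvableGrp U) :
    ∃ (V : Over (Spec (CommRingCat.of k))) (_ : GrpObj V) (v : V ⟶ G), IsMonHom v ∧ IsClosedImmersion v.left ∧
      Smooth V.hom ∧ ConnectedSpace V.left ∧ Red.IsSolvableGrp V ∧
      topologicalKrullDim ↥U.left ≤ topologicalKrullDim ↥V.left := by
  obtain ⟨H, _, j, hj, hjc, hHs, hHq, hHc, hlift⟩ :=
    exists_lift_redNeutral_bc (Spec.map (CommRingCat.ofHom (algebraMap k F))) (G := G)
  haveI := hj; haveI := hjc; haveI := hHs; haveI := hHq; haveI := hHc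
  obtain ⟨uH, huHm, huHc, -⟩ := hlift U u
  haveI := huHm; haveI := huHc
  obtain ⟨B, _, b, hB, hconj⟩ := exists_borel_bc (Spec.map (CommRingCat.ofHom (algebraMap k F))) (G := H)
  obtain ⟨hbm, hbc, hbs, hbk, hbsolv, -⟩ := hB
  haveI := hbm; haveI := hbc; haveI := hbs; haveI := hbk
  obtain ⟨φ, hφ⟩ := hconj U uH hU
  exact ⟨B, inferInstance, b ≫ j, inferInstance, inferInstanceAs (IsClosedImmersion (b.left ≫ j.left)), hbs, hbk, hbsolv,
    φ.left.isEmbedding.topologicalKrullDim_le.trans (le_of_eq (dim_bc B))⟩

/-- Solvable subgroups survive base change. -/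
theorem exists_solv_sub_bc [Algebra k F] {G U : Over (Spec (CommRingCat.of k))} [GrpObj G] [GrpObj U] (u : U ⟶ G)
    [IsMonHom u] [IsClosedImmersion u.left] [Smooth U.hom] [ConnectedSpace U.left] (hU : Red.IsSolvableGrp U) :
    ∃ (V : Over (Spec (CommRingCat.of F))) (_ : GrpObj V)
      (v : V ⟶ Red.bc (Spec.map (CommRingCat.ofHom (algebraMap k F))) G), IsMonHom v ∧ IsClosedImmersion v.left ∧
      Smooth V.hom ∧ ConnectedSpace V.left ∧ Red.IsSolvableGrp V ∧
      topologicalKrullDim ↥V.left = topologicalKrullDim ↥U.left := by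
  let f := Spec.map (CommRingCat.ofHom (algebraMap k F))
  exact ⟨Red.bc f U, inferInstance, (Over.pullback f).map u, inferInstance,
    GrothLib.Flag27.property_map f u ‹IsClosedImmersion u.left›, GrothLib.Flag27.smooth_bc f U,
    GrothLib.Flag27.connectedSpace_bc f U, GrothLib.UnipFix19.isSolvableGrp_bc f hU, dim_bc U⟩

end GrothLib.Chev24
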