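import Groth.Agent.Lib.Chev24.AffPart
import Groth.Agent.Lib.SplitTors24.Point
import Groth.Agent.Lib.ExtTors24.Basic
import Groth.Agent.Lib.UnipFix19.LastDerived
import Groth.Agent.Lib.Flag27.NormalizerBC
import Groth.Agent.Lib.Flag27.BorelUnion
import Groth.Agent.Lib.Flag27.More
import Groth.Agent.Lib.AntMax16.Main
import Groth.Agent.Lib.QuotTorus14.Basic

/-!
# Torsors under connected solvable linear groups; local sections of the Albanese morphism
-/

set_option autoImplicit false
set_option linter.all false
set_option backward.isDefEq.respectTransparency false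
set_option maxHeartbeats 1000000
set_option synthInstance.maxHeartbeats 200000

universe u

open CategoryTheory CategoryTheory.Limits MonoidalCategory CartesianMonoidalCategory MonObj GrpObj
open AlgebraicGeometry GrothLib.SplitTors24

noncomputable section

namespace GrothLib.Chev24

variable {k : Type u} [Field k] [IsAlgClosed k]

/-- A quotient of a solvable smooth group is solvable. -/
theorem isSolvableGrp_quot {B Q : Over (Spec (CommRingCat.of k))} [GrpObj B] [GrpObj Q] [LocallyOfFiniteType B.hom]
    [Smooth Q.hom] (q : B ⟶ Q) [IsMonHom q] [Surjective q.left] (h : Red.IsSolvableGrp B) : Red.IsSolvableGrp Q := by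
  haveI : IsSeparated Q.hom := GrpSchField.isSeparated Q
  exact GrothLib.Flag27.isSolvableGrp_of_points
    (GrothLib.Flag27.isSolvable_of_surjective q (GrothLib.Flag27.isSolvable_points h))

/-- Torsors under connected solvable linear groups over a field extension have rational points. -/
theorem hasPoints_solvable {K : Type u} [Field K] (σ : Spec (CommRingCat.of K) ⟶ Spec (CommRingCat.of k)) :
    ∀ (n : ℕ) (B : Over (Spec (CommRingCat.of k))) [GrpObj B] [Smooth B.hom] [ConnectedSpace B.left] [IsAffine B.left],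
      Red.IsSolvableGrp B → topologicalKrullDim B.left ≤ (n : WithBot ℕ∞) → HasPoints (Red.bc σ B) := by
  intro n
  induction n using Nat.strong_induction_on with
  | _ n ih =>
    intro B _ _ _ _ hsolv hdim
    by_cases hB : Red.IsTrivialGrp B
    · haveI : IsIso B.hom := hB
      haveI : IsIso (Red.bc σ B).hom :=
        MorphismProperty.pullback_snd (P := MorphismProperty.isomorphisms Scheme) B.hom σ ‹_›
      exact hasPoints_of_isIso _
    haveI : IsClosedImmersion (𝟙 B : B ⟶ B).left := inferInstanceAs (IsClosedImmersion (𝟙 B.left))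
    obtain ⟨C, _, i, j, hi, hCc, hic, hCs, hCconn, hCn, -, hCne⟩ :=
      UnipFix19.exists_comm_normal (𝟙 B) (fun T g x => ⟨g * x * g⁻¹, by simp⟩) hsolv hB
    haveI := hi; haveI := hCc; haveI := hic; haveI := hCs; haveI := hCconn
    haveI : IsAffine C.left := isAffine_of_isAffineHom i.left
    haveI : QuasiCompact B.hom := by
      haveI : IsAffineHom B.hom := isAffineHom_of_isAffine _
      infer_instance
    obtain ⟨Q, _, q, hq, hQs, hQq, hqf, hqs, -, hker⟩ := exists_quot i hCn
    haveI := hq; haveI := hQs; haveI := hQq; haveI := hqf; haveI := hqs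
    haveI : ConnectedSpace Q.left := q.left.surjective.connectedSpace q.left.continuous
    haveI : IsAffine Q.left := Chevalley.isAffine_of_surjective_hom q
    haveI : IsIntegral B.left := Euler.isIntegral_of_smooth_connected k B.hom
    haveI : IsIntegral C.left := Euler.isIntegral_of_smooth_connected k C.hom
    haveI : IsIntegral Q.left := Euler.isIntegral_of_smooth_connected k Q.hom
    haveI : QuasiCompact q.left := by
      haveI : IsSeparated Q.hom := GrpSchField.isSeparated Q
      haveI : QuasiCompact (q.left ≫ Q.hom) := by rw [Over.w q]; infer_instance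
      exact QuasiCompact.of_comp q.left Q.hom
    haveI : LocallyOfFiniteType q.left := by
      haveI : LocallyOfFiniteType (q.left ≫ Q.hom) := by rw [Over.w q]; infer_instance
      exact locallyOfFiniteType_of_comp q.left Q.hom
    obtain ⟨dB, hdB⟩ := exists_nat_dim (k := k) B
    obtain ⟨dC, hdC⟩ := exists_nat_dim (k := k) C
    obtain ⟨dQ, hdQ⟩ := exists_nat_dim (k := k) Q
    have hlt : dQ < n := by
      have h := Neutral.dim_eq_add_field q
      have e1 : topologicalKrullDim (Set.range q.left) = topologicalKrullDim Q.left := by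
        rw [q.left.surjective.range_eq]
        exact (Homeomorph.Set.univ _).isHomeomorph.topologicalKrullDim_eq _
      have e2 : topologicalKrullDim ↥(pullback q.left η[Q].left) = topologicalKrullDim C.left :=
        (IsHomeomorph.topologicalKrullDim_eq _
          (hker.map (Over.forget _)).isoPullback.hom.homeomorph.isHomeomorph).symm
      rw [e1, e2, hdB, hdC, hdQ] at h
      have h' : dB = dQ + dC := by exact_mod_cast h
      have hn : dB ≤ n := by rw [hdB] at hdim; exact_mod_cast hdim
      have hpos : dC ≠ 0 := by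
        intro h0
        haveI : Subsingleton C.left := Set.subsingleton_univ_iff.1
          (GrothLib.Dim.subsingleton_of_dim_eq_zero (S := (Set.univ : Set C.left)) isClosed_univ
            (IrreducibleSpace.isIrreducible_univ _)
            (((Homeomorph.Set.univ C.left).isHomeomorph.topologicalKrullDim_eq _).le.trans
              (by rw [hdC, h0]; exact le_rfl)))
        exact hCne (isIso_hom_of_subsingleton C)
      omega
    have hQp : HasPoints (Red.bc σ Q) := ih dQ hlt Q (isSolvableGrp_quot q hsolv) hdQ.le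
    have hCp : HasPoints (Red.bc σ C) := hasPoints_bc σ C
    -- the base change
    let F := Over.pullback σ
    haveI : IsAffineHom (Red.bc σ B).hom := MorphismProperty.pullback_snd B.hom σ (isAffineHom_of_isAffine _)
    haveI : IsAffineHom (Red.bc σ C).hom := MorphismProperty.pullback_snd C.hom σ (isAffineHom_of_isAffine _)
    haveI : IsAffineHom (Red.bc σ Q).hom := MorphismProperty.pullback_snd Q.hom σ (isAffineHom_of_isAffine _)
    haveI : Smooth (Red.bc σ B).hom := MorphismProperty.pullback_snd B.hom σ ‹_›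
    haveI : LocallyOfFinitePresentation (Red.bc σ B).hom := inferInstance
    haveI : Flat (Red.bc σ B).hom := inferInstance
    haveI : Flat (Red.bc σ C).hom := GrothLib.AlgSp.flat_to_field _
    let qb : Red.bc σ B ⟶ Red.bc σ Q := F.map q
    let ib : Red.bc σ C ⟶ Red.bc σ B := F.map i
    haveI : IsMonHom qb := inferInstanceAs (IsMonHom ((Over.pullback σ).map q))
    haveI : IsMonHom ib := inferInstanceAs (IsMonHom ((Over.pullback σ).map i))
    haveI : Flat qb.left := property_bc_map @Flat σ q hqf
    haveI : Surjective qb.left := property_bc_map @Surjective σ q hqs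
    haveI : IsAffineHom qb.left := property_bc_map @IsAffineHom σ q inferInstance
    have hkb : AlgGrp.IsKernel ib qb := SplitTors24.isKernel_bc σ hker
    intro X a hX hcart
    haveI := hX
    obtain ⟨W, b, π₁, r, -, hb, -, hπ, hπloc⟩ :=
      GrothLib.CartTorsor.exists_factor (G := Red.bc σ B) (a := a) hkb hcart
        (Groth.Agent.S11894.isLocallyTrivialFor_of_nonempty X)
    rw [Subsingleton.elim r (toUnit W)] at hb
    obtain ⟨w⟩ := hQp W b ⟨π₁.left (Classical.arbitrary _)⟩ hb
    obtain ⟨-, -, hsj⟩ := GrothLib.CartTorsor.affine_flat hπ hπloc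
    haveI := hsj
    obtain ⟨F', hF, bF, jF, hcartF⟩ := Groth.Agent.S11894.exists_fibre _ π₁ hπ w
    obtain ⟨pt⟩ := hCp F' bF hF hcartF
    exact ⟨pt ≫ jF⟩

/-- A principal bundle under a connected solvable linear group over an integral base has a generic section. -/
theorem exists_generic_section_solvable (L : Over (Spec (CommRingCat.of k))) [GrpObj L] [Smooth L.hom]
    [ConnectedSpace ↥L.left] [IsAffine L.left] (hL : Red.IsSolvableGrp L) {X Y : Scheme.{u}}
    (qY : Y ⟶ Spec (CommRingCat.of k)) [IsIntegral Y]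
    (π : X ⟶ Y) [Surjective π] [LocallyOfFiniteType π]
    (a : AlgGrp.Action (Red.bc qY L) (Over.mk π))
    (htors : IsIso (lift a.act (snd (Red.bc qY L) (Over.mk π)))) :
    ∃ U : Y.Opens, (U : Set ↥Y).Nonempty ∧ ∃ s : (↑U : Scheme.{u}) ⟶ X, s ≫ π = U.ι := by
  let x := genericPoint Y
  let K : Type u := Y.residueField x
  let f : Spec (CommRingCat.of K) ⟶ Y := Y.fromSpecResidueField x
  let e := GrothLib.DiagGrp.bcGrpComp L qY f (f ≫ qY) rfl
  let e' : Red.bc (f ≫ qY) L ≅ Red.bc f (Red.bc qY L) := (Grp.forget _).mapIso e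
  haveI : IsMonHom e'.hom := e.hom.hom.isMonHom_hom
  haveI : Nonempty ↥(Red.bc f (Over.mk π)).left := by
    obtain ⟨y, hy⟩ := π.surjective x
    obtain ⟨z, -, -⟩ := Scheme.Pullback.exists_preimage_pullback (f := π) (g := f) y (IsLocalRing.closedPoint K)
      (by rw [hy]; exact (Y.fromSpecResidueField_apply x _).symm)
    exact ⟨z⟩
  haveI : IsIntegral L.left := Euler.isIntegral_of_smooth_connected k L.hom
  obtain ⟨n, hn⟩ := exists_nat_dim (k := k) L
  obtain ⟨p⟩ := hasPoints_solvable (f ≫ qY) n L hL hn.le _ ((bcAct f a).restrict e'.hom) inferInstance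
    ((Groth.Agent.S11894.isPullback_toUnit_iff _).2 (isIso_restrict e' _ (isIso_bcAct f a htors)))
  have hp : p.left ≫ pullback.fst π f ≫ π = f := by
    rw [pullback.condition]
    exact (Category.assoc _ _ _).symm.trans
      ((congrArg (· ≫ f) (Over.w p)).trans (Category.id_comp _))
  have hfld : IsField (Y.presheaf.stalk x) := Field.toIsField Y.functionField
  haveI : IsIso (Y.residue x) := by
    rw [ConcreteCategory.isIso_iff_bijective]
    refine ⟨?_, Y.residue_surjective x⟩
    letI := hfld.toField
    exact RingHom.injective (Y.residue x).hom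
  let φ : Spec (Y.presheaf.stalk x) ⟶ X :=
    inv (Spec.map (Y.residue x)) ≫ p.left ≫ pullback.fst π f
  have hφ : φ ≫ π = Y.fromSpecStalk x ≫ 𝟙 Y := by
    rw [Category.comp_id]
    simp only [φ, Category.assoc]
    rw [IsIso.inv_comp_eq]
    exact hp
  obtain ⟨U, hxU, s, -, hs⟩ := spread_out_of_isGermInjective' (sX := 𝟙 Y) (sY := π) φ hφ
  exact ⟨U, ⟨x, hxU⟩, s, by rw [hs, Category.comp_id]⟩

/-- The morphism to the quotient by the largest connected affine normal subgroup has a generic section. -/
theorem exists_generic_section_affPart {G N A : Over (Spec (CommRingCat.of k))} [GrpObj G] [Smooth G.hom]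
    [QuasiCompact G.hom] [ConnectedSpace G.left] [GrpObj N] (i : N ⟶ G) [IsMonHom i] [IsClosedImmersion i.left]
    [Smooth N.hom] [ConnectedSpace N.left] [IsAffine N.left] [GrpObj A] [IsProper A.hom] [Smooth A.hom]
    (α : G ⟶ A) [IsMonHom α] [Surjective α.left] (hker : AlgGrp.IsKernel i α) :
    ∃ U : A.left.Opens, (U : Set A.left).Nonempty ∧ ∃ s : (↑U : Scheme.{u}) ⟶ G.left, s ≫ α.left = U.ι := by
  haveI : IsSeparated G.hom := GrpSchField.isSeparated G
  haveI : Mono i := Over.mono_of_mono_left i
  haveI : ConnectedSpace A.left := α.left.surjective.connectedSpace α.left.continuous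
  haveI : IsIntegral A.left := Euler.isIntegral_of_smooth_connected k A.hom
  -- the largest anti-affine subgroup
  obtain ⟨M, _, j, hj, hjc, hM, -, hMmax, -⟩ := AntMax16.exists_ant G
  haveI := hj; haveI := hjc
  obtain ⟨hlM, hqM⟩ := AntMax16.props_of_mono j
  haveI := hlM; haveI := hqM
  haveI hjα : Surjective (j ≫ α).left := by
    have h := (AntMax16.ant_generates i α hker j hM (fun K' _ _ _ b _ _ hb => hMmax K' b hb)).1
    haveI : Surjective (((i ⊗ₘ j) ≫ μ[G]) ≫ α).left := by rw [Over.comp_left]; infer_instance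
    have e : ((i ⊗ₘ j) ≫ μ[G]) ≫ α = snd N M ≫ j ≫ α := by
      rw [show (i ⊗ₘ j) ≫ μ[G] = (fst N M ≫ i) * (snd N M ≫ j) by rw [Hom.mul_def, lift_fst_comp_snd_comp],
        MonObj.mul_comp, Category.assoc, Category.assoc, GrpSchField.comp_eq_one hker, MonObj.comp_one,
        _root_.one_mul]
    haveI : Surjective ((snd N M).left ≫ (j ≫ α).left) := by
      rw [← Over.comp_left, ← e]; infer_instance
    exact Surjective.of_comp (snd N M).left (j ≫ α).left
  have hcen : ∀ {W : Over (Spec (CommRingCat.of k))} (a : W ⟶ M) (b : W ⟶ G), (a ≫ j) * b = b * (a ≫ j) :=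
    fun a b => hM.central j a b
  -- a Borel subgroup of `N` containing the intersection
  obtain ⟨B, _, iB, hB, -⟩ := GrothLib.Flag27.exists_borel (G := N)
  obtain ⟨hBm, hBc, hBs, hBconn, hBsolv, -⟩ := id hB
  haveI := hBm; haveI := hBc; haveI := hBs; haveI := hBconn
  haveI : IsAffine B.left := isAffine_of_isAffineHom iB.left
  haveI : Mono iB := Over.mono_of_mono_left iB
  haveI : QuasiCompact B.hom := by
    haveI : IsAffineHom B.hom := isAffineHom_of_isAffine _
    infer_instance
  haveI : GeometricallyConnected B.hom :=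
    GrothLib.Neutral.geometricallyConnected_of_point B.hom (η[B]).left (Over.w _)
  haveI : GeometricallyIrreducible B.hom := SecLocus.geometricallyIrreducible_of_smooth B.hom
  haveI : IsSeparated N.hom := GrpSchField.isSeparated N
  obtain ⟨Nz, _, jz, hNz, hjzc, -⟩ := GrothLib.SecLocus.exists_normalizer iB
  haveI := hjzc
  obtain ⟨φ, hφ⟩ := GrothLib.Flag27.exists_factor_normalizer hB jz hNz
  have hZ : ∀ {W : Over (Spec (CommRingCat.of k))} (x : W ⟶ N) (m : W ⟶ M), x ≫ i = m ≫ j →
      ∃ b : W ⟶ B, b ≫ iB = x := by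
    intro W x m hxm
    have hc : ∀ {W' : Over (Spec (CommRingCat.of k))} (p : W' ⟶ W) (y : W' ⟶ N), (p ≫ x) * y = y * (p ≫ x) := by
      intro W' p y
      refine (cancel_mono i).1 ?_
      rw [MonObj.mul_comp, MonObj.mul_comp, Category.assoc, hxm, ← Category.assoc]
      exact hcen _ _
    obtain ⟨z, hz⟩ := (hNz.2.2 W x).2 fun X' p h => ⟨⟨h, by rw [hc, mul_inv_cancel_right]⟩,
      ⟨h, by rw [_root_.mul_assoc, ← hc, inv_mul_cancel_left]⟩⟩
    exact ⟨z ≫ φ, by rw [Category.assoc, hφ, hz]⟩
  -- the subgroup generated by the anti-affine subgroup and the Borel subgroup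
  let E := M ⊗ B
  let ψ : E ⟶ G := (fst M B ≫ j) * (snd M B ≫ iB ≫ i)
  haveI : IsMonHom ψ := GrothLib.GrpSchField.isMonHom_of_mul ψ (by
    have e₁ : μ[M ⊗ B] = fst E E * snd E E := by rw [Hom.mul_def, lift_fst_snd, Category.id_comp]
    have e₂ : (ψ ⊗ₘ ψ) ≫ μ[G] = (fst E E ≫ ψ) * (snd E E ≫ ψ) := by
      rw [Hom.mul_def, ← lift_map, lift_fst_snd, Category.id_comp]
    rw [e₁, e₂]
    simp only [ψ, MonObj.comp_mul, ← Category.assoc]
    rw [show (fst E E * snd E E) ≫ fst M B = (fst E E ≫ fst M B) * (snd E E ≫ fst M B) from MonObj.mul_comp _ _ _,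
      show (fst E E * snd E E) ≫ snd M B = (fst E E ≫ snd M B) * (snd E E ≫ snd M B) from MonObj.mul_comp _ _ _]
    simp only [MonObj.mul_comp, Category.assoc]
    rw [_root_.mul_assoc, _root_.mul_assoc, ← _root_.mul_assoc ((snd E E) ≫ fst M B ≫ j),
      ← Category.assoc (snd E E), hcen, _root_.mul_assoc])
  haveI : QuasiCompact E.hom := by
    rw [show E.hom = pullback.fst M.hom B.hom ≫ M.hom from rfl]; infer_instance
  haveI : LocallyOfFiniteType E.hom := by
    rw [show E.hom = pullback.fst M.hom B.hom ≫ M.hom from rfl]; infer_instance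
  haveI : QuasiCompact ψ.left := by
    haveI : QuasiCompact (ψ.left ≫ G.hom) := by rw [Over.w]; infer_instance
    exact QuasiCompact.of_comp _ G.hom
  obtain ⟨H, _, p, h, hp, hh, hph, hps, hpf, hplfp, hmono, hHlft, -⟩ := Neutral.exists_factor_field ψ
  haveI := hp; haveI := hh; haveI := hmono; haveI := hps; haveI := hpf; haveI := hplfp; haveI := hHlft
  haveI : Mono h := Over.mono_of_mono_left h
  haveI := (Neutral.isClosedImmersion_factor ψ hph).1
  haveI : QuasiCompact H.hom := by rw [← Over.w h]; infer_instance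
  haveI : IsSeparated A.hom := GrpSchField.isSeparated A
  haveI : QuasiCompact (h ≫ α).left := by
    haveI : QuasiCompact ((h ≫ α).left ≫ A.hom) := by rw [Over.w]; infer_instance
    exact QuasiCompact.of_comp _ A.hom
  haveI hhα : Surjective (h ≫ α).left := by
    haveI : Surjective ((lift (𝟙 M) 1 ≫ p).left ≫ (h ≫ α).left) := by
      rw [← Over.comp_left, Category.assoc, reassoc_of% hph]
      simp only [ψ, MonObj.comp_mul, MonObj.mul_comp, lift_fst_assoc, lift_snd_assoc, Category.assoc,
        MonObj.one_comp, Category.id_comp, _root_.mul_one]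
      infer_instance
    exact Surjective.of_comp (lift (𝟙 M) 1 ≫ p).left (h ≫ α).left
  haveI : IsReduced A.left := GrothLib.RedSmooth.isReduced_of_smooth A.hom
  haveI : Flat (h ≫ α).left := GrothLib.GrpSchField.flat_hom (h ≫ α)
  -- the Borel subgroup is the kernel
  let c : B ⟶ H := lift 1 (𝟙 B) ≫ p
  have hc : c ≫ h = iB ≫ i := by
    simp only [c, Category.assoc, hph, ψ, MonObj.comp_mul, lift_fst_assoc, lift_snd_assoc, MonObj.one_comp,
      Category.id_comp, _root_.one_mul]
  have hk : AlgGrp.IsKernel c (h ≫ α) := by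
    have w : c ≫ h ≫ α = toUnit B ≫ η[A] := by
      rw [reassoc_of% hc, GrpSchField.comp_eq_one hker, MonObj.comp_one, Hom.one_def]
    let P := pullback (h ≫ α) η[A]
    let p' := pullback.snd p (pullback.fst (h ≫ α) η[A])
    haveI : Flat p'.left := MorphismProperty.of_isPullback (P := @Flat)
      ((IsPullback.of_hasPullback p (pullback.fst (h ≫ α) η[A])).map (Over.forget _)) hpf
    haveI : Surjective p'.left := MorphismProperty.of_isPullback (P := @Surjective)
      ((IsPullback.of_hasPullback p (pullback.fst (h ≫ α) η[A])).map (Over.forget _)) hps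
    haveI : LocallyOfFinitePresentation p'.left := MorphismProperty.of_isPullback (P := @LocallyOfFinitePresentation)
      ((IsPullback.of_hasPullback p (pullback.fst (h ≫ α) η[A])).map (Over.forget _)) hplfp
    let e := pullback.fst p (pullback.fst (h ≫ α) η[A])
    have hcond : e ≫ ψ = p' ≫ pullback.fst (h ≫ α) η[A] ≫ h := by
      rw [← hph, reassoc_of% pullback.condition (f := p) (g := pullback.fst (h ≫ α) η[A])]
    have hP : (pullback.fst (h ≫ α) η[A] ≫ h) ≫ α = 1 := by
      rw [Category.assoc, pullback.condition, Subsingleton.elim (pullback.snd (h ≫ α) η[A]) (toUnit P), Hom.one_def]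
    obtain ⟨n, hn⟩ := GrpSchField.exists_lift_of_comp_eq_one hker _ hP
    obtain ⟨x, hx⟩ : ∃ x : pullback p (pullback.fst (h ≫ α) η[A]) ⟶ N, x ≫ i = (e ≫ fst M B) ≫ j := by
      refine GrpSchField.exists_lift_of_comp_eq_one hker _ ?_
      have h2 : (e ≫ ψ) ≫ α = 1 := by rw [hcond, Category.assoc, hP, MonObj.comp_one]
      simp only [ψ, MonObj.comp_mul, MonObj.mul_comp, Category.assoc, GrpSchField.comp_eq_one hker, MonObj.comp_one,
        _root_.mul_one] at h2 ⊢
      exact h2
    obtain ⟨b, hb⟩ := hZ x _ hx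
    have hbn : (b * (e ≫ snd M B)) ≫ iB = p' ≫ n := by
      refine (cancel_mono i).1 ?_
      rw [MonObj.mul_comp, MonObj.mul_comp, hb, hx, Category.assoc p', hn, ← hcond]
      simp only [ψ, MonObj.comp_mul, Category.assoc]
    obtain ⟨d, hd⟩ := QuotTorus14.exists_desc p' (b * (e ≫ snd M B)) fun C _ t a a' haa =>
      (cancel_mono iB).1 (by rw [Category.assoc, Category.assoc, hbn, reassoc_of% haa])
    haveI : Epi p' := Chevalley.epi_of_cover p' ⟨inferInstance, inferInstance, inferInstance⟩
    have hdP : d ≫ c = pullback.fst (h ≫ α) η[A] := by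
      refine (cancel_mono h).1 ((cancel_epi p').1 ?_)
      rw [Category.assoc, hc, ← Category.assoc p' d, hd, ← Category.assoc, hbn, Category.assoc p', hn]
    haveI : Mono c := by
      haveI : Mono (c ≫ h) := by rw [hc]; infer_instance
      exact mono_of_mono c h
    let u : B ⟶ P := pullback.lift c (toUnit B) w
    refine IsPullback.of_iso_pullback ⟨w⟩ ⟨u, d, ?_, ?_⟩ (pullback.lift_fst _ _ _) (Subsingleton.elim _ _)
    · rw [← cancel_mono c, Category.assoc, hdP, pullback.lift_fst, Category.id_comp]
    · refine pullback.hom_ext ?_ (Subsingleton.elim _ _)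
      rw [Category.assoc, pullback.lift_fst, hdP, Category.id_comp]
  haveI : IsMonHom c := GrothLib.GrpSchField.isMonHom_of_mul c (by
    rw [← cancel_mono h, Category.assoc, hc, IsMonHom.mul_hom, Category.assoc, IsMonHom.mul_hom,
      ← Category.assoc, tensorHom_comp_tensorHom, hc])
  haveI : LocallyOfFiniteType (h ≫ α).left := by
    haveI : LocallyOfFiniteType ((h ≫ α).left ≫ A.hom) := by rw [Over.w]; infer_instance
    exact locallyOfFiniteType_of_comp _ A.hom
  obtain ⟨U, hU, s, hs⟩ := exists_generic_section_solvable B hBsolv A.hom (h ≫ α).left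
    (GrothLib.ExtTors24.action c (h ≫ α) hk) (GrothLib.ExtTors24.isIso_shear c (h ≫ α) hk)
  exact ⟨U, hU, s ≫ h.left, by rw [Category.assoc, ← Over.comp_left, hs]⟩

/-- The morphism to the quotient by the largest connected affine normal subgroup has local sections. -/
theorem exists_local_section {G N A : Over (Spec (CommRingCat.of k))} [GrpObj G] [Smooth G.hom]
    [QuasiCompact G.hom] [ConnectedSpace G.left] [GrpObj N] (i : N ⟶ G) [IsMonHom i] [IsClosedImmersion i.left]
    [Smooth N.hom] [ConnectedSpace N.left] [IsAffine N.left] [GrpObj A] [IsProper A.hom] [Smooth A.hom]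
    (α : G ⟶ A) [IsMonHom α] [Surjective α.left] (hker : AlgGrp.IsKernel i α) (y : A.left) :
    ∃ U : A.left.Opens, y ∈ U ∧ ∃ s : (↑U : Scheme.{u}) ⟶ G.left, s ≫ α.left = U.ι := by
  obtain ⟨U, hU, s, hs⟩ := exists_generic_section_affPart i α hker
  haveI : CompactSpace A.left := QuasiCompact.compactSpace_of_compactSpace A.hom
  haveI : JacobsonSpace A.left := LocallyOfFiniteType.jacobsonSpace A.hom
  obtain ⟨u, huU, huc⟩ := nonempty_inter_closedPoints hU U.2.isLocallyClosed
  obtain ⟨y₀, hy₀, hy₀c⟩ := nonempty_inter_closedPoints (Z := closure ({y} : Set A.left))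
    ⟨y, subset_closure rfl⟩ isClosed_closure.isLocallyClosed
  obtain ⟨b, hb⟩ := GrothLib.Flag27.exists_cl (X := A) huc
  obtain ⟨a, ha⟩ := GrothLib.Flag27.exists_cl (X := A) hy₀c
  obtain ⟨g, -, hg⟩ := GrothLib.Flag27.exists_cl_lift α (E := Set.univ) isClosed_univ.isLocallyClosed
    (w := a * b⁻¹) (by rw [Set.image_univ]; exact α.left.surjective _)
  have hcomm : (SplitTors24.trans g).hom ≫ α = α ≫ (SplitTors24.trans (g ≫ α)).hom := by
    simp only [SplitTors24.trans, MonObj.mul_comp, MonObj.comp_mul, Category.assoc, Category.id_comp, Category.comp_id,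
      ← Category.assoc α (toUnit A), toUnit_unique (α ≫ toUnit A) (toUnit G)]
  have hya : a ≫ (SplitTors24.trans (g ≫ α)).inv = b := by
    rw [← cancel_mono (SplitTors24.trans (g ≫ α)).hom, Category.assoc, Iso.inv_hom_id, Category.comp_id, comp_trans, hg,
      inv_mul_cancel_right]
  refine ⟨(SplitTors24.trans (g ≫ α)).inv.left ⁻¹ᵁ U, ?_,
    ((SplitTors24.trans (g ≫ α)).inv.left ∣_ U) ≫ s ≫ (SplitTors24.trans g).hom.left, ?_⟩
  · refine (specializes_iff_mem_closure.2 hy₀).mem_open ((SplitTors24.trans (g ≫ α)).inv.left ⁻¹ᵁ U).2 ?_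
    show (SplitTors24.trans (g ≫ α)).inv.left y₀ ∈ U
    rw [← ha, ← GrothLib.Flag27.cl_comp, hya, hb]
    exact huU
  · rw [Category.assoc, Category.assoc, ← Over.comp_left, hcomm, Over.comp_left, reassoc_of% hs,
      morphismRestrict_ι_assoc, ← Over.comp_left, Iso.inv_hom_id, Over.id_left, Category.comp_id]

end GrothLib.Chev24
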