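import Groth.Agent.Lib.GrpSchField.TensorDomain
import Mathlib

/-!
# Evaluations of a tensor product at rational points of the first factor
-/

set_option autoImplicit false

universe u

open scoped TensorProduct

noncomputable section

namespace GrothLib.Chev24

variable {k : Type u} [Field k] {C A : Type u} [CommRing C] [Algebra k C] [CommRing A] [Algebra k A]

/-- Evaluation at a point of the first factor. -/
def ev (χ : C →ₐ[k] k) : C ⊗[k] A →ₐ[k] A :=
  Algebra.TensorProduct.lift ((Algebra.ofId k A).comp χ) (AlgHom.id k A) (fun _ _ => Commute.all _ _)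

@[simp] theorem ev_tmul (χ : C →ₐ[k] k) (c : C) (a : A) : ev χ (c ⊗ₜ[k] a) = algebraMap k A (χ c) * a := by
  simp [ev, Algebra.ofId_apply]

/-- Evaluation at a point of the second factor. -/
def evR (e : A →ₐ[k] k) : C ⊗[k] A →ₐ[k] C :=
  Algebra.TensorProduct.lift (AlgHom.id k C) ((Algebra.ofId k C).comp e) (fun _ _ => Commute.all _ _)

@[simp] theorem evR_tmul (e : A →ₐ[k] k) (c : C) (a : A) : evR e (c ⊗ₜ[k] a) = c * algebraMap k C (e a) := by
  simp [evR, Algebra.ofId_apply]

theorem evR_ev (χ : C →ₐ[k] k) (e : A →ₐ[k] k) (x : C ⊗[k] A) : χ (evR e x) = e (ev χ x) := by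
  induction x using TensorProduct.induction_on with
  | zero => simp
  | tmul c a => simp
  | add a b ha hb => simp [ha, hb]

theorem ev_map {A' : Type u} [CommRing A'] [Algebra k A'] (f : A →ₐ[k] A') (χ : C →ₐ[k] k) (x : C ⊗[k] A) :
    ev χ (Algebra.TensorProduct.map (AlgHom.id k C) f x) = f (ev χ x) := by
  induction x using TensorProduct.induction_on with
  | zero => simp
  | tmul c a => simp
  | add a b ha hb => simp [ha, hb]

/-- A nonzero tensor evaluates to a nonzero element outside the zeros of some nonzero function. -/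
theorem exists_coeff_of_ne_zero {x : C ⊗[k] A} (hx : x ≠ 0) :
    ∃ c : C, c ≠ 0 ∧ ∀ χ : C →ₐ[k] k, χ c ≠ 0 → ev χ x ≠ 0 := by
  classical
  let b := Module.Basis.ofVectorSpace k A
  obtain ⟨i, hi⟩ : ∃ i, (TensorProduct.equivFinsuppOfBasisRight b x : _ →₀ C) i ≠ 0 := by
    by_contra h
    push_neg at h
    apply hx
    apply (TensorProduct.equivFinsuppOfBasisRight b).injective
    rw [map_zero]
    exact Finsupp.ext h
  refine ⟨_, hi, fun χ hχ h => hχ ?_⟩
  have key : ∀ y : C ⊗[k] A, b.repr (ev χ y) i = χ ((TensorProduct.equivFinsuppOfBasisRight b y : _ →₀ C) i) := by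
    intro y
    induction y using TensorProduct.induction_on with
    | zero => simp
    | tmul c a =>
      rw [ev_tmul, ← Algebra.smul_def, map_smul]
      simp [TensorProduct.equivFinsuppOfBasisRight_apply_tmul, mul_comm]
    | add a b ha hb => simp [ha, hb]
  rw [← key x, h]
  simp

variable [IsAlgClosed k]

/-- A point of a finite type domain avoiding a nonzero function. -/
theorem exists_pt [IsReduced C] [Algebra.FiniteType k C] {c : C} (hc : c ≠ 0) :
    ∃ χ : C →ₐ[k] k, χ c ≠ 0 :=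
  GrpSchField.exists_algHom_ne_zero hc

theorem eq_zero_of_forall_ev [IsReduced C] [Algebra.FiniteType k C] {x : C ⊗[k] A}
    (h : ∀ χ : C →ₐ[k] k, ev χ x = 0) : x = 0 := by
  by_contra hx
  obtain ⟨c, hc, hev⟩ := exists_coeff_of_ne_zero hx
  obtain ⟨χ, hχ⟩ := exists_pt (k := k) hc
  exact hev χ hχ (h χ)


section prime

variable [IsDomain C] [IsDomain A] (π : A)

theorem dvd_iff (x : C ⊗[k] A) :
    (1 : C) ⊗ₜ[k] π ∣ x ↔ Algebra.TensorProduct.map (AlgHom.id k C) (Ideal.Quotient.mkₐ k (Ideal.span {π})) x = 0 := by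
  rw [← RingHom.mem_ker, Algebra.TensorProduct.lTensor_ker _ (Ideal.Quotient.mkₐ_surjective k _),
    ← Ideal.mem_span_singleton]
  have e : RingHom.ker (Ideal.Quotient.mkₐ k (Ideal.span {π})) = Ideal.span {π} := Ideal.Quotient.mkₐ_ker k _
  rw [e, Ideal.map_span, Set.image_singleton]
  rfl

theorem prime_tmul [Algebra.FiniteType k C] (hπ : Prime π) : Prime ((1 : C) ⊗ₜ[k] π) := by
  haveI : (Ideal.span {π}).IsPrime := (Ideal.span_singleton_prime hπ.ne_zero).2 hπ
  haveI := GrpSchField.isDomain_tensorProduct (L := k) (A := C) (B := A ⧸ Ideal.span {π})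
  have h0 : (1 : C) ⊗ₜ[k] π ≠ 0 := by
    intro h
    obtain ⟨χ, -⟩ := exists_pt (k := k) (one_ne_zero (α := C))
    exact hπ.ne_zero (by simpa using congrArg (ev χ) h)
  rw [← Ideal.span_singleton_prime h0]
  have : Ideal.span {(1 : C) ⊗ₜ[k] π} =
      RingHom.ker (Algebra.TensorProduct.map (AlgHom.id k C) (Ideal.Quotient.mkₐ k (Ideal.span {π}))) := by
    ext x
    rw [Ideal.mem_span_singleton, dvd_iff, RingHom.mem_ker]
  rw [this]
  exact RingHom.ker_isPrime _

/-- Away from the zeros of some nonzero function, a tensor prime to `1 ⊗ π` stays prime to `π`. -/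
theorem exists_coeff_of_not_dvd {x : C ⊗[k] A} (hx : ¬ (1 : C) ⊗ₜ[k] π ∣ x) :
    ∃ c : C, c ≠ 0 ∧ ∀ χ : C →ₐ[k] k, χ c ≠ 0 → ¬ π ∣ ev χ x := by
  rw [dvd_iff] at hx
  obtain ⟨c, hc, h⟩ := exists_coeff_of_ne_zero hx
  refine ⟨c, hc, fun χ hχ hd => h χ hχ ?_⟩
  rw [ev_map, Ideal.Quotient.mkₐ_eq_mk, Ideal.Quotient.eq_zero_iff_mem]
  exact Ideal.mem_span_singleton.2 hd

end prime

end GrothLib.Chev24
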