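import Groth.Agent.Lib.Chev24.MultSep
import Groth.Agent.Lib.Chev24.Tori
import Groth.Agent.Lib.Chev24.TorusQuot
import Groth.Agent.Lib.Flag27.MaxTorusIso
import Groth.Agent.Lib.Chev24.CommTorus
import Groth.Agent.Lib.MaxTorBC14.Geom
import Groth.Agent.Lib.UnipFix19.Reductive

/-!
# Conjugacy of maximal tori locally for the etale topology
-/

set_option autoImplicit false
set_option linter.all false
set_option backward.isDefEq.respectTransparency false
set_option maxHeartbeats 1600000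
set_option synthInstance.maxHeartbeats 200000

universe u

open CategoryTheory CategoryTheory.Limits MonoidalCategory CartesianMonoidalCategory MonObj GrpObj AlgebraicGeometry

noncomputable section

namespace GrothLib.Chev24

open GrothLib.MultDef14

attribute [-instance] Hom.commGroup Hom.commMonoid CommGrpObj.toIsCommMonObj

/-- Conjugation of subgroups can be checked after viewing points over the base change. -/
theorem conjSub_of_bc {S S' : Scheme.{u}} {f : S' ⟶ S} {H₁ H₂ G : Over S} [GrpObj G] {i₁ : H₁ ⟶ G} {i₂ : H₂ ⟶ G}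
    {T : Over S'} (g : (Over.map f).obj T ⟶ G)
    (hg : ConjSub ((Over.pullback f).map i₁) ((Over.pullback f).map i₂) (DiagGrp.bcPoint f G T g)) :
    ConjSub i₁ i₂ g := by
  intro X p
  let Y : Over S' := Over.mk (p.left ≫ T.hom)
  have hw : X.hom = p.left ≫ T.hom ≫ f := (Over.w p).symm
  let e : (Over.map f).obj Y ⟶ X := Over.homMk (𝟙 X.left) (by simp [Y, hw])
  let e' : X ⟶ (Over.map f).obj Y := Over.homMk (𝟙 X.left) (by simp [Y, hw])
  have he : e' ≫ e = 𝟙 X := Over.OverMorphism.ext (Category.id_comp _)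
  let p' : Y ⟶ T := Over.homMk p.left rfl
  have hp : (Over.map f).map p' ≫ g = e ≫ p ≫ g := by
    have : (Over.map f).map p' = e ≫ p := Over.OverMorphism.ext (Category.id_comp _).symm
    rw [this, Category.assoc]
  have key : p' ≫ DiagGrp.bcPoint f G T g = DiagGrp.bcPointMulEquiv f G Y (e ≫ p ≫ g) := by
    rw [← hp]
    exact (DiagGrp.bcPoint_comp f p' g).symm
  refine ⟨fun h => ?_, fun h => ?_⟩
  · obtain ⟨b, hb⟩ := (hg Y p').1 (DiagGrp.bcPoint f H₁ Y (e ≫ h))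
    obtain ⟨b₀, rfl⟩ := (DiagGrp.bcPoint f H₂ Y).surjective b
    rw [key, ← DiagGrp.bcPoint_comp_right, ← DiagGrp.bcPoint_comp_right] at hb
    change DiagGrp.bcPointMulEquiv f G Y _ * DiagGrp.bcPointMulEquiv f G Y _ * (DiagGrp.bcPointMulEquiv f G Y _)⁻¹ =
      DiagGrp.bcPointMulEquiv f G Y _ at hb
    rw [← map_inv, ← map_mul, ← map_mul] at hb
    have h' := congrArg (e' ≫ ·) ((DiagGrp.bcPointMulEquiv f G Y).injective hb)
    simp only [MonObj.comp_mul, GrpObj.comp_inv, Category.assoc, reassoc_of% he] at h'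
    exact ⟨e' ≫ b₀, by rw [Category.assoc]; exact h'⟩
  · obtain ⟨b, hb⟩ := (hg Y p').2 (DiagGrp.bcPoint f H₂ Y (e ≫ h))
    obtain ⟨b₀, rfl⟩ := (DiagGrp.bcPoint f H₁ Y).surjective b
    rw [key, ← DiagGrp.bcPoint_comp_right, ← DiagGrp.bcPoint_comp_right] at hb
    change (DiagGrp.bcPointMulEquiv f G Y _)⁻¹ * DiagGrp.bcPointMulEquiv f G Y _ * DiagGrp.bcPointMulEquiv f G Y _ =
      DiagGrp.bcPointMulEquiv f G Y _ at hb
    rw [← map_inv, ← map_mul, ← map_mul] at hb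
    have h' := congrArg (e' ≫ ·) ((DiagGrp.bcPointMulEquiv f G Y).injective hb)
    simp only [MonObj.comp_mul, GrpObj.comp_inv, Category.assoc, reassoc_of% he] at h'
    exact ⟨e' ≫ b₀, by rw [Category.assoc]; exact h'⟩

/-- An isomorphism of subgroups induced by conjugation gives conjugation on all points. -/
theorem conjSub_of_conjBy {S : Scheme.{u}} {H₁ H₂ G : Over S} [GrpObj G] {i₁ : H₁ ⟶ G} {i₂ : H₂ ⟶ G}
    {g : 𝟙_ (Over S) ⟶ G} (h : SGA3x.ConjBy i₁ i₂ g) : ConjSub i₁ i₂ g := by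
  obtain ⟨φ, hφ⟩ := h
  have key : ∀ (Y : Over S) (a : Y ⟶ H₁), (toUnit Y ≫ g) * (a ≫ i₁) * (toUnit Y ≫ g)⁻¹ = (a ≫ φ.hom) ≫ i₂ :=
    fun Y a => by
      rw [Category.assoc, ← hφ, MonObj.comp_mul, MonObj.comp_mul, GrpObj.comp_inv, ← Category.assoc a (toUnit H₁),
        toUnit_unique (a ≫ toUnit H₁) (toUnit Y)]
  refine fun Y p => ?_
  rw [toUnit_unique p (toUnit Y)]
  refine ⟨fun a => ⟨a ≫ φ.hom, key Y a⟩, fun b => ⟨b ≫ φ.inv, ?_⟩⟩
  have e := key Y (b ≫ φ.inv)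
  rw [Category.assoc b φ.inv φ.hom, φ.inv_hom_id, Category.comp_id] at e
  rw [← e]
  group

/-- Maximal tori of a smooth algebraic group are conjugate. -/
theorem exists_conj_maxTori_general {k : Type u} [Field k] [IsAlgClosed k] {G T₁ T₂ : Over (Spec (CommRingCat.of k))}
    [GrpObj G] [GrpObj T₁] [GrpObj T₂] [Smooth G.hom] [QuasiCompact G.hom] (i₁ : T₁ ⟶ G) (i₂ : T₂ ⟶ G)
    (h₁ : AGF.IsMaxTorus i₁) (h₂ : AGF.IsMaxTorus i₂) : ∃ g, SGA3x.ConjBy i₁ i₂ g := by
  haveI : IsSeparated G.hom := GrpSchField.isSeparated G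
  obtain ⟨G₀, _, j, hj, hjc, hs, hc, -, hlift⟩ := exists_openRedNeutral G
  haveI := hj; haveI := hjc; haveI := hs; haveI := hc
  haveI : Mono j := Over.mono_of_mono_left j
  haveI : QuasiCompact G₀.hom := by rw [← Over.w j]; infer_instance
  have hl : ∀ {T : Over (Spec (CommRingCat.of k))} [GrpObj T] (i : T ⟶ G), AGF.IsMaxTorus i →
      ∃ t : T ⟶ G₀, t ≫ j = i ∧ Red.IsMaximalTorus t := by
    intro T _ i hi
    obtain ⟨hm, hmono, hT, hmax⟩ := hi
    haveI := hm; haveI := hmono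
    obtain ⟨hTc, hTa, hTs, hTk⟩ := torus_facts' hT i
    haveI := hTs; haveI := hTk
    obtain ⟨t, ht⟩ := hlift T i (RedSmooth.isReduced_of_smooth T.hom) inferInstance
      ⟨η[T].left (IsLocalRing.closedPoint k), by rw [← IsMonHom.one_hom i]; rfl⟩
    haveI : IsMonHom (t ≫ j) := by rw [ht]; infer_instance
    haveI : Mono (t ≫ j) := by rw [ht]; infer_instance
    haveI : IsMonHom t := DiagGrp.isMonHom_of_comp_mono t j
    haveI : Mono t := mono_of_mono t j
    refine ⟨t, ht, Flag27.isMaximalTorus_of_isMaxTorus ⟨inferInstance, inferInstance, hT,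
      fun T' _ u _ _ f hT' hf => hmax T' (u ≫ j) f hT' ?_⟩⟩
    rw [reassoc_of% hf, ht]
  obtain ⟨t₁, ht₁, hm₁⟩ := hl i₁ h₁
  obtain ⟨t₂, ht₂, hm₂⟩ := hl i₂ h₂
  obtain ⟨g, φ, hφ⟩ := exists_conj_maxTori' t₁ t₂ hm₁ hm₂
  refine ⟨g ≫ j, φ, ?_⟩
  rw [← ht₁, ← ht₂, ← reassoc_of% hφ]
  simp only [MonObj.mul_comp, GrpObj.inv_comp, Category.assoc]

/-- Maximal tori are conjugate locally for the etale topology. -/
theorem maximalTori_conj_etale_locally {S : Scheme.{u}} {G T₁ T₂ : Over S} [GrpObj G] [GrpObj T₁] [GrpObj T₂]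
    [Smooth G.hom] [IsSeparated G.hom] [QuasiCompact G.hom] (i₁ : T₁ ⟶ G) (i₂ : T₂ ⟶ G)
    (h₁ : Red.IsMaximalTorus i₁) (h₂ : Red.IsMaximalTorus i₂) :
    ∃ (S' : Scheme.{u}) (f : S' ⟶ S), Etale f ∧ Surjective f ∧
      ∃ g : 𝟙_ (Over S') ⟶ Red.bc f G, SGA3x.ConjBy ((Over.pullback f).map i₁) ((Over.pullback f).map i₂) g := by
  obtain ⟨hm₁, hmono₁, hT₁, hmax₁⟩ := h₁
  obtain ⟨hm₂, hmono₂, hT₂, hmax₂⟩ := h₂
  haveI := hm₁; haveI := hm₂; haveI := hmono₁; haveI := hmono₂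
  obtain ⟨T, j, hj, hTs, hspec⟩ := MultSep24.exists_transporterSub (UnipFix19.isMultTypeFT_of_isTorus hT₁)
    (UnipFix19.isMultTypeFT_of_isTorus hT₂) (inferInstance : Smooth G.hom) i₁ i₂
  haveI := hTs
  have hpt : ∀ s : S, Nonempty (Over.mk (Red.geomPt s) ⟶ T) := fun s => by
    let q := Red.geomPt s
    haveI : Smooth (Red.bc q G).hom := Flag27.smooth_bc q G
    haveI : QuasiCompact (Red.bc q G).hom := MorphismProperty.pullback_snd (P := @QuasiCompact) _ _ ‹_›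
    haveI : Mono ((Over.pullback q).map i₁) := mono_bc q i₁
    haveI : Mono ((Over.pullback q).map i₂) := mono_bc q i₂
    obtain ⟨g, hg⟩ := exists_conj_maxTori_general ((Over.pullback q).map i₁) ((Over.pullback q).map i₂)
      ⟨inferInstance, inferInstance, MaxTorBC14.isTorus_bc q hT₁, hmax₁ s⟩
      ⟨inferInstance, inferInstance, MaxTorBC14.isTorus_bc q hT₂, hmax₂ s⟩
    obtain ⟨g₀, rfl⟩ := (DiagGrp.bcPoint q G _).surjective g
    obtain ⟨t, -⟩ := (hspec _ g₀).mpr (conjSub_of_bc g₀ (conjSub_of_conjBy hg))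
    exact ⟨(Over.homMk (𝟙 _) (by simp [q]) : Over.mk q ⟶ (Over.map q).obj (𝟙_ _)) ≫ t⟩
  choose U p hpe hps ht using fun s => exists_etale_point T hpt s
  let f : (∐ U) ⟶ S := Sigma.desc p
  have hf : Etale f := by
    refine IsZariskiLocalAtSource.of_openCover (P := @Etale) (sigmaOpenCover U) fun s => ?_
    show Etale (Sigma.ι U s ≫ f)
    rw [Sigma.ι_desc]
    exact hpe s
  have hs : Surjective f := ⟨fun s => by
    obtain ⟨x, hx⟩ := hps s
    refine ⟨Sigma.ι U s x, ?_⟩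
    rw [← Scheme.Hom.comp_apply, Sigma.ι_desc]
    exact hx⟩
  let t : Over.mk f ⟶ T := Over.homMk (Sigma.desc fun s => (ht s).some.left) (Sigma.hom_ext _ _ fun s => by
    simpa [f] using Over.w (ht s).some)
  haveI : (Over.pullback f).IsRightAdjoint := (Over.mapPullbackAdj f).isRightAdjoint
  have hc := ((hspec _ (t ≫ j)).mp ⟨t, rfl⟩).comp (unitMap f)
  exact ⟨_, f, hf, hs, _, conjBy_of_conjSub _ _ _ (conjSub_bc _ hc)⟩

end GrothLib.Chev24
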