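import Groth.Agent.Lib.Chev24.TorusQuot

/-!
# The kernel of the largest torus quotient is connected without characters
-/

set_option autoImplicit false
set_option linter.all false
set_option backward.isDefEq.respectTransparency false
set_option maxHeartbeats 2000000
set_option synthInstance.maxHeartbeats 200000

universe u

open CategoryTheory CategoryTheory.Limits MonoidalCategory CartesianMonoidalCategory MonObj GrpObj
open AlgebraicGeometry TopologicalSpace
open GrothLib.Flag27 (IsUnip)

noncomputable section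

namespace GrothLib.Chev24

attribute [-instance] Hom.commGroup Hom.commMonoid CommGrpObj.toIsCommMonObj

variable {k : Type u} [Field k] [IsAlgClosed k]


/-- Kernel of the induced map on a quotient. -/
theorem exists_kernel_quot {G T H M Q : Over (Spec (CommRingCat.of k))} [GrpObj G] [GrpObj T] [GrpObj H] [GrpObj M] [GrpObj Q]
    [Smooth G.hom] [QuasiCompact G.hom] [LocallyOfFiniteType T.hom] [LocallyOfFiniteType H.hom]
    [LocallyOfFiniteType Q.hom] [QuasiCompact Q.hom]
    (q : G ⟶ T) [IsMonHom q] (i : H ⟶ G) [IsMonHom i] (hker : AlgGrp.IsKernel i q)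
    (m : M ⟶ H) [IsMonHom m] (q₀ : G ⟶ Q) [IsMonHom q₀] [Flat q₀.left] [Surjective q₀.left]
    [LocallyOfFinitePresentation q₀.left] (hker₀ : AlgGrp.IsKernel (m ≫ i) q₀) :
    ∃ (f : Q ⟶ T) (K : Over (Spec (CommRingCat.of k))) (_ : GrpObj K) (c : K ⟶ Q) (w : H ⟶ K), IsMonHom f ∧ IsMonHom c ∧ q₀ ≫ f = q ∧
      IsClosedImmersion c.left ∧ AlgGrp.IsKernel c f ∧ IsMonHom w ∧ w ≫ c = i ≫ q₀ ∧ Flat w.left ∧ Surjective w.left ∧
      LocallyOfFinitePresentation w.left ∧ QuasiCompact w.left ∧ AlgGrp.IsKernel m w := by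
  haveI : IsSeparated Q.hom := GrpSchField.isSeparated Q
  haveI : QuasiCompact q₀.left := by
    haveI : QuasiCompact (q₀.left ≫ Q.hom) := by rw [Over.w q₀]; infer_instance
    exact QuasiCompact.of_comp q₀.left Q.hom
  obtain ⟨f, hf, hqf⟩ := GrpDeligne.exists_factor q₀ (m ≫ i) hker₀ q (by
    rw [Category.assoc, GrpSchField.comp_eq_one hker, MonObj.comp_one])
  haveI := hf
  let K := pullback f η[T]
  let c : K ⟶ Q := pullback.fst f η[T]
  have hkc : AlgGrp.IsKernel c f := by
    show IsPullback _ _ _ _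
    rw [Subsingleton.elim (toUnit K) (pullback.snd f η[T])]
    exact IsPullback.of_hasPullback f η[T]
  obtain ⟨hK, hc⟩ := GrpDeligne.exists_grpObj_kernel f c hkc
  haveI := hc
  haveI := GrothLib.GrpSchField.unit_isClosedImmersion T
  haveI : IsClosedImmersion c.left := MorphismProperty.of_isPullback
    ((IsPullback.of_hasPullback f η[T]).map (Over.forget _)).flip (inferInstanceAs (IsClosedImmersion η[T].left))
  haveI : Mono c := Over.mono_of_mono_left c
  obtain ⟨w, hw, -⟩ := hkc.exists_lift (i ≫ q₀) (toUnit H) (by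
    rw [Category.assoc, hqf, GrpSchField.comp_eq_one hker, Hom.one_def])
  haveI : IsMonHom (w ≫ c) := by rw [hw]; infer_instance
  haveI : IsMonHom w := GrothLib.CentMT14.isMonHom_of_comp w c
  have hwpb : IsPullback w i c q₀ := by
    refine (IsPullback.of_bot ?_ hw.symm hkc).flip
    rw [Subsingleton.elim (w ≫ toUnit K) (toUnit H), hqf]
    exact hker
  haveI : Surjective w.left := MorphismProperty.of_isPullback (P := @Surjective) (hwpb.flip.map (Over.forget _)) ‹_›
  haveI : Flat w.left := MorphismProperty.of_isPullback (P := @Flat) (hwpb.flip.map (Over.forget _)) ‹_›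
  haveI : LocallyOfFinitePresentation w.left :=
    MorphismProperty.of_isPullback (P := @LocallyOfFinitePresentation) (hwpb.flip.map (Over.forget _)) ‹_›
  haveI : QuasiCompact w.left :=
    MorphismProperty.of_isPullback (P := @QuasiCompact) (hwpb.flip.map (Over.forget _)) ‹_›
  refine ⟨f, K, hK, c, w, hf, hc, hqf, inferInstance, hkc, inferInstance, hw, inferInstance, inferInstance,
    inferInstance, inferInstance, ?_⟩
  show IsPullback m (toUnit M) w η[K]
  refine IsPullback.of_right (h₁₂ := i) (v₁₃ := q₀) (h₂₂ := c) ?_ ?_ hwpb.flip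
  · rw [IsMonHom.one_hom]; exact hker₀
  · rw [← cancel_mono c, Category.assoc, hw, Category.assoc, IsMonHom.one_hom, ← Category.assoc]
    exact hker₀.w

variable {G : Over (Spec (CommRingCat.of k))} [GrpObj G] [Smooth G.hom] [QuasiCompact G.hom] [ConnectedSpace G.left]

/-- The smallest kernel is smooth and connected. -/
theorem smooth_connected_of_universal {T H : Over (Spec (CommRingCat.of k))} [GrpObj T] [GrpObj H] (hT : Red.IsTorus T) (q : G ⟶ T)
    [IsMonHom q] [Flat q.left] [Surjective q.left] (i : H ⟶ G) [IsMonHom i] [IsClosedImmersion i.left]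
    (hker : AlgGrp.IsKernel i q)
    (huniv : ∀ (B : Over (Spec (CommRingCat.of k))) [GrpObj B], Red.IsTorus B → ∀ (q : G ⟶ B) [IsMonHom q], i ≫ q = 1) :
    Smooth H.hom ∧ ConnectedSpace H.left := by
  haveI : IsSeparated G.hom := GrpSchField.isSeparated G
  obtain ⟨hTa, hTl⟩ := GrothLib.OneMotFaith14.isAffine_of_isTorus hT
  haveI := hTa; haveI := hTl
  haveI : LocallyOfFiniteType H.hom := by rw [← Over.w i]; infer_instance
  haveI : QuasiCompact H.hom := by rw [← Over.w i]; infer_instance
  haveI : IsSeparated H.hom := GrpSchField.isSeparated H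
  haveI : Mono i := Over.mono_of_mono_left i
  have hnorm := isNormalHom_kernel i q hker
  obtain ⟨H₀, _, j, hj, hjc, hH₀s, hH₀c, hjopen, hlift⟩ := exists_openRedNeutral H
  haveI := hj; haveI := hjc; haveI := hH₀s; haveI := hH₀c
  haveI : Mono j := Over.mono_of_mono_left j
  haveI : IsClosedImmersion (j ≫ i).left := inferInstanceAs (IsClosedImmersion (j.left ≫ i.left))
  haveI : IsReduced H₀.left := GrothLib.Rigidity.isReduced_of_smooth H₀.hom
  have hn₀ : AlgGrp.IsNormalHom (j ≫ i) := isNormalHom_of_pts (j ≫ i) fun g x => by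
    obtain ⟨z, hz⟩ := hnorm H₀ (toUnit H₀ ≫ g) j
    have hz1 : η[H₀] ≫ z = η[H] := by
      rw [← cancel_mono i, Category.assoc, ← hz]
      simp only [MonObj.comp_mul, GrpObj.comp_inv]
      rw [← Category.assoc η[H₀] j i, IsMonHom.one_hom j, IsMonHom.one_hom i,
        show (η[G] : (𝟙_ (Over (Spec (CommRingCat.of k)))) ⟶ G) = 1 by rw [Hom.one_def, toUnit_unique (toUnit (𝟙_ (Over (Spec (CommRingCat.of k))))) (𝟙 _), Category.id_comp],
        _root_.mul_one, mul_inv_cancel]
    obtain ⟨z', hz'⟩ := hlift H₀ z inferInstance inferInstance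
      ⟨η[H₀].left (IsLocalRing.closedPoint k), by rw [← Scheme.Hom.comp_apply, ← Over.comp_left, hz1]⟩
    refine ⟨x ≫ z', ?_⟩
    rw [Category.assoc, reassoc_of% hz', ← hz]
    simp only [MonObj.comp_mul, GrpObj.comp_inv, Category.assoc]
    rw [← Category.assoc x (toUnit H₀) g, toUnit_unique (x ≫ toUnit H₀) (𝟙 (𝟙_ (Over (Spec (CommRingCat.of k))))), Category.id_comp]
  haveI : QuasiCompact H₀.hom := by rw [← Over.w j]; infer_instance
  obtain ⟨Q, _, q₀, hq₀, hQs, hQq, hqf, hqs, -, hker₀⟩ := exists_quot (j ≫ i) hn₀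
  haveI := hq₀; haveI := hQs; haveI := hQq; haveI := hqf; haveI := hqs
  haveI : IsSeparated Q.hom := GrpSchField.isSeparated Q
  haveI : ConnectedSpace Q.left := q₀.left.surjective.connectedSpace q₀.left.continuous
  haveI : LocallyOfFinitePresentation q₀.left := GrothLib.AlbTors16.lfp_of_surj q₀
  obtain ⟨f, K, _, c, w, hf, hc, hqfT, hcc, hkc, hw, hwc, hwf, hws, hwl, hwq, hkw⟩ :=
    exists_kernel_quot q i hker j q₀ hker₀
  haveI := hf; haveI := hc; haveI := hcc; haveI := hw; haveI := hwf; haveI := hws; haveI := hwl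
  haveI : Mono c := Over.mono_of_mono_left c
  haveI : LocallyOfFiniteType K.hom := by rw [← Over.w c]; infer_instance
  haveI : QuasiCompact K.hom := by rw [← Over.w c]; infer_instance
  haveI : IsSeparated K.hom := GrpSchField.isSeparated K
  let o : ↥((𝟙_ (Over (Spec (CommRingCat.of k))))).left := IsLocalRing.closedPoint k
  haveI : Subsingleton ↥((𝟙_ (Over (Spec (CommRingCat.of k))))).left := inferInstanceAs (Subsingleton (PrimeSpectrum k))
  have hjw : ∀ r : H₀.left, w.left (j.left r) = η[K].left o := fun r => by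
    rw [← Scheme.Hom.comp_apply, ← Over.comp_left, hkw.w, Over.comp_left, Scheme.Hom.comp_apply,
      Subsingleton.elim ((toUnit H₀).left r) o]
  have hpt : ({η[K].left o} : Set K.left) = w.left '' Set.range j.left := by
    ext z
    constructor
    · rintro rfl; exact ⟨_, ⟨η[H₀].left o, rfl⟩, hjw _⟩
    · rintro ⟨_, ⟨r, rfl⟩, rfl⟩; exact hjw r
  have hopen : IsOpen ({η[K].left o} : Set K.left) := by
    rw [hpt]; exact w.left.isOpenMap _ hjopen
  haveI := GrothLib.GrpSchField.unit_isClosedImmersion K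
  have hclosed : IsClosed ({η[K].left o} : Set K.left) := by
    have : Set.range η[K].left = {η[K].left o} := Set.eq_singleton_iff_unique_mem.2 ⟨⟨o, rfl⟩, by
      rintro _ ⟨p, rfl⟩; exact congrArg _ (Subsingleton.elim _ _)⟩
    exact this ▸ η[K].left.isClosedEmbedding.isClosed_range
  haveI : IsFinite K.hom := isFinite_of_dim_zero K (by
    rw [← GrothLib.GrpSchField.ringKrullDim_stalk_eq K hclosed,
      GrothLib.GrpSchField.ringKrullDim_stalk_eq_of_isClosed K.hom hclosed hopen isIrreducible_singleton rfl hclosed]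
    exact dim_le_zero_of_subsingleton)
  haveI : IsAffine K.left := isAffine_of_isAffineHom K.hom
  haveI : IsAffine Q.left := GrothLib.MonoHom.isAffine_of_kernel f c fun T g =>
    ⟨fun hg => GrpSchField.exists_lift_of_comp_eq_one hkc g hg, by
      rintro ⟨z, rfl⟩; rw [Category.assoc, GrpSchField.comp_eq_one hkc, MonObj.comp_one]⟩
  haveI : QuasiCompact f.left := by
    haveI : QuasiCompact (f.left ≫ T.hom) := by rw [Over.w f]; infer_instance
    exact QuasiCompact.of_comp f.left T.hom
  haveI : IsProper f.left := by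
    refine Neutral.isProper_of_kernel f ?_
    have sq : IsPullback c.left (toUnit K).left f.left η[T].left := hkc.map (Over.forget _)
    haveI h1 : IsFinite (toUnit K).left := by
      rw [show (toUnit K).left = K.hom from (Category.comp_id _).symm.trans (Over.w _)]
      infer_instance
    rw [show pullback.snd f.left η[T].left = sq.isoPullback.inv ≫ (toUnit K).left from sq.isoPullback_inv_snd.symm]
    infer_instance
  haveI : IsFinite f.left := IsFinite.iff_isProper_and_isAffineHom.2 ⟨inferInstance, inferInstance⟩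
  haveI : Surjective f.left := by
    haveI : Surjective (q₀.left ≫ f.left) := by rw [← Over.comp_left, hqfT]; infer_instance
    exact Surjective.of_comp q₀.left f.left
  haveI := GrothLib.Rigidity.irreducibleSpace_of_connected Q
  haveI : JacobsonSpace K.left := LocallyOfFiniteType.jacobsonSpace K.hom
  haveI : Finite K.left := by
    haveI : Subsingleton ↥(Spec (CommRingCat.of k)) := inferInstanceAs (Subsingleton (PrimeSpectrum k))
    have h' := K.hom.finite_preimage_singleton (IsLocalRing.closedPoint k)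
    rw [show K.hom ⁻¹' {IsLocalRing.closedPoint k} = Set.univ from
      Set.eq_univ_of_forall fun _ => Subsingleton.elim (α := ↥(Spec (CommRingCat.of k))) _ _] at h'
    exact Set.finite_univ_iff.1 h'
  haveI : DiscreteTopology K.left := inferInstance
  have hQt : Red.IsTorus Q := by
    refine isTorus_of_noUnip ((IsogProps19.isSolvable_iff f).2 (isSolvable_pts_of_comm fun a b => torus_comm hT a b)) ?_
    intro U _ v hv _ hUu hUs hUc
    haveI := hv; haveI := hUs; haveI := hUc
    haveI : IsReduced U.left := GrothLib.Rigidity.isReduced_of_smooth U.hom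
    obtain ⟨v', hv'⟩ := GrpSchField.exists_lift_of_comp_eq_one hkc v (unip_to_torus_eq_one hUu hT (v ≫ f))
    haveI : IsMonHom (v' ≫ c) := by rw [hv']; infer_instance
    haveI : IsMonHom v' := GrothLib.CentMT14.isMonHom_of_comp v' c
    have h1 : v' = 1 := GrothLib.Rigidity.ext_of_points _ _ fun s => Flag27.eq_of_cl (by
      have hsub := (isPreconnected_range v'.left.continuous).subsingleton
      refine hsub ⟨_, rfl⟩ ⟨η[U].left o, ?_⟩
      rw [MonObj.comp_one, ← Scheme.Hom.comp_apply, ← Over.comp_left, IsMonHom.one_hom, Hom.one_def,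
        toUnit_unique (toUnit (𝟙_ (Over (Spec (CommRingCat.of k))))) (𝟙 _), Category.id_comp]
      rfl)
    rw [← hv', h1, MonObj.one_comp]
  obtain ⟨e, he⟩ := GrpSchField.exists_lift_of_comp_eq_one hker₀ i (huniv Q hQt q₀)
  have hej : e ≫ j = 𝟙 H := by rw [← cancel_mono i, Category.assoc, Category.id_comp]; exact he
  haveI : IsSplitEpi j := IsSplitEpi.mk' ⟨e, hej⟩
  haveI : IsIso j := isIso_of_mono_of_isSplitEpi j
  haveI : IsIso j.left := inferInstanceAs (IsIso ((Over.forget _).map j))
  refine ⟨?_, j.left.surjective.connectedSpace j.left.continuous⟩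
  rw [← Over.w (inv j)]
  haveI : IsIso (inv j).left := inferInstanceAs (IsIso ((Over.forget _).map (inv j)))
  infer_instance

/-- The smallest kernel has no characters. -/
theorem hom_eq_one_of_universal {T H : Over (Spec (CommRingCat.of k))} [GrpObj T] [GrpObj H] (hT : Red.IsTorus T) (q : G ⟶ T)
    [IsMonHom q] [Flat q.left] [Surjective q.left] (i : H ⟶ G) [IsMonHom i] [IsClosedImmersion i.left]
    (hker : AlgGrp.IsKernel i q)
    (huniv : ∀ (B : Over (Spec (CommRingCat.of k))) [GrpObj B], Red.IsTorus B → ∀ (q : G ⟶ B) [IsMonHom q], i ≫ q = 1)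
    (B : Over (Spec (CommRingCat.of k))) [GrpObj B] (hB : Red.IsTorus B) (ψ : H ⟶ B) [IsMonHom ψ] : ψ = 1 := by
  haveI : IsSeparated G.hom := GrpSchField.isSeparated G
  obtain ⟨hTa, hTl⟩ := GrothLib.OneMotFaith14.isAffine_of_isTorus hT
  haveI := hTa; haveI := hTl
  obtain ⟨hHs, hHc⟩ := smooth_connected_of_universal hT q i hker huniv
  haveI := hHs; haveI := hHc
  haveI : QuasiCompact H.hom := by rw [← Over.w i]; infer_instance
  haveI : Mono i := Over.mono_of_mono_left i
  have hnorm := isNormalHom_kernel i q hker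
  obtain ⟨M, _, m, T', _, α, hm, hmc, hT', hα, hαs, hαf, hkerα, huniv'⟩ := exists_torQuot H
  haveI := hm; haveI := hmc; haveI := hα; haveI := hαs; haveI := hαf
  obtain ⟨hT'a, hT'l⟩ := GrothLib.OneMotFaith14.isAffine_of_isTorus hT'
  haveI := hT'a; haveI := hT'l
  obtain ⟨hMs, hMc⟩ := smooth_connected_of_universal hT' α m hkerα huniv'
  haveI := hMs; haveI := hMc
  haveI : QuasiCompact M.hom := by rw [← Over.w m]; infer_instance
  haveI : IsClosedImmersion (m ≫ i).left := inferInstanceAs (IsClosedImmersion (m.left ≫ i.left))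
  have hn : AlgGrp.IsNormalHom (m ≫ i) := isNormalHom_of_pts (m ≫ i) fun g x => by
    obtain ⟨z, hz⟩ := hnorm H (toUnit H ≫ g) (𝟙 H)
    rw [Category.id_comp] at hz
    haveI : IsMonHom (z ≫ i) := by
      rw [← hz]; exact Flag27.isMonHom_conjBy g i
    haveI : IsMonHom z := GrothLib.CentMT14.isMonHom_of_comp z i
    obtain ⟨e, he⟩ := GrpSchField.exists_lift_of_comp_eq_one hkerα (m ≫ z) (by
      rw [Category.assoc]; exact huniv' T' hT' (z ≫ α))
    refine ⟨x ≫ e, ?_⟩
    rw [Category.assoc, reassoc_of% he, ← hz]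
    simp only [MonObj.comp_mul, GrpObj.comp_inv, Category.assoc]
    rw [← Category.assoc m (toUnit H) g, ← Category.assoc x (m ≫ toUnit H) g,
      toUnit_unique (x ≫ m ≫ toUnit H) (𝟙 (𝟙_ (Over (Spec (CommRingCat.of k))))), Category.id_comp]
  obtain ⟨Q, _, q₀, hq₀, hQs, hQq, hqf, hqs, -, hker₀⟩ := exists_quot (m ≫ i) hn
  haveI := hq₀; haveI := hQs; haveI := hQq; haveI := hqf; haveI := hqs
  haveI : IsSeparated Q.hom := GrpSchField.isSeparated Q
  haveI : ConnectedSpace Q.left := q₀.left.surjective.connectedSpace q₀.left.continuous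
  haveI : LocallyOfFinitePresentation q₀.left := GrothLib.AlbTors16.lfp_of_surj q₀
  obtain ⟨f, K, _, c, w, hf, hc, hqfT, hcc, hkc, hw, hwc, hwf, hws, hwl, hwq, hkw⟩ :=
    exists_kernel_quot q i hker m q₀ hker₀
  haveI := hf; haveI := hc; haveI := hcc; haveI := hw; haveI := hwf; haveI := hws; haveI := hwl; haveI := hwq
  haveI : Mono c := Over.mono_of_mono_left c
  haveI : LocallyOfFiniteType K.hom := by rw [← Over.w c]; infer_instance
  haveI : QuasiCompact K.hom := by rw [← Over.w c]; infer_instance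
  haveI : IsSeparated K.hom := GrpSchField.isSeparated K
  haveI : IsSeparated T'.hom := GrpSchField.isSeparated T'
  haveI : QuasiCompact α.left := by
    haveI : QuasiCompact (α.left ≫ T'.hom) := by rw [Over.w]; infer_instance
    exact QuasiCompact.of_comp α.left T'.hom
  obtain ⟨bt, hbt, hαbt⟩ := GrpDeligne.exists_factor α m hkerα w (GrpSchField.comp_eq_one hkw)
  obtain ⟨gm, hgm, hwgm⟩ := GrpDeligne.exists_factor w m hkw α (GrpSchField.comp_eq_one hkerα)
  haveI := hbt; haveI := hgm
  haveI : Epi w := Chevalley.epi_of_cover w ⟨hwf, hws, hwl⟩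
  have hgmbt : gm ≫ bt = 𝟙 K := by rw [← cancel_epi w, reassoc_of% hwgm, hαbt, Category.comp_id]
  haveI : IsSplitMono gm := IsSplitMono.mk' ⟨bt, hgmbt⟩
  haveI : Surjective bt.left := by
    haveI : Surjective (α.left ≫ bt.left) := by rw [← Over.comp_left, hαbt]; infer_instance
    exact Surjective.of_comp α.left bt.left
  haveI : Smooth K.hom := GrothLib.FppfSource.fppfSourceDescends_smooth w.left K.hom hwf hwl hws
    (by rw [Over.w w]; infer_instance)
  obtain ⟨hT's, hT'c⟩ := Rigidity.smooth_connected_of_isTorus T' hT'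
  haveI := hT's; haveI := hT'c
  haveI : IsAffine K.left := Chevalley.isAffine_of_surjective_hom bt
  haveI : IsAffine Q.left := GrothLib.MonoHom.isAffine_of_kernel f c fun T g =>
    ⟨fun hg => GrpSchField.exists_lift_of_comp_eq_one hkc g hg, by
      rintro ⟨z, rfl⟩; rw [Category.assoc, GrpSchField.comp_eq_one hkc, MonObj.comp_one]⟩
  have hKcomm : ∀ (a b : (𝟙_ (Over (Spec (CommRingCat.of k)))) ⟶ K), a * b = b * a := fun a b => by
    rw [← cancel_mono gm, MonObj.mul_comp, MonObj.mul_comp, torus_comm hT']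
  have hQsolv : IsSolvable ((𝟙_ (Over (Spec (CommRingCat.of k)))) ⟶ Q) := by
    let φ : ((𝟙_ (Over (Spec (CommRingCat.of k)))) ⟶ Q) →* ((𝟙_ (Over (Spec (CommRingCat.of k)))) ⟶ T) := MonoidHom.mk' (fun x => x ≫ f) fun x y => MonObj.mul_comp x y f
    refine ⟨⟨2, ?_⟩⟩
    have h1 : derivedSeries ((𝟙_ (Over (Spec (CommRingCat.of k)))) ⟶ Q) 1 ≤ φ.ker := by
      rw [derivedSeries_one, commutator_def, Subgroup.commutator_le]
      intro a _ b _
      rw [MonoidHom.mem_ker, map_commutatorElement, commutatorElement_eq_one_iff_mul_comm]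
      exact torus_comm hT _ _
    rw [derivedSeries_succ, eq_bot_iff]
    refine (Subgroup.commutator_mono h1 h1).trans ?_
    rw [Subgroup.commutator_le]
    intro a ha b hb
    obtain ⟨a', ha'⟩ := GrpSchField.exists_lift_of_comp_eq_one hkc a (MonoidHom.mem_ker.1 ha)
    obtain ⟨b', hb'⟩ := GrpSchField.exists_lift_of_comp_eq_one hkc b (MonoidHom.mem_ker.1 hb)
    rw [Subgroup.mem_bot, commutatorElement_eq_one_iff_mul_comm, ← ha', ← hb', ← MonObj.mul_comp, hKcomm,
      MonObj.mul_comp]
  have hQt : Red.IsTorus Q := by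
    refine isTorus_of_noUnip hQsolv ?_
    intro U _ v hv _ hUu _ _
    haveI := hv
    obtain ⟨v', hv'⟩ := GrpSchField.exists_lift_of_comp_eq_one hkc v (unip_to_torus_eq_one hUu hT (v ≫ f))
    haveI : IsMonHom (v' ≫ c) := by rw [hv']; infer_instance
    haveI : IsMonHom v' := GrothLib.CentMT14.isMonHom_of_comp v' c
    have h1 : v' = 1 := by
      rw [← cancel_mono gm, unip_to_torus_eq_one hUu hT' (v' ≫ gm), MonObj.one_comp]
    rw [← hv', h1, MonObj.one_comp]
  obtain ⟨e, he⟩ := GrpSchField.exists_lift_of_comp_eq_one hker₀ i (huniv Q hQt q₀)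
  have hem : e ≫ m = 𝟙 H := by rw [← cancel_mono i, Category.assoc, Category.id_comp]; exact he
  rw [← Category.id_comp ψ, ← hem, Category.assoc, huniv' B hB ψ, MonObj.comp_one]

variable (G) in
/-- The largest torus quotient through which all characters factor. -/
theorem exists_torus_universal :
    ∃ (r : ℕ) (T : Over (Spec (CommRingCat.of k))) (_ : GrpObj T) (_ : Red.IsSplitTorusWith (Fin r → ℤ) T)
      (q : G ⟶ T) (_ : IsMonHom q) (H : Over (Spec (CommRingCat.of k))) (_ : GrpObj H) (h : H ⟶ G) (_ : IsMonHom h),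
      Flat q.left ∧ Surjective q.left ∧ AlgGrp.IsKernel h q ∧ ConnectedSpace ↥H.left ∧
      (∀ χ : G ⟶ Red.Gm (Spec (CommRingCat.of k)), IsMonHom χ → ∃ χ' : T ⟶ Red.Gm (Spec (CommRingCat.of k)), IsMonHom χ' ∧ q ≫ χ' = χ) ∧
      (∀ ψ : H ⟶ Red.Gm (Spec (CommRingCat.of k)), IsMonHom ψ → ψ = 1) := by
  obtain ⟨H, _, i, T, _, q, hi, hic, hT, hq, hqs, hqf, hker, huniv⟩ := exists_torQuot G
  haveI := hi; haveI := hic; haveI := hq; haveI := hqs; haveI := hqf
  obtain ⟨r, hr⟩ := exists_splitWith hT
  have hGm := RankCell14.isTorus_Gm (Spec (CommRingCat.of k))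
  refine ⟨r, T, inferInstance, hr, q, hq, H, inferInstance, i, hi, hqf, hqs, hker,
    (smooth_connected_of_universal hT q i hker huniv).2, fun χ hχ => ?_, fun ψ hψ => ?_⟩
  · haveI := hχ
    haveI : IsSeparated G.hom := GrpSchField.isSeparated G
    obtain ⟨hTa, hTl⟩ := GrothLib.OneMotFaith14.isAffine_of_isTorus hT
    haveI := hTa; haveI := hTl
    haveI : IsSeparated T.hom := GrpSchField.isSeparated T
    haveI : QuasiCompact q.left := by
      haveI : QuasiCompact (q.left ≫ T.hom) := by rw [Over.w]; infer_instance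
      exact QuasiCompact.of_comp q.left T.hom
    exact GrpDeligne.exists_factor q i hker χ (huniv _ hGm χ)
  · haveI := hψ
    exact hom_eq_one_of_universal hT q i hker huniv _ hGm ψ

end GrothLib.Chev24
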