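import Groth.Agent.Lib.Chev24.AffPart
import Groth.Agent.Lib.Chev24.PerfChev
import Groth.Agent.Lib.Chev24.Tori
import Groth.Agent.Lib.UnipFix19.QuotientField
import Groth.Agent.Lib.UnipFix19.UnipBC
import Groth.Agent.Lib.Flag27.BorelUnion
import Groth.Agent.Lib.Flag27.QuotBC
import Groth.Agent.Lib.CurveLocus.Basic

/-!
# Unipotent subgroups and extensions of algebraically closed fields
-/

set_option autoImplicit false
set_option linter.all false
set_option backward.isDefEq.respectTransparency false
set_option maxHeartbeats 1000000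
set_option synthInstance.maxHeartbeats 200000

universe u

open CategoryTheory CategoryTheory.Limits MonoidalCategory CartesianMonoidalCategory MonObj GrpObj
open AlgebraicGeometry Topology
open GrothLib.Flag27 (IsUnip)

noncomputable section

namespace GrothLib.Chev24

attribute [-instance] Hom.commGroup Hom.commMonoid CommGrpObj.toIsCommMonObj

variable {k : Type u} [Field k] [IsAlgClosed k] {F : Type u} [Field F] [IsAlgClosed F]

/-- Unipotent groups have no subtori. -/
theorem hasNoSubtorus_of_isUnip {U : Over (Spec (CommRingCat.of k))} [GrpObj U] [LocallyOfFiniteType U.hom]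
    (h : IsUnip k U) : Red.HasNoSubtorus k U := by
  intro T _ j _ _ hT
  obtain ⟨-, hTa, hTs, -⟩ := torus_facts' hT j
  haveI := hTa; haveI := hTs
  have h1 : j = 1 := GrothLib.UnipFix19.hom_unip_eq_one h hT j
  have hid : 𝟙 T = 1 := by
    rw [← cancel_mono j, Category.id_comp, MonObj.one_comp, h1]
  refine ⟨η[T].left, ?_, Over.w η[T]⟩
  have h2 : toUnit T ≫ η[T] = 𝟙 T := by rw [hid, Hom.one_def]
  exact congrArg Over.Hom.left h2

/-- Base changes of unipotent groups have no subtori. -/
theorem hasNoSubtorus_bc_of_isUnip (g : Spec (CommRingCat.of F) ⟶ Spec (CommRingCat.of k))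
    {U : Over (Spec (CommRingCat.of k))} [GrpObj U] (h : IsUnip k U) : Red.HasNoSubtorus F (Red.bc g U) := by
  obtain ⟨A, iA₁, iA₂, -, hu, ⟨eA⟩⟩ := h
  intro T _ j _ _ hT
  let a := (Over.pullback g).mapGrp.mapIso eA
  haveI : IsMonHom a.inv.hom.hom := a.inv.hom.isMonHom_hom
  haveI : Mono a.inv.hom.hom := inferInstanceAs (Mono ((Grp.forget _).mapIso a).inv)
  let u := j ≫ a.inv.hom.hom
  haveI : Mono u := inferInstance
  have h1 : u = 1 := GrothLib.CentMT14.hom_eq_one A g (GrothLib.DiagGrp.hasChartsFpqc_of_isTorus hT) hu u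
  have hid : 𝟙 T = 1 := by
    rw [← cancel_mono u, Category.id_comp, MonObj.one_comp]
    exact h1
  refine ⟨η[T].left, ?_, Over.w η[T]⟩
  have h2 : toUnit T ≫ η[T] = 𝟙 T := by rw [hid, Hom.one_def]
  exact congrArg Over.Hom.left h2

/-- Dimension is invariant under extension of the field. -/
theorem dim_bc [Algebra k F] (X : Over (Spec (CommRingCat.of k))) [LocallyOfFiniteType X.hom] :
    topologicalKrullDim ↥(Red.bc (Spec.map (CommRingCat.ofHom (algebraMap k F))) X).left =
      topologicalKrullDim ↥X.left := by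
  let e := pullbackSymmetry X.hom (Spec.map (CommRingCat.ofHom (algebraMap k F)))
  exact e.hom.homeomorph.isHomeomorph.topologicalKrullDim_eq.trans
    (GrothLib.CurveLocus.topologicalKrullDim_pullback X.hom F)

/-- An affine connected group over the big field lies in the base change of the affine part. -/
theorem exists_factor_affPart_bc (f : Spec (CommRingCat.of F) ⟶ Spec (CommRingCat.of k))
    {H : Over (Spec (CommRingCat.of k))} [GrpObj H] [Smooth H.hom] [QuasiCompact H.hom] [ConnectedSpace H.left] :
    ∃ (N : Over (Spec (CommRingCat.of k))) (_ : GrpObj N) (i : N ⟶ H) (_ : IsMonHom i) (_ : IsClosedImmersion i.left)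
      (_ : Smooth N.hom) (_ : ConnectedSpace N.left) (_ : IsAffine N.left),
      ∀ (K : Over (Spec (CommRingCat.of F))) [GrpObj K] (h : K ⟶ Red.bc f H) [IsMonHom h]
        [Smooth K.hom] [ConnectedSpace K.left] [IsAffine K.left], ∃ φ : K ⟶ Red.bc f N, φ ≫ (Over.pullback f).map i = h := by
  obtain ⟨N, _, i, hi, hic, hNs, hNc, hNa, hNn, hmax⟩ := exists_affPart (G := H)
  haveI := hi; haveI := hic; haveI := hNs; haveI := hNc; haveI := hNa
  obtain ⟨Q, _, q, hq, hQs, hQq, hqf, hqs, -, hker⟩ := exists_quot i hNn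
  haveI := hq; haveI := hQs; haveI := hQq; haveI := hqf; haveI := hqs
  haveI := isProper_quotient i hmax q hker
  haveI : IsProper (Red.bc f Q).hom := MorphismProperty.pullback_snd (P := @IsProper) Q.hom f ‹_›
  refine ⟨N, inferInstance, i, hi, hic, hNs, hNc, hNa, fun K _ h _ _ _ _ => ?_⟩
  haveI : IsReduced K.left := GrothLib.RedSmooth.isReduced_of_smooth K.hom
  exact GrpSchField.exists_lift_of_comp_eq_one (isKernel_bc f i q hker) h
    (GrothLib.AlbTors16.hom_eq_one_affine_proper (h ≫ (Over.pullback f).map q))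

variable [Algebra k F]

/-- Unipotent subgroups over the big field are no larger than those over the small one. -/
theorem exists_unip_sub_dim {G : Over (Spec (CommRingCat.of k))} [GrpObj G] [LocallyOfFiniteType G.hom]
    [QuasiCompact G.hom] {U : Over (Spec (CommRingCat.of F))} [GrpObj U]
    (u : U ⟶ Red.bc (Spec.map (CommRingCat.ofHom (algebraMap k F))) G) [IsMonHom u] [IsClosedImmersion u.left]
    [Smooth U.hom] [IsAffine U.left] [ConnectedSpace U.left] (hU : Red.HasNoSubtorus F U) :
    ∃ (V : Over (Spec (CommRingCat.of k))) (_ : GrpObj V) (v : V ⟶ G), IsMonHom v ∧ IsClosedImmersion v.left ∧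
      Smooth V.hom ∧ IsAffine V.left ∧ ConnectedSpace V.left ∧ Red.HasNoSubtorus k V ∧
      topologicalKrullDim ↥U.left ≤ topologicalKrullDim ↥V.left := by
  generalize hfdef : Spec.map (CommRingCat.ofHom (algebraMap k F)) = f at u ⊢
  haveI : IsSeparated G.hom := GrpSchField.isSeparated G
  obtain ⟨H, _, j, hj, hjc, hHs, hHc, -, hHfac⟩ := exists_redNeutral G
  haveI := hj; haveI := hjc; haveI := hHs; haveI := hHc
  haveI : QuasiCompact H.hom := by rw [← Over.w j]; infer_instance
  haveI : Mono j := Over.mono_of_mono_left j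
  haveI : IsClosedImmersion ((Over.pullback f).map j).left := GrothLib.Flag27.property_map f j hjc
  haveI : Mono ((Over.pullback f).map j) := Over.mono_of_mono_left _
  haveI : IsReduced U.left := GrothLib.RedSmooth.isReduced_of_smooth U.hom
  -- `U` lands in the reduced neutral component
  obtain ⟨uH, huH⟩ : ∃ uH : U ⟶ Red.bc f H, uH ≫ (Over.pullback f).map j = u := by
    let x : (Over.map f).obj U ⟶ G :=
      Over.homMk (u.left ≫ pullback.fst G.hom f) (by
        show (u.left ≫ pullback.fst G.hom f) ≫ G.hom = U.hom ≫ f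
        rw [Category.assoc, pullback.condition, ← Over.w u, Category.assoc]; rfl)
    obtain ⟨x', hx'⟩ := hHfac ((Over.map f).obj U) x ‹IsReduced U.left› ‹ConnectedSpace U.left› (by
      refine ⟨η[U].left (IsLocalRing.closedPoint F), ?_⟩
      show (u.left ≫ pullback.fst G.hom f) (η[U].left (IsLocalRing.closedPoint F)) = _
      rw [← Scheme.Hom.comp_apply, ← Category.assoc, ← Over.comp_left, IsMonHom.one_hom]
      have e : (η[Red.bc f G]).left ≫ pullback.fst G.hom f = f ≫ η[G].left := by
        simp [Functor.obj.η_def, Over.pullback_map_left]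
      rw [e, Scheme.Hom.comp_apply]
      exact congrArg _ (Subsingleton.elim (α := PrimeSpectrum k) _ _))
    refine ⟨Over.homMk (pullback.lift x'.left U.hom (Over.w x')) (pullback.lift_snd _ _ _), ?_⟩
    apply Over.OverMorphism.ext
    refine pullback.hom_ext ?_ ((Over.w _).trans (Over.w _).symm)
    have e2 : x'.left ≫ j.left = u.left ≫ pullback.fst G.hom f := congrArg Over.Hom.left hx'
    simp [Over.pullback_map_left, e2]
  haveI : IsMonHom (uH ≫ (Over.pullback f).map j) := by rw [huH]; infer_instance
  haveI : IsMonHom uH := GrothLib.CentMT14.isMonHom_of_comp uH ((Over.pullback f).map j)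
  obtain ⟨N, _, i, hi, hic, hNs, hNc, hNa, hfac⟩ := exists_factor_affPart_bc f (H := H)
  haveI := hi; haveI := hic; haveI := hNs; haveI := hNc; haveI := hNa
  haveI : IsClosedImmersion ((Over.pullback f).map i).left := GrothLib.Flag27.property_map f i hic
  haveI : Mono ((Over.pullback f).map i) := Over.mono_of_mono_left _
  obtain ⟨uN, huN⟩ := hfac U uH
  haveI : IsMonHom (uN ≫ (Over.pullback f).map i) := by rw [huN]; infer_instance
  haveI : IsMonHom uN := GrothLib.CentMT14.isMonHom_of_comp uN ((Over.pullback f).map i)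
  haveI : IsClosedImmersion uN.left := by
    haveI : IsClosedImmersion (uN.left ≫ ((Over.pullback f).map i ≫ (Over.pullback f).map j).left) := by
      rw [← Over.comp_left, reassoc_of% huN, huH]; infer_instance
    haveI : IsSeparated ((Over.pullback f).map i ≫ (Over.pullback f).map j).left :=
      inferInstanceAs (IsSeparated (((Over.pullback f).map i).left ≫ ((Over.pullback f).map j).left))
    exact IsClosedImmersion.of_comp uN.left ((Over.pullback f).map i ≫ (Over.pullback f).map j).left
  obtain ⟨B, _, iB, hB, hBU⟩ := GrothLib.Flag27.exists_borel (G := N)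
  obtain ⟨hiB, hiBc, hBs, hBc, hBsolv, -⟩ := id hB
  haveI := hiB; haveI := hiBc; haveI := hBs; haveI := hBc
  haveI : IsAffine B.left := isAffine_of_isAffineHom iB.left
  obtain ⟨X, a, o, hX, hXp⟩ := GrothLib.Flag27.isProper_quotient_good hBU
  haveI := hXp
  haveI : IsProper (Red.bc f X).hom := MorphismProperty.pullback_snd (P := @IsProper) X.hom f ‹_›
  haveI := GrothLib.Flag27.isAffine_bc f N
  haveI := GrothLib.Flag27.smooth_bc f N
  haveI := GrothLib.Flag27.connectedSpace_bc f N
  obtain ⟨hUu, hUsol⟩ := GrothLib.Flag27.isUnip_of_noSubtorus hU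
  obtain ⟨g, φ, hφ⟩ := GrothLib.Flag27.exists_conj_into (a.bc f) (GrothLib.Flag27.bcPt f o)
    (GrothLib.Flag27.isQuotient_bc f a o hX) uN hUsol
  haveI : IsClosedImmersion ((Over.pullback f).map iB).left := GrothLib.Flag27.property_map f iB hiBc
  haveI : Mono ((Over.pullback f).map iB) := Over.mono_of_mono_left _
  haveI : IsMonHom (φ ≫ (Over.pullback f).map iB) := by rw [hφ]; exact GrothLib.Flag27.isMonHom_conjBy g uN
  haveI : IsMonHom φ := GrothLib.CentMT14.isMonHom_of_comp φ ((Over.pullback f).map iB)
  obtain ⟨D, _, U₀, _, p, s, u₀, r, hp, hs, hu₀, hsp, hDt, hDa, hDs, -, hu₀c, hup, hur, hru, hUu₀, hU₀s, hU₀c⟩ :=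
    GrothLib.Flag27.hasSplit_of_solvable (GrothLib.Flag27.isSolvable_points hBsolv)
  haveI := hp; haveI := hs; haveI := hu₀; haveI := hDa; haveI := hDs; haveI := hu₀c; haveI := hU₀s; haveI := hU₀c
  haveI : IsAffine U₀.left := isAffine_of_isAffineHom u₀.left
  haveI := GrothLib.Flag27.isAffine_bc f D
  haveI := GrothLib.Flag27.smooth_bc f D
  have hrF : (Over.pullback f).map r ≫ (Over.pullback f).map u₀ =
      𝟙 _ * ((Over.pullback f).map p ≫ (Over.pullback f).map s)⁻¹ := by
    rw [← Functor.map_comp, hru, Functor.map_mul, Functor.map_inv', Functor.map_comp, CategoryTheory.Functor.map_id]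
  have hl := GrothLib.Flag27.exists_lift_unipPart hU (GrothLib.Flag27.isTorus_bc_field f hDt)
    ((Over.pullback f).map p) ((Over.pullback f).map s) ((Over.pullback f).map u₀) ((Over.pullback f).map r) hrF φ
  haveI : IsClosedImmersion (φ ≫ (Over.pullback f).map r).left := by
    haveI : IsClosedImmersion (φ ≫ (Over.pullback f).map iB).left := by
      rw [hφ]; exact GrothLib.Flag27.isClosedImmersion_conjBy g uN
    haveI : IsClosedImmersion ((φ ≫ (Over.pullback f).map r).left ≫
        ((Over.pullback f).map u₀ ≫ (Over.pullback f).map iB).left) := by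
      rw [← Over.comp_left, ← Category.assoc, hl]; infer_instance
    haveI : IsClosedImmersion ((Over.pullback f).map u₀).left := GrothLib.Flag27.property_map f u₀ hu₀c
    exact IsClosedImmersion.of_comp _ ((Over.pullback f).map u₀ ≫ (Over.pullback f).map iB).left
  refine ⟨U₀, inferInstance, u₀ ≫ iB ≫ i ≫ j, inferInstance,
    inferInstanceAs (IsClosedImmersion (u₀.left ≫ iB.left ≫ i.left ≫ j.left)), hU₀s, inferInstance, hU₀c,
    hasNoSubtorus_of_isUnip hUu₀, ?_⟩
  refine (φ ≫ (Over.pullback f).map r).left.isEmbedding.topologicalKrullDim_le.trans (le_of_eq ?_)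
  subst hfdef
  exact dim_bc U₀

/-- Unipotent subgroups survive base change. -/
theorem exists_unip_sub_bc {G U : Over (Spec (CommRingCat.of k))} [GrpObj G] [GrpObj U] (u : U ⟶ G) [IsMonHom u]
    [IsClosedImmersion u.left] [Smooth U.hom] [IsAffine U.left] [ConnectedSpace U.left] (hU : Red.HasNoSubtorus k U) :
    ∃ (V : Over (Spec (CommRingCat.of F))) (_ : GrpObj V)
      (v : V ⟶ Red.bc (Spec.map (CommRingCat.ofHom (algebraMap k F))) G), IsMonHom v ∧ IsClosedImmersion v.left ∧
      Smooth V.hom ∧ IsAffine V.left ∧ ConnectedSpace V.left ∧ Red.HasNoSubtorus F V ∧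
      topologicalKrullDim ↥V.left = topologicalKrullDim ↥U.left := by
  let f := Spec.map (CommRingCat.ofHom (algebraMap k F))
  exact ⟨Red.bc f U, inferInstance, (Over.pullback f).map u, inferInstance,
    GrothLib.Flag27.property_map f u ‹IsClosedImmersion u.left›, GrothLib.Flag27.smooth_bc f U,
    GrothLib.Flag27.isAffine_bc f U, GrothLib.Flag27.connectedSpace_bc f U,
    hasNoSubtorus_bc_of_isUnip f (GrothLib.Flag27.isUnip_of_noSubtorus hU).1, dim_bc U⟩

end GrothLib.Chev24
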